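import Cfsg.Agent.H5.Tw2

/-! Gross's theorem: a cyclic group of order `2 ^ n` acting without fixed points on a solvable group forces Fitting height
at most `2n - 2` (`lns_of_two_pow`). Tools: `vanish_of_inertia`, `coreF`, `glaub_le`, `three_mod`. -/

set_option autoImplicit false
open Cfsg H18 H19 Subgroup
open H1 (Cop cop_of_pi cop_of_pi')
open scoped commutatorElement ComplexConjugate

namespace H5
end H5
open H5
namespace H5
variable {G : Type*} [Group G] {A B D H K L M P Q R U V X Y Z : Subgroup G} {x y c g a d : G} {p q r : ℕ}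
  {θ χ ψ φ ξ : G → ℂ}

theorem three_mod (hA : A ≤ N(K)) (hB : B ≤ N(K)) (hH : H ≤ N(K)) (h1 : ⁅⁅B, H⁆, A⁆ ≤ K) (h2 : ⁅⁅H, A⁆, B⁆ ≤ K) :
    ⁅⁅A, B⁆, H⁆ ≤ K := by
  have a : ∀ {X Y Z : Subgroup G}, X ≤ N(K) → Y ≤ N(K) → Z ≤ N(K) → (⁅⁅X, Y⁆, Z⁆ ≤ K ↔ ⁅⁅X ⫽ K, Y ⫽ K⁆, Z ⫽ K⁆ = ⊥) :=
    fun a b c => by rw [comm_le_iff_quo (comm_le_of_le a b) c, mim_comm a b, comm_eq_bot_iff]
  exact (a hA hB hH).2 (three_subgroup ((a hB hH hA).1 h1) ((a hH hA hB).1 h2))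

variable [Finite G]
theorem vanish_of_inertia [Fintype G] (hQ : Q ⊴ L) (hχ : χ ∈ irr L) (hθ : θ ∈ irr Q) (h1 : ip Q θ χ ≠ 0) (hM : M ⊴ L)
    (hI : L ⊓ inertia Q θ ≤ M) (hx : x ∉ M) : χ x = 0 := by
  have hQM : Q ≤ M := (le_inf hQ.le (le_inertia (cf_of_irr hθ))).trans hI
  have e1 : ip M (ind Q M θ) (res M χ) ≠ 0 := by
    rw [ip_ind_res (cf_of_irr hθ) (res_mem_cf hM.le (cf_of_irr hχ)), res_res hQM, ip_res_right (irr_supp hθ)]
    exact h1
  obtain ⟨ψ, hψ, e2, e3⟩ := exists_common_constituent (ind_mem_cf' hQM (cf_of_irr hθ)) e1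
  rw [ip_ind_res (cf_of_irr hθ) (cf_of_irr hψ), ip_res_right (irr_supp hθ)] at e2
  obtain ⟨e4, -⟩ := H8.ind_mem_irr_of_inertia hQM hM.le hQ.norm hθ (fun g ⟨hg, hg'⟩ =>
    hI ⟨hg, hQ.norm hg, cfcj_eq_iff_stabf.1 hg'⟩) hψ (by rw [ip_res_left (irr_supp hθ)]; exact ip_ne_zero_comm.1 e2)
  rw [← irr_eq_of_ip_ne_zero e4 hχ (by rw [ip_ind_res (cf_of_irr hψ) (cf_of_irr hχ)]; exact e3)]
  exact ind_supp_nml hM.norm (irr_supp hψ) x hx

theorem coreF (hB : Cyc B) (hB2 : PiGrp {2} B) (hR : Nat.card R = 2) (hRB : R < B) (hχ : χ ∈ chars L) (hBL : B ≤ L)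
    (hs : fx R χ = fx B χ) (hQL : Q ≤ L) (hQ : PiGrp {q} Q) (hc : Cop B Q) (hx : ∀ e, 0 < e → q ^ e + 1 ≠ Nat.card B) :
    ⁅Q, R⁆ ≤ charKer χ := by
  have := Fintype.ofFinite G
  have hRp : (Nat.card R).Prime := hR ▸ Nat.prime_two
  obtain ⟨M, hRM, hM, h2⟩ := hB2.exists_index_p hRB
  have hc2 : (Nat.card B : ℂ) = Nat.card M * 2 := by rw [← card_mul_relIndex hM.le, h2]; simp
  refine core_ind (fun ψ => fx R ψ = fx B ψ) (hB.abel.nml hRB.le) hχ hBL (fun M _ hB' ψ hψ h => fx_eq_of_sub (chars_of_irr hψ)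
    h hRB.le hB' (by rwa [fx_res hB', fx_res (hRB.le.trans hB')])) (fun Q hQ hc e ψ hψ hs hd => ?_) Q hQL hQ hc
  obtain ⟨θ, hθ, h1⟩ := exists_irr_under le_sup_left (chars_of_irr hψ) (irr_ne_zero hψ)
  have hsd := sd_sup hc.norm hc.inf_eq_bot'
  have hs2 := fx_eq_iff.1 (fx_eq_of_between (chars_of_irr hψ) hRM hM.le le_sup_right hs)
  have hs3 := fx_eq_iff.1 (rfl : fx B ψ = _)
  by_cases hQ0 : Q = ⊥
  · exact hQ0 ▸ bot_le
  rcases (inf_le_left : B ⊓ inertia Q θ ≤ B).lt_or_eq with hI | hI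
  · have a1 : B ⊓ inertia Q θ ≤ M := (hB.total hB2 hI.le hM.le).elim id fun h =>
      ((eq_or_eq_of_prime_relIndex (h2 ▸ Nat.prime_two) h hI.le).resolve_right hI.ne).le
    have a2 : ∑ x ∈ els M, ψ x = ∑ x ∈ els B, ψ x :=
      Finset.sum_subset (fun x hx => mem_els.2 (hM.le (mem_els.1 hx))) fun x hx hx' =>
        vanish_of_inertia hsd.nml hψ hθ h1 (M := Q ⊔ M) (nml_of_der_le ((hsd.abel_iff.1 hB.abel).trans le_sup_left)
          (sup_le_sup_left hM.le _)) (by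
            rw [Nrm2.modular (Or.inr hc.norm) (le_inertia (cf_of_irr hθ))]; exact sup_le_sup_left a1 _) fun e => hx' (by
          have : x ∈ (Q ⊔ M) ⊓ B := ⟨e, mem_els.1 hx⟩
          rw [Nrm2.modular' (Or.inr (hM.le.trans hc.norm)) hM.le, hsd.inf, bot_sup_eq] at this
          exact mem_els.2 this)
    rw [hs2, hs3, hc2] at a2
    have a3 : fx R ψ = 0 := hs ▸ mul_left_cancel₀ (card_ne_zero M) (by linear_combination -a2)
    refine e ▸ corePrime hRp (chars_of_irr hψ) (hRB.le.trans le_sup_right) (fx_eq_zero.1 a3) le_sup_left hQ (hc.left hRB.le)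
      fun f hf e1 => ?_
    have := Nat.one_lt_pow hf.ne' (hQ.prime hQ0).one_lt
    omega
  obtain rfl := res_eq_of_abel (hI.ge.trans inf_le_right) hc.cop.symm hB.abel hψ hθ h1
  have a1 := chars_sub_irr (ind_mem_chars hM.le (triv_mem_chars M)) (triv_mem_irr B) (by
    rw [ip_ind_left _ _ fun g hg => cf_conj (triv_mem_cf B) hg, ← ip_res_right (fun x hx => triv_of_not_mem hx),
      res_triv hM.le, ip_triv_triv]; simp)
  rw [ind_triv_nml hM, h2] at a1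
  have a2 := chars_mul (infl_mem_chars hc.norm hsd.inf a1) (chars_of_irr hψ)
  set ε := ((2 : ℕ) : ℂ) • triv M - triv B with hε
  have a3 : ∀ x ∈ Q, (infl Q ε * ψ) x = ψ x := fun x hx => by
    have := infl_mul hsd.inf a1.1 hx B.one_mem
    rw [mul_one] at this
    rw [Pi.mul_apply, this, hε]; simp [triv_one]; norm_num
  have a4 : res Q (infl Q ε * ψ) = res Q ψ := eq_of_eqOn (res_supp _ _) (res_supp _ _) fun x hx => by
    rw [res_of_mem _ hx, res_of_mem _ hx, a3 x hx]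
  have a5 := der_le_zth le_sup_left (chars_of_irr hψ) hθ hd
  rcases deg_cases hB.abel (hRB.ne_bot) hQ hc a2 (a4 ▸ hθ) (a4 ▸ a5) (fun x hx hx1 => by
    rw [a4, ← C_zpowers]
    refine ((inf_le_inf_left _ (C_anti ?_)).trans ((hc.left hRB.le).cent_le_of_comm_eq e)).trans a5
    exact prime_le_of_inf_ne_bot hRp (hB.inf_ne_bot hB2 hRB.le (zpowers_le_of_mem hx) (ne_bot_of_prime hRp)
      (by simpa using hx1))) (by
    rw [Finset.sum_congr rfl (g := fun x => 2 * res M ψ x - ψ x) fun x hx => by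
        rw [Pi.mul_apply, infl_of_mem hsd.inf a1.1 (mem_els.1 hx), hε, ← mul_triv]
        simp [triv_of_mem (mem_els.1 hx)]; ring,
      Finset.sum_sub_distrib, ← Finset.mul_sum, ← Finset.sum_subset (fun x hx => mem_els.2 (hM.le (mem_els.1 hx)))
        fun x _ hx' => res_of_not_mem _ fun e => hx' (mem_els.2 e),
      Finset.sum_congr rfl fun x hx => res_of_mem _ (mem_els.1 hx), hs2, hs3, hc2]
    ring) with h | ⟨f, h1, -, h2, -⟩
  · intro x hx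
    rw [H1.mem_charKer_iff (chars_of_irr hψ) (mem_sup_left hx), ← a3 x hx, ← a3 1 Q.one_mem]
    exact apply_eq_of_mem_charKer (h (comm_mono le_rfl hRB.le (e.ge hx)))
  · exact (hx f h1 h2).elim

theorem glaub_le (hQ : Q ⊴ L) (hψ : ψ ∈ chars L) (hθ : res Q ψ ∈ irr Q) (hx : x ∈ L)
    (hc : (orderOf x).Coprime (Nat.card Q)) : ‖ψ x‖ ^ 2 ≤ (zth Q (res Q ψ)).relIndex (Q ⊓ C1(x)) := by
  have := Fintype.ofFinite G
  have h1 := H8.Glaub.ip_theta_self hQ.le hQ.norm hx hc rfl hψ hθ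
  have h0 : ψ 1 ≠ 0 := by simpa using irr_apply_one_ne_zero hθ
  rw [H8.Glaub.ip_theta_eq_sum, inv_mul_eq_iff_eq_mul₀ (card_ne_zero _), mul_one,
    Finset.sum_congr rfl (g := fun c => ((‖ψ (c * x)‖ ^ 2 : ℝ) : ℂ)) fun c _ => by rw [Complex.mul_conj']; simp] at h1
  have h2 : ∑ c ∈ els (Q ⊓ C1(x)), ‖ψ (c * x)‖ ^ 2 = Nat.card ↥(Q ⊓ C1(x)) := by exact_mod_cast h1
  set W := zth Q (res Q ψ) ⊓ (Q ⊓ C1(x)) with hW
  have h3 : ∑ c ∈ els W, ‖ψ (c * x)‖ ^ 2 = Nat.card W * ‖ψ x‖ ^ 2 := by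
    rw [Finset.sum_congr rfl (g := fun _ => ‖ψ x‖ ^ 2) fun c hc => by
      have h2 := norm_of_mem_zth hθ (mem_els.1 hc).1
      rw [res_of_mem _ (mem_els.1 hc).2.1, res_one] at h2
      rw [norm_mul_of_norm hψ h0 (hQ.le (mem_els.1 hc).2.1) h2]]
    rw [Finset.sum_const, card_els, nsmul_eq_mul]
  refine le_of_mul_le_mul_left ?_ (card_posR W)
  rw [← h3, ← Nat.cast_mul, card_mul_relIndex', ← h2]
  exact Finset.sum_le_sum_of_subset_of_nonneg (fun c hc => mem_els.2 (mem_els.1 hc).2) fun _ _ _ => by positivity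

theorem eq_neg_one (h : ∀ x ∈ B, x ≠ 1 → ‖χ x‖ = 1) (hs : ∑ x ∈ els B, χ x = 0) (h1 : χ 1 + 1 = Nat.card B) (hx : x ∈ B)
    (hx1 : x ≠ 1) : χ x = -1 := by
  classical
  have a1 : ∑ y ∈ (els B).erase 1, (1 + (χ y).re) = 0 := by
    have b1 := H1.sum_els_erase (R := B) fun y => 1 + χ y
    rw [Finset.sum_add_distrib, hs, sum_els_const, ← h1] at b1
    have b2 : ∑ y ∈ (els B).erase 1, (1 + χ y) = 0 := by linear_combination -b1
    simpa using congrArg Complex.re b2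
  have a2 := (Finset.sum_eq_zero_iff_of_nonneg fun y hy => by
    have := (abs_le.1 (h y (mem_els.1 (Finset.mem_of_mem_erase hy)) (Finset.ne_of_mem_erase hy) ▸
      Complex.abs_re_le_norm (χ y))).1
    linarith).1 a1 x (Finset.mem_erase.2 ⟨hx1, mem_els.2 hx⟩)
  have a3 := Complex.sq_norm (χ x)
  rw [h x hx hx1, Complex.normSq_apply] at a3
  have a4 : (χ x).re = -1 := by linarith
  refine Complex.ext (by simpa using a4) ?_
  rw [a4] at a3
  simpa using mul_self_eq_zero.1 (by linarith : (χ x).im * (χ x).im = 0)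

theorem mem_ker_of_under [Fintype G] (hφ : φ ∈ irr Q) (h : ip M θ φ ≠ 0) (hθ : θ ∈ cf M) (h1 : x ∈ zth Q φ)
    (h2 : x ∈ cfker M θ) : x ∈ cfker Q φ := by
  have a := ip_eq_sum_els (cf_supp hθ) φ
  rw [← sum_els_mul_left h2.1, Finset.sum_congr rfl (g := fun y => conj (φ x / φ 1) * (θ y * conj (φ y))) fun y _ => by
    rw [cfker_mul h2, mul_of_mem_zth hφ h1, map_mul]; ring, ← Finset.mul_sum, mul_left_comm,
    ← ip_eq_sum_els (cf_supp hθ)] at a
  have b := (mul_eq_right₀ h).1 a.symm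
  rw [map_eq_one_iff _ (RingHom.injective _), div_eq_one_iff_eq (irr_apply_one_ne_zero hφ)] at b
  exact (mem_cfker_of_irr hφ).2 ⟨h1.1, b⟩

theorem Ty.cent_eq (y : Ty A Q K B ψ) (hB : Cyc B) (hQ : PiGrp {q} Q) (hc : Cop A Q) (hRB : R ≤ B)
    (hR : ∀ x ∈ B, x ≠ 1 → R ≤ zpowers x) (hd : ⁅Q, Q⁆ ≤ cm Q Q K) (hne : ¬ ⁅Q, R⁆ ≤ K) :
    (Q ⊓ C(R)) ⫽ cm Q Q K = (Q ⊓ C(B)) ⫽ cm Q Q K ∧ ∃ e, 0 < e ∧ q ^ e + 1 = Nat.card B := by
  have := Fintype.ofFinite G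
  have hBT := y.le_TK hc.norm
  obtain rfl := y.ker
  have hφ := y.rirr
  set K := cfker Q (res Q ψ) with hK
  set Z := cm Q Q K with hZ
  have nK : K ⊴ Q := cfker_nml (cf_of_irr hφ)
  have nZ : Z ⊴ Q := zth_nml hφ
  have cB := hc.left y.lt.le
  have cR := cB.left hRB
  have bK : B ≤ N(K) := hBT.trans TK_le
  have bZ : B ≤ N(Z) := norm_cm cB.norm cB.norm bK
  have zB : ⁅Z, B⁆ ≤ K := (comm_mono le_rfl hBT).trans (comm_TK nK)
  have zQ : ⁅Z, Q⁆ ≤ K := comm_zth_le hφ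
  have hRQ : ⁅Q, R⁆ ≤ Q := comm_le_left cR.norm
  set M := ⁅Q, R⁆ ⊔ Z with hM
  have hMQ : M ≤ Q := sup_le hRQ nZ.le
  have bM : B ≤ N(M) := norm_sup (norm_comm cB.norm (hB.abel.norm hRB)) bZ
  have a1 : M ⊓ C(R) ≤ Z := by
    rw [← quo_eq_bot_iff ((inf_le_left.trans hMQ).trans nZ.norm), eq_bot_iff,
      ← H1.abel_comm_inf_cent ((abel_quo_iff nZ.norm).2 hd) (mim_norm cR.norm) (coprime_mim cR.cop),
      ← mim_comm nZ.norm (hRB.trans bZ), ← quo_sup_self (hRQ.trans nZ.norm)]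
    exact mim_inf_C_le
  have a2 : ⁅M, Q ⊓ C(R)⁆ ≤ K := comm_sup_le (three_mod nK.norm (hRB.trans bK) (inf_le_left.trans nK.norm)
    (by rw [comm_eq_bot_iff.2 (cent_symm inf_le_right)]; simp)
    ((comm_mono ((comm_mono inf_le_left le_rfl).trans hd) hRB).trans zB)) ((comm_mono le_rfl inf_le_left).trans zQ)
    (hRQ.trans nK.norm) (nZ.le.trans nK.norm)
  have a3 : M ⊔ (Q ⊓ C(R)) = Q := le_antisymm (sup_le hMQ inf_le_left) (cR.le_sup_of_comm_le le_sup_left)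
  have a4 : ∀ X ≤ M, ⁅X, M⁆ ≤ K → X ≤ Z := fun X h1 h2 => le_zth hφ (h1.trans hMQ) ((comm_mono le_rfl a3.ge).trans
    (comm_sup_le' h2 ((comm_mono h1 le_rfl).trans a2) (hMQ.trans nK.norm) (inf_le_left.trans nK.norm)))
  have hMM : ⁅M, M⁆ ≤ Z := (comm_mono hMQ hMQ).trans hd
  have hl : M ⊔ B ≤ Q ⊔ B := sup_le_sup_right hMQ _
  have hr := res_mem_chars hl (chars_of_irr y.irr)
  have cM := cB.sub hMQ bM
  have key : ∀ η ∈ H19.irr (M ⊔ B), ip (M ⊔ B) (res (M ⊔ B) ψ) η ≠ 0 → ∃ e, 0 < e ∧ q ^ e + 1 = Nat.card B ∧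
      (q ^ e) ^ 2 ≤ Z.relIndex M ∧ ∀ x ∈ B, x ≠ 1 → (q ^ e : ℕ) * η x = -η 1 := fun η hη h1 => by
    obtain ⟨θ, hθ, h2⟩ := exists_irr_under le_sup_left (chars_of_irr hη) (irr_ne_zero hη)
    have h3 : ip M θ (res Q ψ) ≠ 0 := by
      have := ip_ne_zero_trans le_sup_left (chars_of_irr hθ) hr hη h1 h2
      rwa [← ip_res_right (irr_supp hθ), res_res le_sup_left, ← res_res hMQ, ip_res_right (irr_supp hθ)] at this
    have b1 : K ≤ cfker M θ := le_cfker_of_under hMQ hθ (chars_of_irr hφ) h3 ((cfker_le_zth hφ).trans le_sup_right) le_rfl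
    have b2 : ∀ x ∈ Z, x ∈ cfker M θ → x ∈ K := fun x h h' => mem_ker_of_under hφ h3 (cf_of_irr hθ) h h'
    have b3 : zth M θ ≤ Z := a4 _ cm_le fun x hx => b2 x (hMM (comm_mono cm_le le_rfl hx)) (comm_zth_le hθ hx)
    have b4 : cfker M θ = K := le_antisymm (fun x hx => b2 x (b3 (cfker_le_zth hθ hx)) hx) b1
    have b5 : Z ≤ zth M θ := le_zth hθ le_sup_right (((comm_mono le_rfl hMQ).trans zQ).trans b1)
    have b6 : B ≤ inertia M θ := (le_inf bM (le_cm le_rfl (cm_le.trans (cfker_nml (cf_of_irr hθ)).norm) (b4 ▸ bK)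
      (comm_comm.le.trans (((comm_mono b3 le_rfl).trans zB).trans b1)))).trans (TK_le_inertia hθ (hMM.trans b5))
    obtain rfl := res_eq_of_abel b6 cM.cop.symm hB.abel hη hθ h2
    have b7 := sum_eq_zero_of_sub (chars_of_irr hη) (chars_sub_irr hr hη h1) le_sup_right y.sum
    rcases deg_cases hB.abel y.ne (hQ.of_le hMQ) cM (chars_of_irr hη) hθ (hMM.trans b5) (fun x hx hx1 => by
      rw [← C_zpowers]; exact ((inf_le_inf_left _ (C_anti (hR x hx hx1))).trans a1).trans b5) b7 with h | ⟨e, c1, c2, c3, c4⟩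
    · refine (hne ?_).elim
      rw [← cR.comm_comm, ← b4, cfker_res_chars (chars_of_irr hη) le_sup_left]
      have c := comm_mono (le_sup_left : ⁅Q, R⁆ ≤ M) hRB
      exact fun x hx => ⟨comm_le_left bM (c hx), mem_sup_left (comm_le_left bM (c hx)), h (c hx)⟩
    refine ⟨e, c1, c3, ?_, fun x hx hx1 => ?_⟩
    · rw [sq_deg hθ (hMM.trans b5) (by rw [res_one, c2])]
      exact relIndex_le_of_le_left b5 relIndex_ne_zero
    · rw [eq_neg_one c4 b7 (by rw [c2, ← c3]; simp) hx hx1, c2]; simp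
  obtain ⟨η, hη, h1⟩ := exists_irr_ip_ne_zero (cf_of_chars hr) fun e => irr_apply_one_ne_zero y.irr (by
    simpa using congrFun e 1)
  obtain ⟨e, c1, c2, c3, -⟩ := key η hη h1
  refine ⟨?_, e, c1, c2⟩
  obtain ⟨b, rfl⟩ := hB.gen
  have hb : b ≠ 1 := by simpa using y.ne
  have d1 : (q ^ e : ℕ) * ψ b = -ψ 1 := by
    rw [← res_of_mem ψ (mem_sup_right (mem_zpowers b) : b ∈ M ⊔ zpowers b), ← res_one (M ⊔ zpowers b) ψ,
      cf_apply_eq_sum (cf_of_chars hr), cf_apply_eq_sum (cf_of_chars hr) 1, Finset.mul_sum, ← Finset.sum_neg_distrib]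
    refine Finset.sum_congr rfl fun η hη => ?_
    by_cases h0 : ip (M ⊔ zpowers b) (res (M ⊔ zpowers b) ψ) η = 0
    · simp [h0]
    obtain ⟨f, -, d1, -, d2⟩ := key η hη h0
    rw [mul_left_comm, show q ^ e = q ^ f by omega, d2 b (mem_zpowers b) hb, mul_neg]
  obtain ⟨n, -, hn⟩ := irr_exists_apply_one hφ
  have d2 := sq_deg hφ hd hn
  rw [res_one] at hn
  have d3 : ((q ^ e : ℕ) : ℝ) * ‖ψ b‖ = n := by simpa [hn] using congrArg norm d1
  have d4 := glaub_le (nml_sup_left cB.norm) (chars_of_irr y.irr) hφ (mem_sup_right (mem_zpowers b))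
    (card_zpowers' (x := b) ▸ cB.cop)
  have d5 : n ^ 2 ≤ Z.relIndex M * Z.relIndex (Q ⊓ C1(b)) := by
    have : ((n : ℝ)) ^ 2 ≤ Z.relIndex M * Z.relIndex (Q ⊓ C1(b)) := by
      rw [← d3, mul_pow]
      exact mul_le_mul (by exact_mod_cast c3) d4 (by positivity) (by positivity)
    exact_mod_cast this
  rw [d2, ← relIndex_tower (le_sup_right : Z ≤ M) hMQ] at d5
  have d6 := Nat.le_of_mul_le_mul_left d5 relIndex_pos
  refine (eq_of_card_ge (mim_mono (inf_le_inf_left _ (C_anti hRB))) ?_).symm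
  rw [card_quo (inf_le_left.trans nZ.norm), card_quo (inf_le_left.trans nZ.norm), C_zpowers]
  refine le_trans ?_ d6
  have d7 := Nrm2.relIndex_sup' (A := M) (B := Q ⊓ C(R)) (Or.inr (inf_le_left.trans (norm_sup norm_comm_left nZ.norm)))
  rw [a3] at d7
  rw [d7, ← relIndex_inf_right (A := M)]
  exact relIndex_le_of_le_left (fun x hx => a1 ⟨hx.1, hx.2.2⟩) relIndex_ne_zero

theorem Tw.core2 (t : Tw r q A P Q V) (hA : Cyc A) (hA2 : PiGrp {2} A) (hR : Nat.card R = 2)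
    (hR' : ∀ x ∈ A, x ≠ 1 → R ≤ zpowers x) (e1 : ⁅P, R⁆ = P) (e : ⁅Q, P⁆ = Q) (h2 : ⁅⁅Q, Q⁆, Q⁆ ≤ C(V)) : Q ≤ C(V) := by
  by_contra hne
  obtain ⟨K, hK⟩ := exists_MK hne
  have ha : ∀ B < A, Abel B := fun B hB => hA.abel.mono hB.le
  have a0 : ∀ {K B ψ}, Ty A Q K B ψ → R ≤ B := fun y => by
    obtain ⟨x, hx, hx1⟩ := exists_mem_ne_one' y.ne
    exact (hR' x (y.lt.le hx) hx1).trans (zpowers_le_of_mem hx)
  obtain ⟨B, ψ, y⟩ := t.exists_ty hK ha
  have hRB := a0 y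
  have hBT := y.le_TK t.cQ.norm
  have hP : P ≤ TK Q K := e1.ge.trans (commutator_le.2 fun g hg b hb => by
    obtain ⟨B', ψ', y'⟩ := t.exists_ty (hK.cj (t.nQ (inv_mem hg)) (t.nV (inv_mem hg))) ha
    have := y'.le_TK t.cQ.norm (a0 y' hb)
    rw [← cj_TK hK.nml (t.nQ (inv_mem hg)), mem_cj, inv_inv] at this
    exact mul_mem this (inv_mem (hBT (hRB hb))))
  have hd : ⁅Q, Q⁆ ≤ cm Q Q K := y.ker ▸ y.der_le hK t.nV' h2
  obtain ⟨a1, f, hf, a2⟩ := y.cent_eq (hA.of_le y.lt.le) t.piQ t.cQ hRB (fun x hx => hR' x (y.lt.le hx)) hd fun h =>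
    hK.not_le (e.ge.trans (e1 ▸ t.G1 hK.nml fun g hg => (cj_eq_self (TK_le (hP hg))).symm ▸ h))
  set Z := cm Q Q K with hZ
  have nZ : Q ≤ N(Z) := norm_cm le_N le_N hK.nml.norm
  have bZ : B ≤ N(Z) := norm_cm (y.lt.le.trans t.cQ.norm) (y.lt.le.trans t.cQ.norm) (hBT.trans TK_le)
  have pZ : P ≤ N(Z) := norm_cm t.nQ t.nQ (hP.trans TK_le)
  have cB := t.cQ.left y.lt.le
  rw [cB.quo_cent bZ nZ, (cB.left hRB).quo_cent (hRB.trans bZ) nZ] at a1
  have dB : ∀ X ≤ B, Nat.card (X ⫽ Z) = Nat.card X := fun X hX => card_quo_of_disj (hX.trans bZ)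
    (eq_bot_iff.2 ((inf_le_inf hX cm_le).trans cB.inf_eq_bot.le))
  have hq := t.piQ.prime fun e => hne (e ▸ bot_le)
  have hq1 := Nat.one_lt_pow hf.ne' hq.one_lt
  have cP := (t.cP.left y.lt.le).mim (f := coset Z)
  have a3 : P ⫽ Z ≤ C(Q ⫽ Z) := H1.cent_of_forall_lift (L := P ⫽ Z ⊔ B ⫽ Z) t.piQ.solv.mim
    (sup_le (mim_norm t.nQ) (mim_norm cB.norm)) (((coprime_mim t.cPQ.cop.symm).mul_right
      (coprime_mim cB.cop.symm)).coprime_dvd_right (Nrm2.card_sup_dvd (Or.inr cP.norm))) le_sup_left fun ℓ _ χ hχ h => by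
    have := coreF (hA.of_le y.lt.le).mim (hA2.of_le y.lt.le).mim ((dB R hRB).trans hR) (lt_of_le_of_ne (mim_mono hRB) fun e => by
      have := congrArg (fun X : Subgroup (Coset Z) => Nat.card X) e
      simp only [dB R hRB, dB B le_rfl] at this
      omega) hχ le_sup_right (by
        rw [fx_eq_iff.2 (h _ ((mim_mono hRB).trans le_sup_right)), fx_eq_iff.2 (h _ le_sup_right), a1]) le_sup_left
      t.piP.mim cP fun n _ e => by
        rw [dB B le_rfl, ← a2, Nat.add_right_cancel_iff] at e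
        by_cases hP0 : P = ⊥
        · exact hne (by rw [← ‹⁅Q, P⁆ = Q›, hP0]; simp)
        exact t.ne ((Nat.prime_dvd_prime_iff_eq hq (t.piP.prime hP0)).1
          (hq.dvd_of_dvd_pow (e ▸ dvd_pow_self q hf.ne'))).symm
    rwa [← mim_comm pZ (hRB.trans bZ), e1] at this
  have a4 : Q ≤ Z := e.ge.trans ((comm_le_iff_quo nZ pZ).2 (cent_symm a3))
  exact hK.not_le (e.ge.trans ((comm_mono a4 hP).trans (comm_TK hK.nml)))

universe u in
/-- Gross -/
theorem lns_of_two_pow (n : ℕ) : ∀ {G : Type u} [Group G] [Finite G] {A K : Subgroup G},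
    Cyc A → Nat.card A ∣ 2 ^ (n + 2) → Cop A K → Solv K → K ⊓ C(A) = ⊥ → lns (2 * n + 2) K = ⊥ := by
  induction n with
  | zero =>
    intro G _ _ A K hA h hc hs h0
    exact lns_succ_eq_bot_iff.2 (nres_le_der.trans (der_le_fit_of_four hA h hc hs h0))
  | succ n ih =>
    intro G _ _ A K hA h hc hs h0
    have hAp : PiGrp {2} A := (piNat_pow_self Nat.prime_two _).of_dvd h
    by_cases h1 : A = ⊥
    · have : K = ⊥ := by simpa [h1] using h0
      exact eq_bot_iff.2 (lns_le.trans this.le)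
    obtain ⟨R, hR, hRp, hR'⟩ := exists_min_sub hA hAp h1
    obtain ⟨W, hK, -, e, h2, h3⟩ := quo_step hc hR h0
    have h4 := ih hA.mim (Nat.dvd_of_mul_dvd_mul_left two_pos (by rw [← pow_succ']; exact (hRp ▸ h3).trans h)) hc.mim hs.mim h2
    rw [← lns_le_iff hK] at h4
    have h5 := comm_le_fit2 hc hs hA.solv h0 hR.le fun r q P Q V t => by
      have b : ⁅P, R⁆ ≤ P := comm_le_left (hR.le.trans t.cP.norm)
      exact tw_ind (fun _ t' e h2 => t'.core2 hA hAp hRp hR' (t.cP.left hR.le).comm_comm e h2) Q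
        (t.sub b le_rfl (norm_comm t.cP.norm hR.norm) t.cQ.norm (b.trans t.nQ))
    have h6 := (nres_le_iff_nil ((comm_le_left (hR.le.trans hc.norm)).trans fit_nml.norm)).2 (nil_of_le_fit h5)
    rw [show 2 * (n + 1) + 2 = 2 * n + 2 + 2 by ring, lns_add, eq_bot_iff, ← nres_eq_bot_iff.2 (fit_nil (H := K))]
    exact nres_mono ((nres_mono ((le_inf lns_le h4).trans e.le)).trans h6)

end H5
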