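import Cfsg.Agent.H5.Lie2
import Cfsg.Agent.H5.HA
import Cfsg.Agent.H23.Thompson
import Cfsg.Agent.S3781

/-! Consequences of the Lie ring method: fixed points in sections (`exists_S`, `card_quo_cent_le`, `card_le_pow`),
the class of a group with a fixed point free automorphism of prime order (`lcs_of_fpf`), and the derived length
of groups with an automorphism of prime order `p` with at most `p ^ n` fixed points (`dser_pgroup`, `dser_solv`). -/

set_option autoImplicit false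

namespace H5.Lie
open H18 Subgroup _root_.Cfsg
open scoped commutatorElement

universe u
variable {G : Type u} [Group G] [Finite G] {H K P : Subgroup G} {a g : G} {p n : ℕ}

theorem exists_S (hn : H ≤ N(K)) (a : G) : ∃ S ≤ H, (∀ g, g ∈ S ↔ g ∈ H ∧ ⁅a, g⁆ ∈ K) ∧
    Nat.card S ≤ Nat.card K * Nat.card (H ⊓ C1(a) : Subgroup G) := by
  let S : Subgroup G :=
    { carrier := {g | g ∈ H ∧ ⁅a, g⁆ ∈ K}
      one_mem' := ⟨one_mem _, by simp⟩
      mul_mem' := fun {x y} hx hy => ⟨mul_mem hx.1 hy.1, by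
        have := K.mul_mem hx.2 ((mem_normalizer_iff.1 (hn hx.1) _).1 hy.2)
        convert this using 1; simp only [commutatorElement_def]; group⟩
      inv_mem' := fun {x} hx => ⟨inv_mem hx.1, by
        have := (mem_normalizer_iff.1 (hn (H.inv_mem hx.1)) _).1 (K.inv_mem hx.2)
        convert this using 1; simp only [commutatorElement_def]; group⟩ }
  refine ⟨S, fun _ h => h.1, fun _ => Iff.rfl, ?_⟩
  let r : G → G := fun k => Classical.epsilon fun s => s ∈ H ∧ ⁅a, s⁆ = k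
  have hr : ∀ s : S, r ⁅a, s.1⁆ ∈ H ∧ ⁅a, r ⁅a, s.1⁆⁆ = ⁅a, s.1⁆ := fun s =>
    Classical.epsilon_spec (p := fun t => t ∈ H ∧ ⁅a, t⁆ = ⁅a, s.1⁆) ⟨s, s.2.1, rfl⟩
  rw [← Nat.card_prod]
  refine Nat.card_le_card_of_injective (fun s : S => ((⟨⁅a, s.1⁆, s.2.2⟩, ⟨(r ⁅a, s.1⁆)⁻¹ * s,
    H.mul_mem (H.inv_mem (hr s).1) s.2.1, mem_C1.2 ?_⟩) : K × (H ⊓ C1(a) : Subgroup G))) fun s t e => ?_
  · have := (hr s).2
    generalize r ⁅a, s.1⁆ = t at this
    generalize s.1 = s at this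
    simp only [commutatorElement_def] at this
    calc _ = t⁻¹ * a * (a⁻¹ * (a * s * a⁻¹ * s⁻¹)⁻¹ * a) * s := by group
      _ = _ := by rw [← this]; group
  · have h1 : ⁅a, s.1⁆ = ⁅a, t.1⁆ := congrArg (fun z => z.1.1) e
    have h2 : (r ⁅a, s.1⁆)⁻¹ * s = (r ⁅a, t.1⁆)⁻¹ * t := congrArg (fun z => z.2.1) e
    rw [h1] at h2
    exact Subtype.ext (mul_left_cancel h2)

theorem comm_mem_of_norm (ha : a ∈ N(K)) (hg : g ∈ K) : ⁅a, g⁆ ∈ K :=
  K.mul_mem ((mem_normalizer_iff.1 ha _).1 hg) (K.inv_mem hg)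

theorem card_quo_cent_le (hK : K ⊴ H) (ha : a ∈ N(K)) :
    Nat.card (H ⫽ K ⊓ C1(cs K a) : Subgroup (Coset K)) ≤ Nat.card (H ⊓ C1(a) : Subgroup G) := by
  obtain ⟨S, h1, h2, h3⟩ := exists_S hK.norm a
  have hS : K ⊴ S := ⟨fun g hg => (h2 g).2 ⟨hK.le hg, comm_mem_of_norm ha hg⟩, h1.trans hK.norm⟩
  have : H ⫽ K ⊓ C1(cs K a) ≤ S ⫽ K := by
    intro z hz
    obtain ⟨x, hx, rfl⟩ := (mem_quo hK.norm).1 hz.1
    refine mfun_mem_mim ((h2 x).2 ⟨hx, (cs_eq_one_iff (mul_mem (mul_mem (mul_mem ha (hK.norm hx)) (inv_mem ha))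
      (inv_mem (hK.norm hx)))).1 ?_⟩)
    rw [← commutatorElement_def, mfun_comm ha (hK.norm hx), commutatorElement_eq_one_iff_mul_comm]
    exact (mem_C1.1 hz.2).symm
  rw [← card_quo_mul hS] at h3
  exact (card_le this).trans (Nat.le_of_mul_le_mul_left h3 Nat.card_pos)

theorem exists_pow_mem (hK : K ⊴ H) (ha : a ∈ N(K)) (hg : g ∈ H) (h : ⁅a, g⁆ ∈ K) :
    ∃ r, r ∣ Nat.card H ∧ r ≤ Nat.card (H ⊓ C1(a) : Subgroup G) ∧ g ^ r ∈ K := by
  have hn := hK.norm hg
  have : cs K g ∈ H ⫽ K ⊓ C1(cs K a) := ⟨mfun_mem_mim hg, mem_C1.2 (by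
    rw [eq_comm, ← commutatorElement_eq_one_iff_mul_comm, ← mfun_comm ha hn]; exact cs_eq_one h)⟩
  refine ⟨orderOf (cs K g), (orderOf_mfun_dvd hn).trans (H.orderOf_dvd_natCard hg),
    (Nat.le_of_dvd Nat.card_pos (orderOf_dvd_natCard _ this)).trans (card_quo_cent_le hK ha),
    (cs_eq_one_iff (pow_mem hn _)).1 (by rw [mfun_pow hn, pow_orderOf_eq_one])⟩

theorem lcs_succ_nml (i : ℕ) : H.lowerCentralSeries (i + 1) ⊴ H.lowerCentralSeries i :=
  ⟨H.lowerCentralSeries_antitone i.le_succ, (H3.lcs_le i).trans (H3.lcs_nml _).norm⟩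

theorem lcs_pow [Fact p.Prime] {h e i : ℕ} (hH : Hig.{u} p h) (ha : a ∈ N(H)) (hp : a ^ p = 1)
    (he : ∀ r, r ∣ Nat.card H → r ≤ Nat.card (H ⊓ C1(a) : Subgroup G) → r ∣ e) (hi : h ≤ i)
    (hg : g ∈ H.lowerCentralSeries i) : g ^ (p ^ (h + 2) * e) ∈ H.lowerCentralSeries (i + 1) := by
  refine pow_mem_lcs hH (fun s => a ^ s.val) (by simp) (fun s t => by
    rw [ZMod.val_add, ← pow_eq_pow_mod _ hp, pow_add]) (fun s => pow_mem ha _) (fun j x hx hc => ?_) hi hg
  obtain ⟨r, h1, h2, h3⟩ := exists_pow_mem (lcs_succ_nml j) (H3.norm_lcs (K := N(H)) le_rfl _ ha) hx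
    (by simpa [ZMod.val_one] using hc 1)
  obtain ⟨k, rfl⟩ := he r (h1.trans (card_dvd_of_le (H3.lcs_le j))) (h2.trans (card_le (inf_le_inf_right _ (H3.lcs_le j))))
  rw [pow_mul]; exact pow_mem h3 _

theorem lcs_of_fpf (hp : p.Prime) {h : ℕ} (hH : Hig.{u} p h) (ha : a ∈ N(H)) (h1 : a ^ p = 1) (h0 : H ⊓ C1(a) = ⊥) :
    H.lowerCentralSeries h = ⊥ := by
  haveI := Fact.mk hp
  have hz : zpowers a ≤ N(H) := zpowers_le_of_mem ha
  have h0' : H ⊓ C(zpowers a) = ⊥ := by rwa [C_zpowers]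
  have hp' := piGrp_of_fpf hp (piElt_of_pow_eq_one hp h1).zpowers hz h0'
  have hn : Nil H := by
    rcases eq_or_ne a 1 with rfl | ha1
    · have : H = ⊥ := by simpa [C1_one] using h0
      rw [this]; exact nil_bot
    · exact H23.thompson_prime hz (by rwa [card_zpowers', orderOf_eq_prime h1 ha1]) h0'
  have key : ∀ i, h ≤ i → H.lowerCentralSeries i ≤ H.lowerCentralSeries (i + 1) := fun i hi g hg => by
    have := lcs_pow (e := 1) hH ha h1 (fun r h1 h2 => by
      have := Nat.pos_of_dvd_of_pos h1 Nat.card_pos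
      rw [h0, card_bot] at h2; exact Nat.dvd_one.2 (by omega)) hi hg
    refine zpowers_le_of_mem this (mem_zpowers_pow_iff.2 ?_)
    rw [mul_one]
    exact Nat.Coprime.pow_left _ (hp.coprime_iff_not_dvd.2 fun hd => hp'.elt (H3.lcs_le i hg) p hp hd rfl)
  obtain ⟨m, hm⟩ := nil_iff_lcs.1 hn
  have : ∀ d, H.lowerCentralSeries h ≤ H.lowerCentralSeries (h + d) := fun d => by
    induction d with
    | zero => exact le_rfl
    | succ d ih => exact ih.trans (key _ (by omega))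
  exact le_bot_iff.1 ((this m).trans ((H.lowerCentralSeries_antitone (by omega)).trans hm.le))

theorem pow_eq_zero_of_char {R : Type*} [Ring R] (hp : p.Prime) {x : R} {t : ℕ} (h1 : x ^ p = 1) (h2 : (p : R) ^ t = 0) :
    (x - 1) ^ (p * t) = 0 := by
  obtain ⟨r, hr⟩ := (Commute.one_right (x - 1)).exists_add_pow_prime_eq hp
  rw [sub_add_cancel, h1, one_pow, mul_one, add_right_comm, eq_comm, add_eq_right] at hr
  rw [pow_mul, eq_neg_of_add_eq_zero_left hr, mul_assoc, ← mul_neg, (Nat.cast_commute p _).mul_pow, h2, zero_mul]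

omit [Finite G] in
theorem ad_abel (hp : p.Prime) {t : ℕ} (hA : Abel H) (ha : a ∈ N(H)) (h1 : a ^ p = 1) (he : ∀ g ∈ H, g ^ p ^ t = 1)
    (hg : g ∈ H) : (fun g => ⁅a, g⁆)^[p * t] g = 1 := by
  letI : CommGroup H := { (inferInstance : Group H) with mul_comm := hA.comm.is_comm.comm }
  let x : AddMonoid.End (Additive H) := AddMonoidHom.mk'
    (fun v => Additive.ofMul ⟨a * v.toMul.1 * a⁻¹, (mem_normalizer_iff.1 ha _).1 v.toMul.2⟩)
    (fun v w => by rw [← ofMul_mul]; congr 1; ext; simp)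
  have x1 : ∀ m (v : Additive H), (((x ^ m) v).toMul : G) = a ^ m * v.toMul.1 * (a ^ m)⁻¹ := by
    intro m v
    induction m with
    | zero => simp
    | succ m ih =>
      rw [pow_succ']
      show a * ((x ^ m) v).toMul.1 * a⁻¹ = _
      rw [ih, pow_succ']; group
  have x2 : x ^ p = 1 := AddMonoidHom.ext fun v =>
    congrArg Additive.ofMul (Subtype.ext (by simpa [h1] using x1 p v) : ((x ^ p) v).toMul = v.toMul)
  have x3 : ∀ m, ∀ v : H, ((((x - 1) ^ m) (Additive.ofMul v)).toMul : G) = (fun g : G => ⁅a, g⁆)^[m] v := by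
    intro m v
    induction m with
    | zero => simp
    | succ m ih =>
      rw [pow_succ', AddMonoid.End.coe_mul, Function.comp_apply, Function.iterate_succ_apply', ← ih]
      generalize ((x - 1) ^ m) (Additive.ofMul v) = w
      show ((x w - w).toMul : G) = _
      rw [toMul_sub, div_eq_mul_inv]; rfl
  have x4 : (x - 1) ^ (p * t) = 0 := pow_eq_zero_of_char hp x2 (by
    rw [← Nat.cast_pow]
    exact AddMonoidHom.ext fun v => (AddMonoid.End.natCast_apply _ v).trans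
      (congrArg Additive.ofMul (Subtype.ext (he _ v.toMul.2) : v.toMul ^ p ^ t = 1)))
  rw [← x3 _ ⟨g, hg⟩, x4]; rfl

theorem ad_iter (hp : p.Prime) {t : ℕ} (hK : K ≤ H) (hd : ⁅H, H⁆ ≤ K) (ha : a ∈ N(H)) (haK : a ∈ N(K)) (h1 : a ^ p = 1)
    (he : ∀ g ∈ H, g ^ p ^ t ∈ K) (hg : g ∈ H) : (fun g => ⁅a, g⁆)^[p * t] g ∈ K := by
  have hn : H ≤ N(K) := norm_of_comm_le ((comm_mono le_rfl hK).trans hd)
  have it : ∀ m, (fun g => ⁅a, g⁆)^[m] g ∈ H ∧ cs K ((fun g => ⁅a, g⁆)^[m] g) = (fun g => ⁅cs K a, g⁆)^[m] (cs K g) := by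
    intro m
    induction m with
    | zero => exact ⟨hg, rfl⟩
    | succ m ih =>
      rw [Function.iterate_succ_apply', Function.iterate_succ_apply', mfun_comm haK (hn ih.1), ih.2]
      exact ⟨comm_mem_of_norm ha ih.1, rfl⟩
  rw [← cs_eq_one_iff (hn (it _).1), (it _).2]
  refine ad_abel hp ((abel_quo_iff hn).2 hd) (mim_norm (A := N(H)) le_rfl (mfun_mem_mim ha))
    (by rw [← mfun_pow haK, h1, mfun_one]) (fun v hv => ?_) (mfun_mem_mim hg)
  obtain ⟨x, hx, rfl⟩ := (mem_quo hn).1 hv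
  rw [← mfun_pow (hn hx)]; exact cs_eq_one (he x hx)

theorem card_le_pow (hp : p.Prime) {t : ℕ} (hK : K ≤ H) (hd : ⁅H, H⁆ ≤ K) (ha : a ∈ N(H)) (haK : a ∈ N(K)) (h1 : a ^ p = 1)
    (he : ∀ g ∈ H, g ^ p ^ t ∈ K) : K.relIndex H ≤ Nat.card (H ⊓ C1(a) : Subgroup G) ^ (p * t) := by
  have key : ∀ j, ∃ S, K ≤ S ∧ S ≤ H ∧ a ∈ N(S) ∧ (∀ g ∈ H, (fun g => ⁅a, g⁆)^[j] g ∈ K → g ∈ S) ∧
      Nat.card S ≤ Nat.card K * Nat.card (H ⊓ C1(a) : Subgroup G) ^ j := by
    intro j
    induction j with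
    | zero => exact ⟨K, le_rfl, hK, haK, fun _ _ h => h, by simp⟩
    | succ j ih =>
      obtain ⟨S, h1, h2, h3, h4, h5⟩ := ih
      obtain ⟨T, t1, t2, t3⟩ := exists_S (H := H) (norm_of_comm_le ((comm_mono le_rfl h2).trans (hd.trans h1))) a
      have hST : S ≤ T := fun g hg => (t2 g).2 ⟨h2 hg, comm_mem_of_norm h3 hg⟩
      refine ⟨T, h1.trans hST, t1, mem_N_of_cj_le ?_, fun g hg h => (t2 g).2 ⟨hg, h4 _ (comm_mem_of_norm ha hg) h⟩,
        t3.trans (by rw [pow_succ, ← mul_assoc]; exact Nat.mul_le_mul_right _ h5)⟩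
      intro z hz
      obtain ⟨y, hy, rfl⟩ := mem_cj'.1 hz
      simpa [commutatorElement_def] using T.mul_mem (hST ((t2 y).1 hy).2) hy
  obtain ⟨S, -, h2, -, h4, h5⟩ := key (p * t)
  have : S = H := le_antisymm h2 fun g hg => h4 g hg (ad_iter hp hK hd ha haK h1 he hg)
  rw [this, ← card_mul_relIndex hK] at h5
  exact Nat.le_of_mul_le_mul_left h5 Nat.card_pos

def dser (n : ℕ) (H : Subgroup G) : Subgroup G := (fun K => ⁅K, K⁆)^[n] H

omit [Finite G] in
theorem dser_succ : dser (n + 1) H = ⁅dser n H, dser n H⁆ := Function.iterate_succ_apply' _ _ _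
omit [Finite G] in
theorem dser_add {m : ℕ} : dser (m + n) H = dser m (dser n H) := Function.iterate_add_apply _ _ _ _
omit [Finite G] in
theorem dser_le : dser n H ≤ H := by
  induction n with
  | zero => exact le_rfl
  | succ n ih => rw [dser_succ]; exact comm_le_of_le ih ih
omit [Finite G] in
theorem dser_mono (h : K ≤ H) : dser n K ≤ dser n H := by
  induction n with
  | zero => exact h
  | succ n ih => rw [dser_succ, dser_succ]; exact comm_mono ih ih
omit [Finite G] in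
theorem norm_dser (h : K ≤ N(H)) : K ≤ N(dser n H) := by
  induction n with
  | zero => exact h
  | succ n ih => rw [dser_succ]; exact norm_comm ih ih
omit [Finite G] in
theorem dser_le_lcs : dser n H ≤ H.lowerCentralSeries n := by
  induction n with
  | zero => exact le_rfl
  | succ n ih => rw [dser_succ]; exact comm_mono ih dser_le
omit [Finite G] in
theorem mim_dser {Q : Type*} [Group Q] {D : Subgroup G} {f : D →* Q} (h : H ≤ D) : mim f (dser n H) = dser n (mim f H) := by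
  induction n with
  | zero => rfl
  | succ n ih => rw [dser_succ, dser_succ, mim_comm (dser_le.trans h) (dser_le.trans h), ih]
omit [Finite G] in
theorem map_dser {Q : Type*} [Group Q] (f : G →* Q) : (dser n H).map f = dser n (H.map f) := by
  induction n with
  | zero => rfl
  | succ n ih => rw [dser_succ, dser_succ, map_commutator, ih]
omit [Finite G] in
theorem dser_top : dser n (⊤ : Subgroup G) = derivedSeries G n := by
  induction n with
  | zero => rfl
  | succ n ih => rw [dser_succ, ih]; rfl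
theorem dser_of_card (n : ℕ) : ∀ H : Subgroup G, Solv H → Nat.card H ≤ n + 1 → dser n H = ⊥ := by
  induction n with
  | zero => exact fun H _ h => eq_bot_of_card_le H h
  | succ n ih =>
    intro H hs h
    rcases eq_or_ne H ⊥ with rfl | h0
    · exact le_bot_iff.1 dser_le
    · exact ih ⁅H, H⁆ (hs.of_le (comm_le_of_le le_rfl le_rfl)) (by have := card_lt (hs.der_lt h0); omega)

theorem dser_pgroup' (hp : p.Prime) {h : ℕ} (hH : Hig.{u} p h) (hG : IsPGroup p G) [P.Normal] (h1 : a ^ p = 1)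
    (hc : Nat.card (P ⊓ C1(a) : Subgroup G) ≤ p ^ n) : dser (h + 2 + n * (p * (h + 2 + n))) P = ⊥ := by
  haveI := Fact.mk hp
  set k := n * (p * (h + 2 + n)) with hk
  haveI : (dser k P).Normal := normalizer_eq_top_iff.1 (top_le_iff.1 (norm_dser (le_normalizer_of_normal)))
  rw [dser_add]
  refine le_bot_iff.1 (dser_le_lcs.trans (le_of_eq (by_contra fun hne => ?_)))
  have h2 := Cfsg.Agent.S3781.result hG (k + 1) (by omega) (dser k P) ((dser_mono le_top).trans dser_le_lcs) (h + 2) (by omega) hne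
  have hc' := (card_le (inf_le_inf_right C1(a) (dser_le (n := k) (H := P)))).trans hc
  generalize dser k P = L at *
  have ha : ∀ X : Subgroup G, X.Normal → a ∈ N(X) := fun X _ => le_normalizer_of_normal (mem_top a)
  have hl : ∀ i, a ∈ N(L.lowerCentralSeries i) := fun i => H3.norm_lcs (K := N(L)) le_rfl _ (ha L inferInstance)
  have h3 := card_le_pow hp (t := h + 2 + n) (lcs_succ_nml (H := L) (h + 1)).le (comm_mono le_rfl (H3.lcs_le _)) (hl _) (hl _) h1
    (fun g hg => by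
      rw [pow_add]
      refine lcs_pow hH (ha L inferInstance) h1 (fun r h1 h2 => ?_) (by omega) hg
      obtain ⟨m, hm⟩ := (hG.to_subgroup L).exists_card_eq
      obtain ⟨j, -, rfl⟩ := (Nat.dvd_prime_pow hp).1 (hm ▸ h1)
      exact pow_dvd_pow _ ((Nat.pow_le_pow_iff_right hp.one_lt).1 (h2.trans hc')))
  have h4 := (h2.trans h3).trans (Nat.pow_le_pow_left ((card_le (inf_le_inf_right C1(a) (H3.lcs_le _))).trans hc') _)
  rw [← pow_mul, Nat.pow_le_pow_iff_right hp.one_lt] at h4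
  omega

theorem dser_pgroup (hp : p.Prime) {h : ℕ} (hH : Hig.{u} p h) (hP : PiGrp {p} P) (ha : a ∈ N(P)) (h1 : a ^ p = 1)
    (hc : Nat.card (P ⊓ C1(a) : Subgroup G) ≤ p ^ n) : dser (h + 2 + n * (p * (h + 2 + n))) P = ⊥ := by
  have hz : zpowers a ≤ N(P) := zpowers_le_of_mem ha
  have hL : PiGrp {p} (zpowers a ⊔ P) := (piElt_of_pow_eq_one hp h1).zpowers.sup_norm hP hz
  set L := zpowers a ⊔ P
  have hPL : P ≤ L := le_sup_right
  haveI : (P.subgroupOf L).Normal := (normal_subgroupOf_iff_le_normalizer hPL).2 (sup_le hz le_N)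
  have := dser_pgroup' (n := n) (P := P.subgroupOf L) (a := ⟨a, mem_sup_left (mem_zpowers a)⟩) hp hH hL.isPGroup
    (Subtype.ext h1) (le_trans (Nat.card_le_card_of_injective (fun x => ⟨x.1.1, x.2.1, mem_C1.2
      (congrArg Subtype.val (mem_C1.1 x.2.2))⟩) fun x y e => Subtype.ext (Subtype.ext (congrArg (fun z => z.1) e))) hc)
  rw [← map_subgroupOf_eq_of_le hPL, ← map_dser, this, Subgroup.map_bot]

theorem dser_solv (hp : p.Prime) (n : ℕ) : ∃ l, ∀ {G : Type u} [Group G] [Finite G] {H : Subgroup G} {a : G}, Solv H →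
    a ∈ N(H) → a ^ p = 1 → Nat.card (H ⊓ C1(a) : Subgroup G) = p ^ n → dser l H = ⊥ := by
  have hH := hig_gen.{u} hp
  generalize ∑ i ∈ Finset.range (2 ^ (p - 1) - 1), (p - 1) ^ i = h at hH
  refine ⟨h + ((h + 2 + n * (p * (h + 2 + n))) + ((p ^ n) ^ p).factorial), fun {G} _ _ {H a} hs ha h1 hc => ?_⟩
  have hO : a ∈ N(O[{p}ᶜ](H)) := norm_pcore (A := N(H)) le_rfl ha
  have h0 : O[{p}ᶜ](H) ⊓ C1(a) = ⊥ := PiGrp.eq_bot (PiGrp.of_le (piGrp_of_card_pow hp hc) (inf_le_inf_right _ pcore_le))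
    (pcore_pi.of_le inf_le_left)
  rw [dser_add]
  refine le_bot_iff.1 ((dser_mono ?_).trans (dser_le_lcs.trans (lcs_of_fpf hp hH hO h1 h0).le))
  have hn := (pcore_nml (π := {p}ᶜ) (H := H))
  rw [← quo_eq_bot_iff (dser_le.trans hn.norm), mim_dser hn.norm]
  have hc' := (card_quo_cent_le hn hO).trans hc.le
  have hs' : Solv (H ⫽ O[{p}ᶜ](H)) := hs.mim
  have hb : cs (O[{p}ᶜ](H)) a ∈ N(H ⫽ O[{p}ᶜ](H)) := mim_norm (A := N(H)) le_rfl (mfun_mem_mim ha)
  have hb1 : cs (O[{p}ᶜ](H)) a ^ p = 1 := by rw [← mfun_pow hO, h1, mfun_one]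
  have hC := cent_sub_pcore hs' pcore_quo_pcore
  generalize cs (O[{p}ᶜ](H)) a = b at *
  generalize H ⫽ O[{p}ᶜ](H) = L at *
  have hP : PiGrp {p} O[{p}](L) := pcore_pi
  have hPn : O[{p}](L) ⊴ L := pcore_nml
  have hbP : b ∈ N(O[{p}](L)) := norm_pcore (A := N(L)) le_rfl hb
  have hcP := (card_le (inf_le_inf_right C1(b) hPn.le)).trans hc'
  rw [dser_add]
  refine le_bot_iff.1 ((dser_mono ?_).trans (dser_pgroup hp hH hP hbP hb1 hcP).le)
  have hF : Φ(O[{p}](L)) ⊴ L := hPn.phi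
  have hi := (card_le_pow hp (t := 1) phi_le (hP.der_le_phi hp) hbP (norm_phi (A := N(O[{p}](L))) le_rfl hbP) hb1
    (fun g hg => by rw [pow_one]; exact hP.pow_mem_phi hp hg)).trans (Nat.pow_le_pow_left hcP _)
  rw [mul_one, ← card_quo (hPn.le.trans hF.norm)] at hi
  have hLV : L ⫽ Φ(O[{p}](L)) ≤ N(O[{p}](L) ⫽ Φ(O[{p}](L))) := mim_norm hPn.norm
  have key : ⁅dser ((p ^ n) ^ p).factorial L, O[{p}](L)⁆ ≤ Φ(O[{p}](L)) := by
    rw [comm_le_iff_quo (dser_le.trans hF.norm) (hPn.le.trans hF.norm), mim_dser hF.norm]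
    have hs2 : Solv (L ⫽ Φ(O[{p}](L))) := hs'.mim
    generalize L ⫽ Φ(O[{p}](L)) = X at *
    generalize O[{p}](L) ⫽ Φ(O[{p}](L)) = V at *
    have := dser_of_card ((p ^ n) ^ p).factorial (mim V.normalizerMonoidHom X) hs2.mim (by
      refine (Nat.card_le_card_of_injective (fun x => (x.1.toEquiv : Equiv.Perm V)) fun x y e =>
        Subtype.ext (MulEquiv.toEquiv_injective e)).trans ?_
      rw [Nat.card_perm]; exact (Nat.factorial_le hi).trans (Nat.le_succ _))
    rw [← mim_dser hLV, mim_eq_bot_iff (dser_le.trans hLV)] at this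
    intro x hx
    obtain ⟨h1, h2⟩ := mem_mker.1 (this hx)
    rw [mfun_of_mem h1, ← MonoidHom.mem_ker, normalizerMonoidHom_ker] at h2
    exact h2
  refine le_pcore ⟨dser_le, norm_dser le_N⟩ (piGrp_of_elt fun x hx => ?_)
  obtain ⟨y, hy, y1, y2⟩ := exists_pi_decomp {p}ᶜ x
  have hyX := zpowers_le_of_mem hx hy
  have hyL := dser_le hyX
  have : y ∈ O[{p}](L) := hC ⟨hyL, H1.cent_of_comm_le_phi (A := zpowers y) (zpowers_le_of_mem (hPn.norm hyL))
    (PiNat.coprime' y1.zpowers hP) (comm_comm.le.trans ((comm_mono (zpowers_le_of_mem hyX) le_rfl).trans key)) (mem_zpowers y)⟩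
  rw [(hP.elt this).eq_one' y1] at y2
  simpa using y2

end H5.Lie
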