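import Cfsg.Agent.H8.Bs0
import Cfsg.Agent.H1.LiftChar
import Cfsg.Agent.H5.BsF

/-! The dimension eight configuration over `F₃` for bases of size two: the relation `R`, the model `Md`, `out`, the linear map `psi`. -/

set_option autoImplicit false

namespace H5.BsH3
open Subgroup _root_.Cfsg H18 H1 H8.Bs
open scoped commutatorElement
universe u

section Fin
variable {G : Type*} [Group G] {V N B T : Subgroup G} {φ : W → G} {t s n m : G} {a a' b b' a'' : W}

/-- `n` acts on the image of `φ` as `f` -/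
def Acts (φ : W → G) (n : G) (f : W → W) : Prop := ∀ a, n * φ a * n⁻¹ = φ (f a)

structure Md (V N B : Subgroup G) (φ : W → G) : Prop where
  add : ∀ a b, φ (a + b) = φ a * φ b
  inj : Function.Injective φ
  mem : ∀ a, φ a ∈ V ⊓ C(B)
  hA : ∀ n ∈ N, ∃ k, Acts φ n (act k) ∧ (k = 0 → n ∈ B)
  hB : ∀ k, ∃ n ∈ N, Acts φ n (act k)

def R (φ : W → G) (t : G) (a a' : W) : Prop := t * φ a * t⁻¹ = φ a'

theorem Acts.mul {f g : W → W} (h : Acts φ n f) (h' : Acts φ m g) : Acts φ (n * m) (f ∘ g) := fun a => by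
  rw [Function.comp_apply, ← h, ← h']; group

theorem Acts.pow {f : W → W} (h : Acts φ n f) (k : ℕ) : Acts φ (n ^ k) f^[k] := by
  induction k with
  | zero => intro a; simp
  | succ k ih => rw [pow_succ]; exact ih.mul h

theorem Acts.powq {q : P → P} (h : Acts φ n (m4 q)) (k : ℕ) : Acts φ (n ^ k) (m4 q^[k]) := by
  induction k with
  | zero => intro a; simp only [pow_zero, one_mul, inv_one, mul_one]; rfl
  | succ k ih => rw [pow_succ]; exact ih.mul h

theorem Md.zero (h : Md V N B φ) : φ 0 = 1 := by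
  have := h.add 0 0
  rw [add_zero] at this
  exact left_eq_mul.1 this

theorem R.add (h : Md V N B φ) (h1 : R φ t a a') (h2 : R φ t b b') : R φ t (a + b) (a' + b') := by
  unfold R at *
  rw [h.add, h.add, ← h1, ← h2]; group

theorem R.smul (h : Md V N B φ) (c : F) (h1 : R φ t a a') : R φ t (c • a) (c • a') := by
  rcases tri c with rfl | rfl | rfl
  · simp [R, h.zero]
  · simpa only [one_smul] using h1
  · simpa only [add_smul, one_smul] using h1.add h h1

theorem R.lin (h : Md V N B φ) {p q : Fin 8 → W} (h1 : ∀ i, R φ t (p i) (q i)) (c : W) :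
    R φ t (lin p c) (lin q c) :=
  ((((((((h1 0).smul h _).add h ((h1 1).smul h _)).add h ((h1 2).smul h _)).add h ((h1 3).smul h _)).add h
    ((h1 4).smul h _)).add h ((h1 5).smul h _)).add h ((h1 6).smul h _)).add h ((h1 7).smul h _)

theorem R.comp (h1 : R φ s a a') (h2 : R φ t a' a'') : R φ (t * s) a a'' := by
  unfold R at *
  rw [← h2, ← h1]; group

theorem theta (h : Md V N B φ) (ht : t ∈ N(N)) (g : K) :
    ∃ k, ∀ a a', R φ t a a' → R φ t (act g a) (act k a') := by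
  obtain ⟨n, hn, hg⟩ := h.hB g
  obtain ⟨k, hk, -⟩ := h.hA _ (conj_mem_N ht hn)
  refine ⟨k, fun a a' r => ?_⟩
  unfold R at *
  rw [← hg, ← hk, ← r]; group

theorem orb (h : Md V N B φ) (ht : t ∈ N(N)) {f y y' : W} {g : K} {M : ℕ}
    (hM : ∀ k, M.testBit (enc (act k f)) = true) (hf : R φ t f f) (e : y = act g f) (r : R φ t y y') :
    M.testBit (enc y') = true := by
  obtain ⟨k, hk⟩ := theta h ht g
  have := hk _ _ hf
  rw [← e] at this
  rw [h.inj (r.symm.trans this)]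
  exact hM k

theorem fin8 (h : Md V N B φ) {v u : W} {g p k : K} {c s : Fin 8 → W} (hv : R φ t v v) (hu : R φ t u u)
    (h1 : ∀ a a', R φ t a a' → R φ t (act g a) (act g a')) (h2 : ∀ a a', R φ t a a' → R φ t (act p a) (act k a'))
    (e1 : ∀ j, lin (bas v u g p) (c j) = E8 j) (e2 : ∀ j, lin (bas v u g k) (c j) = s j) (a : W) :
    R φ t a (lin s a) := by
  have hb : ∀ i, R φ t (bas v u g p i) (bas v u g k i) := fun i => by
    fin_cases i
    exacts [hv, hu, h1 _ _ hv, h1 _ _ hu, h2 _ _ hv, h2 _ _ hu, h2 _ _ (h1 _ _ hv), h2 _ _ (h1 _ _ hu)]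
  have := R.lin h (p := E8) (q := s) (fun j => by rw [← e1, ← e2]; exact R.lin h hb _) a
  rwa [lin_E8] at this

theorem case1 (h : Md V N B φ) (ht : t ∈ N(N)) (hv : R φ t v0 v0) (hu : R φ t u1 u1) :
    (∀ a, R φ t a a) ∨ ∀ a, R φ t a (lin s1 a) := by
  obtain ⟨k, hk⟩ := theta h ht g1
  obtain rfl : k = g1 := p11 k (orb h ht ov hv r11 (hv.add h (hk _ _ (hv.add h hu))))
    (orb h ht ou1 hu r12 (hu.add h (hk _ _ ((hv.add h hv).add h hu))))
  obtain ⟨l, hl⟩ := theta h ht h1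
  rcases p12 l (orb h ht ou1 hu r13 (((hu.add h hu).add h (hk _ _ hv)).add h
    (hl _ _ (((hv.add h (hk _ _ hv)).add h (hk _ _ hu)).add h (hk _ _ hu))))) with rfl | rfl
  · exact .inl fun a => by simpa only [lin_E8] using fin8 h hv hu hk hl b11 b11 a
  · exact .inr (fin8 h hv hu hk hl b11 b12)

theorem case2 (h : Md V N B φ) (ht : t ∈ N(N)) (hv : R φ t v0 v0) (hu : R φ t u2 u2) :
    (∀ a, R φ t a a) ∨ ∀ a, R φ t a (lin s2 a) := by
  obtain ⟨k, hk⟩ := theta h ht g2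
  obtain rfl : k = g2 := p21 k (orb h ht ou2 hu r21 (hv.add h (hk _ _ hu)))
    (orb h ht ov hv r22 (hu.add h (hk _ _ hv)))
  obtain ⟨l, hl⟩ := theta h ht h2
  rcases p22 l (orb h ht ou2 hu r23 (hv.add h (hl _ _ ((hu.add h hu).add h (hk _ _ hu))))) with rfl | rfl
  · exact .inl fun a => by simpa only [lin_E8] using fin8 h hv hu hk hl b21 b21 a
  · exact .inr (fin8 h hv hu hk hl b21 b22)

theorem out_of (h : Md V N B φ) {u : W} (u0 : u ≠ 0) (hne : ∀ k, act k u ≠ v0)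
    (hT : ∀ t ∈ T, R φ t v0 v0 → R φ t u u → ∀ a, R φ t a a) : Out V N B T := by
  have hr : Rg N B (φ v0) := fun n hn e => by
    obtain ⟨k, hk, h0⟩ := h.hA n hn
    exact h0 (regv k (h.inj ((hk _).symm.trans e)))
  refine ⟨φ v0, h.mem _, φ u, h.mem _, φ v0, h.mem _, hr, hr, fun e => u0 (h.inj (e.trans h.zero.symm)),
    fun n hn e => ?_, fun t ht e1 e2 => ⟨e1, fun n hn => ?_⟩⟩
  · obtain ⟨k, hk, -⟩ := h.hA n hn
    exact hne k (h.inj ((hk _).symm.trans e))
  · obtain ⟨k, hk, -⟩ := h.hA n hn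
    rw [hk]
    exact hT t ht e1 e2 _

theorem out [Finite G] (h : Md V N B φ) (hN : T ≤ N(N)) (h3 : ¬ 3 ∣ Nat.card T) : Out V N B T := by
  by_cases c1 : ∀ t ∈ T, R φ t v0 v0 → R φ t u1 u1 → ∀ a, R φ t a a
  · exact out_of h n1 ne1 c1
  by_cases c2 : ∀ t ∈ T, R φ t v0 v0 → R φ t u2 u2 → ∀ a, R φ t a a
  · exact out_of h n2 ne2 c2
  exfalso
  simp only [not_forall] at c1 c2
  obtain ⟨t, ht, tv, tu, tn⟩ := c1
  obtain ⟨s, hs, sv, su, sn⟩ := c2
  have ht' := (case1 h (hN ht) tv tu).resolve_left (not_forall.2 tn)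
  have hs' := (case2 h (hN hs) sv su).resolve_left (not_forall.2 sn)
  have hσ : ∀ a, R φ (t * s) a (lin s1 (lin s2 a)) := fun a => (hs' a).comp (ht' _)
  have e0 := hσ (E8 0)
  have e1 := hσ a1
  have e2 := hσ a2
  rw [t0] at e0
  rw [t1] at e1
  rw [t2] at e2
  have e3 : (t * s) ^ 3 ∈ C1(φ (E8 0)) := by
    rw [mem_C1, ← mul_inv_eq_iff_eq_mul, pow_three]
    exact (e0.comp e1).comp e2
  have hc : (3 : ℕ).gcd (orderOf (t * s)) = 1 :=
    (Nat.Prime.coprime_iff_not_dvd Nat.prime_three).2 fun d => h3 (d.trans (orderOf_dvd_card (mul_mem ht hs)))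
  have e4 : t * s ∈ C1(φ (E8 0)) := zpowers_le.2 e3 (mem_zpowers_pow_iff.2 hc)
  rw [mem_C1, ← mul_inv_eq_iff_eq_mul] at e4
  exact t3 (h.inj (e0.symm.trans e4))

end Fin

section Lin
variable {E : Type*} [AddCommGroup E] [Module F E] {X Y Z I J : E →ₗ[F] E} {e : E}

def pp (I : E →ₗ[F] E) (e : E) (p : P) : E := p.1 • e + p.2 • I e
def psi (X Y I : E →ₗ[F] E) (e : E) (a : W) : E :=
  (pp I e a.1.1 + Y (pp I e a.1.2)) + X (pp I e a.2.1 + Y (pp I e a.2.2))

theorem pp_add (p q : P) : pp I e (p + q) = pp I e p + pp I e q := by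
  simp only [pp, Prod.fst_add, Prod.snd_add, add_smul]; abel
theorem pp_neg (p : P) : pp I e (-p) = -pp I e p := by
  simp only [pp, Prod.fst_neg, Prod.snd_neg, neg_smul]; abel
theorem pp_zero : pp I e 0 = 0 := by simp [pp]
theorem psi_add (a b : W) : psi X Y I e (a + b) = psi X Y I e a + psi X Y I e b := by
  simp only [psi, Prod.fst_add, Prod.snd_add, pp_add, map_add]; abel
theorem psi_neg (a : W) : psi X Y I e (-a) = -psi X Y I e a := by
  simp only [psi, Prod.fst_neg, Prod.snd_neg, pp_neg, map_add, map_neg]; abel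
theorem psi_x1 (h : ∀ x, X (X x) = x) (a : W) : X (psi X Y I e a) = psi X Y I e (x1 a) := by
  simp only [psi, x1, map_add, h]; abel
theorem psi_x2 (h : ∀ x, Y (Y x) = x) (c : ∀ x, Y (X x) = X (Y x)) (a : W) :
    Y (psi X Y I e a) = psi X Y I e (x2 a) := by
  simp only [psi, x2, map_add, h, c]; abel
theorem pp_fix (h : Z e = e) (c : ∀ x, Z (I x) = I (Z x)) (p : P) : Z (pp I e p) = pp I e p := by
  simp only [pp, map_add, map_smul, c, h]
theorem psi_z1 (h : ∀ p, Z (pp I e p) = pp I e p) (c : ∀ x, Z (X x) = -X (Z x)) (d : ∀ x, Z (Y x) = Y (Z x))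
    (a : W) : Z (psi X Y I e a) = psi X Y I e (z1 a) := by
  simp only [psi, z1, map_add, h, c, d, Prod.fst_neg, Prod.snd_neg, pp_neg, map_neg]
theorem psi_z2 (h : ∀ p, Z (pp I e p) = pp I e p) (c : ∀ x, Z (X x) = X (Z x)) (d : ∀ x, Z (Y x) = -Y (Z x))
    (a : W) : Z (psi X Y I e a) = psi X Y I e (z2 a) := by
  simp only [psi, z2, map_add, h, c, d, pp_neg, map_neg]
theorem psi_m4 {q : P → P} (h : ∀ p, Z (pp I e p) = pp I e (q p)) (c : ∀ x, Z (X x) = X (Z x))
    (d : ∀ x, Z (Y x) = Y (Z x)) (a : W) : Z (psi X Y I e a) = psi X Y I e (m4 q a) := by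
  simp only [psi, m4, map_add, h, c, d]
theorem pp_i (h : ∀ x, I (I x) = -x) (p : P) : I (pp I e p) = pp I e (i0 p) := by
  simp only [pp, i0, map_add, map_smul, h, smul_neg, neg_smul]; abel
theorem pp_j {α β : F} (h : ∀ x, I (I x) = -x) (c : ∀ x, J (I x) = -I (J x)) (hj : J e = pp I e (α, β)) (p : P) :
    J (pp I e p) = pp I e (jj α β p) := by
  simp only [pp, jj, map_add, map_smul, c, hj, h]; module
theorem ab_eq {α β : F} (h : ∀ x, I (I x) = -x) (c : ∀ x, J (I x) = -I (J x)) (hj : J e = pp I e (α, β))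
    (j2 : J (J e) = -e) (e0 : e ≠ 0) : α * α + β * β + 1 = 0 := by
  rw [hj, pp_j h c hj] at j2
  have : (α * α + β * β + 1) • e = 0 := by
    rw [add_smul, one_smul, ← eq_neg_iff_add_eq_zero, ← j2]
    simp only [pp, jj]; module
  exact (smul_eq_zero.1 this).resolve_right e0
theorem pp_inj (h : ∀ x, I (I x) = -x) (e0 : e ≠ 0) {p : P} (hp : pp I e p = 0) : p = 0 := by
  have h1 : pp I e (i0 p) = 0 := by rw [← pp_i h, hp, map_zero]
  have : (p.1 * p.1 + p.2 * p.2) • e = 0 := by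
    calc _ = p.1 • pp I e p - p.2 • pp I e (i0 p) := by simp only [pp, i0]; module
      _ = 0 := by rw [hp, h1]; simp
  obtain ⟨a, b⟩ := sq0 _ _ ((smul_eq_zero.1 this).resolve_right e0)
  exact Prod.ext a b

theorem psi_inj {Z' : E →ₗ[F] E} (h : ∀ x, I (I x) = -x) (e0 : e ≠ 0)
    (hx : ∀ a, X (psi X Y I e a) = psi X Y I e (x1 a)) (hy : ∀ a, Y (psi X Y I e a) = psi X Y I e (x2 a))
    (hz : ∀ a, Z (psi X Y I e a) = psi X Y I e (z1 a)) (hz' : ∀ a, Z' (psi X Y I e a) = psi X Y I e (z2 a)) :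
    Function.Injective (psi X Y I e) := by
  have k0 : ∀ a, psi X Y I e a = 0 → a.1.1 = 0 := fun a ha => by
    have b1 : psi X Y I e (a + z1 a) = 0 := by rw [psi_add, ← hz, ha]; simp
    have b2 : psi X Y I e ((a + z1 a) + z2 (a + z1 a)) = 0 := by rw [psi_add, ← hz', b1]; simp
    have : pp I e (a.1.1 + a.1.1 + (a.1.1 + a.1.1)) = 0 := by
      simpa [psi, z1, z2, pp_zero] using b2
    have h4 := pp_inj h e0 this
    have k : ∀ x y : F, ((x, y) + (x, y) + ((x, y) + (x, y)) : P) = 0 → ((x, y) : P) = 0 := by decide +kernel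
    exact k _ _ h4
  have k1 : ∀ a, psi X Y I e a = 0 → a = 0 := fun a ha => by
    have b1 : psi X Y I e (x1 a) = 0 := by rw [← hx, ha, map_zero]
    have b2 : psi X Y I e (x2 a) = 0 := by rw [← hy, ha, map_zero]
    have b3 : psi X Y I e (x2 (x1 a)) = 0 := by rw [← hy, b1, map_zero]
    exact Prod.ext (Prod.ext (k0 _ ha) (k0 _ b2)) (Prod.ext (k0 _ b1) (k0 _ b3))
  intro a b hab
  rw [← sub_eq_zero]
  exact k1 _ (by rw [sub_eq_add_neg, psi_add, psi_neg, hab, add_neg_cancel])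

end Lin

section Grp
variable {G : Type*} [Group G] {V : Subgroup G}

/-- conjugation as a linear map -/
noncomputable def cj (hV : Elem 3 V) {g : G} (hg : g ∈ N(V)) : EV hV →ₗ[F] EV hV :=
  elemRep hV N(V).subtype (fun g => g.2) ⟨g, hg⟩

variable {hV : Elem 3 V} {g h : G} {hg : g ∈ N(V)} {hh : h ∈ N(V)}

theorem cj_val (x : EV hV) : (cj hV hg x).val = g * x.val * g⁻¹ := rfl
theorem cj_comm (c : Commute g h) (x : EV hV) : cj hV hg (cj hV hh x) = cj hV hh (cj hV hg x) := EV.ext (by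
  simp only [cj_val]
  calc _ = (g * h) * x.val * (g * h)⁻¹ := by group
    _ = _ := by rw [c.eq]; group)
theorem cj_anti (c : ∀ v ∈ V, ⁅g, h⁆ * v * ⁅g, h⁆⁻¹ = v⁻¹) (x : EV hV) :
    cj hV hh (cj hV hg x) = -cj hV hg (cj hV hh x) := by
  rw [eq_neg_iff_add_eq_zero, add_comm, ← eq_neg_iff_add_eq_zero]
  refine EV.ext ?_
  rw [EV.val_neg, ← c _ (EV.mem _)]
  simp only [cj_val, commutatorElement_def]; group
theorem cj_inv (c : g * g = 1) (x : EV hV) : cj hV hg (cj hV hg x) = x := EV.ext (by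
  simp only [cj_val]
  calc _ = (g * g) * x.val * (g * g)⁻¹ := by group
    _ = _ := by rw [c]; group)
theorem cj_neg (c : ∀ v ∈ V, g * g * v * (g * g)⁻¹ = v⁻¹) (x : EV hV) : cj hV hg (cj hV hg x) = -x := EV.ext (by
  rw [EV.val_neg, ← c _ (EV.mem _)]
  simp only [cj_val]; group)

end Grp

end H5.BsH3
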