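import Cfsg.Agent.H5.BsG

/-! The dimension eight configuration over `F₃` for bases of size two: `H5.BsH3.hard8 : H8.Bs.Hard3`. -/

set_option autoImplicit false

namespace H5.BsH3
open Subgroup _root_.Cfsg H18 H1 H8.Bs
open scoped commutatorElement
universe u

theorem Acts.word {G : Type*} [Group G] {φ : W → G} {x₁ x₂ b₁ b₂ i j : G} {q r : P → P} (ax : Acts φ x₁ x1)
    (ay : Acts φ x₂ x2) (az : Acts φ b₁ z1) (az' : Acts φ b₂ z2) (ai : Acts φ i (m4 q)) (aj : Acts φ j (m4 r))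
    (a b c d : Fin 2) (f g : ℕ) :
    Acts φ (x₁ ^ a.1 * (x₂ ^ b.1 * (b₁ ^ c.1 * (b₂ ^ d.1 * (i ^ f * j ^ g))))) (ac a b c d (q^[f] ∘ r^[g])) := by
  have h : Acts φ (i ^ f * j ^ g) (m4 (q^[f] ∘ r^[g])) := (ai.powq f).mul (aj.powq g)
  unfold ac
  exact (ax.pow a.1).mul ((ay.pow b.1).mul ((az.pow c.1).mul ((az'.pow d.1).mul h)))

theorem hard8 : Hard3.{u} := by
  intro G _ _ V N M B T e x₁ x₂ b₁ b₂ i j H hi hj i2 j2 hij hje hM
  have hV := H.el
  have iN := H.MN hi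
  have jN := H.MN hj
  let e' : EV hV := EV.mk hV e H.eV
  let X := cj hV (H.NV H.m1)
  let Y := cj hV (H.NV H.m2)
  let Z := cj hV (H.NV H.m3)
  let Z' := cj hV (H.NV H.m4)
  let I := cj hV (H.NV iN)
  let J := cj hV (H.NV jN)
  have e0 : e' ≠ 0 := fun h => H.e1 (congrArg EV.val h)
  have II : ∀ x, I (I x) = -x := cj_neg i2
  have JI : ∀ x, J (I x) = -I (J x) := cj_anti hij
  obtain ⟨α, β, hJ⟩ : ∃ α β : F, J e' = pp I e' (α, β) := by
    let S : Subgroup G :=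
      { carrier := {g | ∃ p : P, g = (pp I e' p).val}
        one_mem' := ⟨0, by rw [pp_zero]; rfl⟩
        mul_mem' := by
          rintro _ _ ⟨p, rfl⟩ ⟨q, rfl⟩
          exact ⟨p + q, by rw [pp_add]; rfl⟩
        inv_mem' := by
          rintro _ ⟨p, rfl⟩
          exact ⟨-p, by rw [pp_neg]; rfl⟩ }
    have h1 : e ∈ S := ⟨(1, 0), by simp [pp, e']⟩
    have h2 : i * e * i⁻¹ ∈ S := ⟨(0, 1), by simp only [pp, zero_smul, one_smul, zero_add]; rfl⟩
    obtain ⟨p, hp⟩ := sup_le (zpowers_le.2 h1) (zpowers_le.2 h2) hje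
    exact ⟨p.1, p.2, EV.ext hp⟩
  have hab := ab_eq II JI hJ (cj_neg j2 e') e0
  obtain ⟨ci1, ci2, ci3, ci4⟩ := H.cM i hi
  obtain ⟨cj1, cj2, cj3, cj4⟩ := H.cM j hj
  have fx : ∀ {g : G} (hg : g ∈ N(V)), Commute g e → cj hV hg e' = e' := fun hg c => EV.ext (by
    rw [cj_val]; exact mul_inv_eq_iff_eq_mul.2 c.eq)
  have hx := psi_x1 (X := X) (Y := Y) (I := I) (e := e') (cj_inv H.s1)
  have hy := psi_x2 (X := X) (Y := Y) (I := I) (e := e') (cj_inv H.s2) (cj_comm H.c12.symm)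
  have hz := psi_z1 (X := X) (Y := Y) (Z := Z) (pp_fix (I := I) (fx _ H.f1) (cj_comm ci3.symm)) (cj_anti H.a1)
    (cj_comm H.c23.symm)
  have hz' := psi_z2 (X := X) (Y := Y) (Z := Z') (pp_fix (I := I) (fx _ H.f2) (cj_comm ci4.symm))
    (cj_comm H.c14.symm) (cj_anti H.a2)
  have hI := psi_m4 (X := X) (Y := Y) (pp_i (e := e') II) (cj_comm ci1) (cj_comm ci2)
  have hJ' := psi_m4 (X := X) (Y := Y) (pp_j II JI hJ) (cj_comm cj1) (cj_comm cj2)
  let φ : W → G := fun a => (psi X Y I e' a).val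
  have ax : Acts φ x₁ x1 := fun a => congrArg EV.val (hx a)
  have ay : Acts φ x₂ x2 := fun a => congrArg EV.val (hy a)
  have az : Acts φ b₁ z1 := fun a => congrArg EV.val (hz a)
  have az' : Acts φ b₂ z2 := fun a => congrArg EV.val (hz' a)
  have ai : Acts φ i (m4 i0) := fun a => congrArg EV.val (hI a)
  have aj : Acts φ j (m4 (jj α β)) := fun a => congrArg EV.val (hJ' a)
  have mc : ∀ {g : G} (hg : g ∈ N) (x : EV hV), x.val ∈ C(B) → (cj hV (H.NV hg) x).val ∈ C(B) := fun hg x hx =>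
    mul_mem (mul_mem (H.NB hg) hx) (inv_mem (H.NB hg))
  have ms : ∀ (c : F) (x : EV hV), x.val ∈ C(B) → (c • x).val ∈ C(B) := fun c x hx => by
    rcases tri c with rfl | rfl | rfl
    · rw [zero_smul]; exact one_mem _
    · rwa [one_smul]
    · rw [add_smul, one_smul]; exact mul_mem hx hx
  have mp : ∀ p, (pp I e' p).val ∈ C(B) := fun p => mul_mem (ms _ _ H.eB) (ms _ _ (mc iN _ H.eB))
  have mφ : ∀ a, φ a ∈ C(B) := fun a =>
    mul_mem (mul_mem (mp _) (mc H.m2 _ (mp _))) (mc H.m1 _ (mul_mem (mp _) (mc H.m2 _ (mp _))))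
  have aw : ∀ (a b c d : Fin 2) (f : Fin 4) (g : Fin 2),
      Acts φ (x₁ ^ a.1 * (x₂ ^ b.1 * (b₁ ^ c.1 * (b₂ ^ d.1 * (i ^ f.1 * j ^ g.1)))))
        (ac a b c d (i0^[f.1] ∘ (jj α β)^[g.1])) := fun a b c d f g =>
    Acts.word ax ay az az' ai aj a b c d f.1 g.1
  refine out (φ := φ) ⟨fun a b => congrArg EV.val (psi_add a b),
    fun a b h => psi_inj II e0 hx hy hz hz' (EV.ext h), fun a => ⟨EV.mem _, mφ a⟩, fun n hn => ?_, fun k => ?_⟩
    H.TN H.cop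
  · obtain ⟨a, b, c, d, m, hm, rfl⟩ := H.gen n hn
    obtain ⟨f, g, hb⟩ := hM m hm
    obtain ⟨f', h1, h2⟩ := d0 α β hab f g
    have ab : Acts φ ((i ^ f.1 * j ^ g.1)⁻¹ * m) id := fun a =>
      mul_inv_eq_iff_eq_mul.2 (mem_C.1 (mφ a) _ hb)
    have := (aw a b c d f g).mul ab
    rw [show i0^[f.1] ∘ (jj α β)^[g.1] = i0^[f'.1] ∘ j0^[g.1] from funext fun p => h1 p.1 p.2] at this
    refine ⟨(a, b, c, d, f', g), by convert this using 1 <;> [group; rfl], fun h0 => ?_⟩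
    simp only [Prod.ext_iff, Prod.fst_zero, Prod.snd_zero] at h0
    obtain ⟨rfl, rfl, rfl, rfl, h3, rfl⟩ := h0
    obtain rfl : f = 0 := (h2 rfl).symm.trans h3
    simpa using hb
  · obtain ⟨a, b, c, d, f, g⟩ := k
    obtain ⟨f', h1⟩ := d1 α β hab f g
    have := aw a b c d f' g
    rw [show i0^[f'.1] ∘ (jj α β)^[g.1] = i0^[f.1] ∘ j0^[g.1] from funext fun p => h1 p.1 p.2] at this
    exact ⟨_, mul_mem (pow_mem H.m1 _) (mul_mem (pow_mem H.m2 _) (mul_mem (pow_mem H.m3 _)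
      (mul_mem (pow_mem H.m4 _) (mul_mem (pow_mem iN _) (pow_mem jN _))))), this⟩

end H5.BsH3
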