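import Cfsg.Agent.H3.AI1
import Cfsg.Agent.H3.HallTransfer
import Cfsg.Prelude.Def_TwoFusion

/-! Sylow `2`-subgroups `S` with `|S : Z(S)| = 4` (`T S z`, `S' = ⟨z⟩`): fusion is controlled by adjacent Sylow
subgroups (`T.sc`), essential pairs `Es S z Q B y`, `T.card_eq`: without strongly closed abelian subgroups and
subgroups of index `2`, `Z(S) = ⟨z⟩`. -/

set_option autoImplicit false
open Cfsg H18 Subgroup
open H3 (AI)
open scoped commutatorElement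
namespace H5

variable {G : Type*} [Group G] [Finite G] {S Q R B W : Subgroup G} {a b c g s w x y z : G}

local instance : Fact (Nat.Prime 2) := ⟨Nat.prime_two⟩

structure T (S : Subgroup G) (z : G) : Prop where
  syl : Hall {2} S ⊤
  na : ¬ Abel S
  idx : (Z(S)).relIndex S = 4
  zZ : z ∈ Z(S)
  z1 : z ≠ 1
  zz : z * z = 1
  cm : ∀ a ∈ S, ∀ b ∈ S, a * b * a⁻¹ = b ∨ a * b * a⁻¹ = z * b

theorem exists_T (hS : Hall {2} S ⊤) (na : ¬ Abel S) (idx : (Z(S)).relIndex S ≤ 4) : ∃ z, T S z := by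
  classical
  obtain ⟨idx, ⟨z, hz, h⟩, -⟩ := H3.exists_tv hS.pi.isPGroup na (p := 2) idx
  have h1 := h 1 (one_mem _)
  refine ⟨z, hS, na, idx, ⟨hz, h1.cent⟩, fun e => by simpa [e] using h1.ord,
    by rw [← pow_two, ← h1.ord, pow_orderOf_eq_one], fun a ha b hb => ?_⟩
  have := (h b hb).mem a ha
  rw [mem_zpowers_iff_mem_range_orderOf, h1.ord] at this
  simp only [Finset.range_add_one, Finset.range_zero, Finset.image_insert, Finset.mem_insert, Finset.image_empty,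
    Finset.notMem_empty, or_false, pow_one, pow_zero, inv_mul_eq_one, inv_mul_eq_iff_eq_mul] at this
  rcases this with e | e
  · exact .inr (e.trans (h1.cent b hb))
  · exact .inl (by simpa using e)

omit [Finite G] in
theorem ai_cj (h : AI 2 S B) (g : G) : AI 2 (cj g S) (cj g B) :=
  ⟨h.pg.map _, cj_mono h.le, h.ab.cj g, by rw [relIndex_cj, h.idx], fun e => h.na (abel_cj.1 e)⟩

omit [Finite G] in
theorem ai_eq (h : AI 2 S B) (hx : x ∈ B) (n : x ∉ Z(S)) : B = S ⊓ C1(x) :=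
  le_antisymm (le_inf h.le fun b hb => mem_C1.2 (comm_of_cent h.ab hb hx)) fun s hs => by_contra fun e =>
    n (h.cent hs.1 e hx (mem_C1.1 hs.2).symm)

namespace T

theorem cj (h : T S z) (g : G) : T (cj g S) (g * z * g⁻¹) := by
  refine ⟨h.syl.cj_top g, fun e => h.na (abel_cj.1 e), by rw [← cj_Z, relIndex_cj, h.idx],
    by rw [← cj_Z]; exact conj_mem_cj h.zZ, by simpa using h.z1, by simp [h.zz], fun a ha b hb => ?_⟩
  obtain ⟨a, ha', rfl⟩ := mem_cj'.1 ha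
  obtain ⟨b, hb', rfl⟩ := mem_cj'.1 hb
  refine (h.cm a ha' b hb').imp (fun e => ?_) fun e => ?_
  · calc _ = g * (a * b * a⁻¹) * g⁻¹ := by group
      _ = _ := by rw [e]
  · calc _ = g * (a * b * a⁻¹) * g⁻¹ := by group
      _ = _ := by rw [e]; group

omit [Finite G] in
theorem cm' (h : T S z) (ha : a ∈ S) (hb : b ∈ S) (n : a * b ≠ b * a) : a * b * a⁻¹ = z * b :=
  (h.cm a ha b hb).resolve_left fun e => n (mul_inv_eq_iff_eq_mul.1 e)

omit [Finite G] in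
theorem pair (h : T S z) : ∃ a ∈ S, ∃ b ∈ S, a * b ≠ b * a := by
  by_contra e; push Not at e; exact h.na (cent_iff.2 e)

omit [Finite G] in
theorem uniq (h : T S z) (k : T S y) : y = z := by
  obtain ⟨a, ha, b, hb, n⟩ := h.pair
  exact mul_right_cancel ((k.cm' ha hb n).symm.trans (h.cm' ha hb n))

theorem fix (h : T S z) (hg : g ∈ N(S)) : g * z * g⁻¹ = z := h.uniq (cj_eq_self hg ▸ h.cj g)

theorem burn (h : T S z) (k : T Q y) (hy : y ∈ C(S)) : y = z := by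
  obtain ⟨c, hc, e⟩ := sylow_conj Nat.prime_two (h.syl.of_le (K := C1(y)) (fun s hs => mem_C1.2 (hy s hs)) le_top)
    (k.syl.of_le (fun s hs => mem_C1.2 (k.zZ.2 s hs)) le_top)
  have := (h.cj c).uniq (e ▸ k)
  rw [eq_mul_inv_iff_mul_eq, ← mem_C1.1 hc] at this
  exact mul_left_cancel this

theorem ai (h : T S z) (hy : y ∈ S) (n : y ∉ Z(S)) : AI 2 S (Z(S) ⊔ zpowers y) :=
  (H3.exists_tv h.syl.pi.isPGroup h.na (p := 2) h.idx.le).2.2 y hy n

theorem exists_ai (h : T S z) (hx : x ∈ S) : ∃ B, AI 2 S B ∧ x ∈ B := by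
  by_cases n : x ∈ Z(S)
  · obtain ⟨a, ha, b, hb, n'⟩ := h.pair
    exact ⟨_, h.ai ha fun e => n' (e.2 b hb).symm, mem_sup_left n⟩
  · exact ⟨_, h.ai hx n, mem_sup_right (mem_zpowers x)⟩

omit [Finite G] in
theorem mov (h : T S z) (hB : AI 2 S B) (hs : s ∈ S) (n : s ∉ B) (hb : b ∈ B) (nb : b ∉ Z(S)) :
    s * b * s⁻¹ = z * b := h.cm' hs (hB.le hb) fun e => nb (hB.cent hs n hb e.symm)

omit [Finite G] in
theorem mul_cen (h : T S z) (hB : AI 2 S B) (hb : b ∈ B) (nb : b ∉ Z(S)) (hc : c ∈ B) (nc : c ∉ Z(S)) :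
    b * c ∈ Z(S) := by
  obtain ⟨s, hs, n⟩ := hB.exists_not_mem
  refine hB.cent hs n (B.mul_mem hb hc) (mul_inv_eq_iff_eq_mul.1 ?_).symm
  rw [← conj_mul, h.mov hB hs n hb nb, h.mov hB hs n hc nc, mul_assoc, ← mul_assoc b, h.zZ.2 b (hB.le hb), mul_assoc,
    ← mul_assoc, h.zz, one_mul]

theorem of_le (h : T S z) (k : T Q y) (hB : AI 2 S B) (l : B ≤ Q) : AI 2 Q B := by
  refine ⟨k.syl.pi.isPGroup, l, hB.ab, ?_, k.na⟩
  have e1 := H3.card_mul_relIndex' l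
  rw [← h.syl.card_eq k.syl, ← H3.card_mul_relIndex' hB.le, hB.idx] at e1
  exact Nat.eq_of_mul_eq_mul_left Nat.card_pos e1

theorem same (h : T S z) (k : T Q z) (hB : AI 2 S B) (kB : AI 2 Q B) : Z(S) ≤ Z(Q) := by
  let K : Subgroup G :=
    { carrier := {g | g * z * g⁻¹ = z ∧ ∀ b ∈ B, g * b * g⁻¹ = b ∨ g * b * g⁻¹ = z * b}
      one_mem' := ⟨by simp, fun b _ => .inl (by simp)⟩
      mul_mem' := fun {g f} hg hf => ⟨by rw [mul_inv_rev, ← mul_assoc, mul_assoc g, mul_assoc g, hf.1, hg.1],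
        fun b hb => by
          rw [mul_inv_rev, ← mul_assoc, mul_assoc g, mul_assoc g]
          rcases hf.2 b hb with e | e <;> rw [e]
          · exact hg.2 b hb
          · rw [← conj_mul, hg.1]
            rcases hg.2 b hb with e | e <;> rw [e]
            exacts [.inr rfl, .inl (by rw [← mul_assoc, h.zz, one_mul])]⟩
      inv_mem' := fun {g} hg => by
        have e1 : g⁻¹ * z * g⁻¹⁻¹ = z := by conv_lhs => rw [← hg.1]
                                            group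
        refine ⟨e1, fun b hb => (hg.2 b hb).imp (fun e => ?_) fun e => ?_⟩
        · conv_lhs => rw [← e]
          group
        · have e2 : z * (g * b * g⁻¹) = b := by rw [e, ← mul_assoc, h.zz, one_mul]
          conv_lhs => rw [← e2, ← conj_mul, e1]
          group }
  have zB : z ∈ B := hB.Z_le h.zZ
  have l : ∀ {U}, T U z → AI 2 U B → U ≤ K := fun t a u hu =>
    ⟨by rw [t.zZ.2 u hu, mul_inv_cancel_right], fun b hb => t.cm u hu b (a.le hb)⟩
  have n : K ≤ N(C(B)) := norm_C (norm_iff.2 fun g hg b hb => by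
    rcases hg.2 b hb with e | e <;> rw [e]
    exacts [hb, B.mul_mem zB hb])
  have l2 : C(B) ≤ K := fun g hg => ⟨by rw [← hg z zB, mul_inv_cancel_right],
    fun b hb => .inl (by rw [← hg b hb, mul_inv_cancel_right])⟩
  have e := (h.syl.of_le (l h hB) le_top).sup_of_idx l2 ((piGrp_quo_iff n).1 (piGrp_of_elt fun x hx => by
    obtain ⟨g, hg, rfl⟩ := (mem_quo n).1 hx
    refine piElt_of_pow_eq_one Nat.prime_two ?_
    refine (mfun_pow (n hg) 2).symm.trans (cs_eq_one fun b hb => ?_)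
    rw [eq_comm, ← mul_inv_eq_iff_eq_mul, pow_two, mul_inv_rev, ← mul_assoc, mul_assoc g, mul_assoc g]
    rcases hg.2 b hb with e | e
    · rw [e, e]
    · rw [e, ← conj_mul, e, hg.1, ← mul_assoc, h.zz, one_mul]))
  obtain ⟨t, ht, nt⟩ := kB.exists_not_mem
  have := l k kB ht
  rw [← e] at this
  obtain ⟨s, hs, c, hc, rfl⟩ := (mem_sup_of_norm ((l h hB).trans n)).1 this
  intro x hx
  refine kB.cent ht nt (hB.Z_le hx) ?_
  rw [← mul_assoc, ← hx.2 s hs, mul_assoc, hc x (hB.Z_le hx), mul_assoc]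

end T

/-- an essential configuration -/
structure Es (S : Subgroup G) (z : G) (Q B : Subgroup G) (y : G) : Prop where
  s : T S z
  q : T Q y
  sB : AI 2 S B
  qB : AI 2 Q B
  ne : y ≠ z

namespace Es

omit [Finite G] in
theorem symm (h : Es S z Q B y) : Es Q y S B z := ⟨h.q, h.s, h.qB, h.sB, h.ne.symm⟩
omit [Finite G] in
theorem yB (h : Es S z Q B y) : y ∈ B := h.qB.Z_le h.q.zZ
omit [Finite G] in
theorem yS (h : Es S z Q B y) : y ∈ S := h.sB.le h.yB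
theorem yZ (h : Es S z Q B y) : y ∉ Z(S) := fun e => h.ne (h.s.burn h.q e.2)
theorem cj (h : Es S z Q B y) (hg : g ∈ N(S)) : Es S z (cj g Q) (cj g B) (g * y * g⁻¹) :=
  ⟨h.s, h.q.cj g, cj_eq_self hg ▸ ai_cj h.sB g, ai_cj h.qB g, fun e => h.ne (by
    rw [← h.s.fix hg] at e; simpa using e)⟩

theorem dec (h : Es S z Q B y) (hc : c ∈ Z(S)) : c ∈ Z(Q) ∨ z * c ∈ Z(Q) :=
  or_iff_not_imp_left.2 (h.q.mul_cen h.qB h.symm.yB h.symm.yZ (h.sB.Z_le hc))

theorem uniq (h : Es S z Q B y) (k : Es S z R B w) : (w = y ∨ w = z * y) ∧ Z(S) ⊓ Z(Q) ≤ Z(R) := by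
  by_cases e : w = y
  · exact ⟨.inl e, inf_le_right.trans (h.q.same (e ▸ k.q) h.qB k.qB)⟩
  obtain ⟨s, hs, n⟩ := h.sB.exists_not_mem
  have k' := k.cj (le_N hs)
  rw [h.s.mov h.sB hs n k.yB k.yZ, cj_eq_self (h.sB.nml hs)] at k'
  have e1 := h.q.burn k'.q (h.q.mul_cen h.qB h.symm.yB h.symm.yZ k.yB (Es.yZ ⟨h.q, k.q, h.qB, k.qB, e⟩)).2
  refine ⟨.inr (by rw [← e1, ← mul_assoc, h.s.zz, one_mul]), fun c hc => ?_⟩
  have := h.q.same (e1 ▸ k'.q) h.qB k'.qB hc.2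
  rwa [← cj_Z, mem_cj, mul_assoc, ← hc.1.2 s hs, inv_mul_cancel_left] at this

end Es

theorem T.adj (h : T S z) (hW : W ≤ S) (hn : N(S) ≤ N(W)) (hE : ∀ Q B y, Es S z Q B y → W ⊓ B ≤ Z(Q) ∨ y ∈ W)
    (hB : AI 2 S B) (l : B ≤ H18.cj g S) (hx : x ∈ B) (hw : g⁻¹ * x * g ∈ W) : x ∈ W := by
  have k := h.cj g
  have kB := h.of_le k hB l
  have n1 : H18.cj g S ≤ N(W ⊓ B) := norm_iff.2 fun t ht b hb => by
    refine ⟨?_, conj_mem kB.nml ht hb.2⟩
    by_cases nb : b ∈ Z(H18.cj g S)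
    · rw [nb.2 t ht, mul_inv_cancel_right]; exact hb.1
    have : g * z * g⁻¹ ∈ W := by
      by_cases e : g * z * g⁻¹ = z
      · obtain ⟨s, hs, n⟩ := hB.exists_not_mem
        rw [e, eq_mul_inv_of_mul_eq (h.mov hB hs n hb.2 fun e' => nb (h.same (e ▸ k) hB kB e')).symm]
        exact W.mul_mem (conj_mem_N (hn (le_N hs)) hb.1) (W.inv_mem hb.1)
      · exact (hE _ _ _ ⟨h, k, hB, kB, e⟩).resolve_left fun e => nb (e hb)
    rcases k.cm t ht b (l hb.2) with e | e <;> rw [e]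
    exacts [hb.1, W.mul_mem this hb.1]
  obtain ⟨f, hf, e⟩ := sylow_conj Nat.prime_two (h.syl.of_le (K := N(W ⊓ B) ⊓ N(B))
    (le_inf (norm_inf (le_N.trans hn) hB.nml) hB.nml) le_top) (k.syl.of_le (le_inf n1 kB.nml) le_top)
  have m : f⁻¹ * g ∈ N(S) := by rw [mem_N_iff_cj, cj_mul, e, cj_inv_cj]
  have := conj_mem_N hf.1 (y := f⁻¹ * x * f) ⟨by simpa [mul_assoc] using conj_mem_N (hn m) hw, conj_mem_N' hf.2 hx⟩
  simpa [mul_assoc] using this.1

theorem T.sc (h : T S z) (hW : W ≤ S) (hn : N(S) ≤ N(W)) (hE : ∀ Q B y, Es S z Q B y → W ⊓ B ≤ Z(Q) ∨ y ∈ W) :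
    IsStronglyClosed W S := by
  refine ⟨hW, fun x hx g hg => ?_⟩
  obtain ⟨B, hB, xB⟩ := h.exists_ai (hW hx)
  obtain ⟨B', hB', yB⟩ := h.exists_ai hg
  obtain ⟨R, hR, l⟩ := exists_sylow_le Nat.prime_two (h.syl.pi.of_le hB'.le) (M := C1(g * x * g⁻¹))
    fun b hb => mem_C1.2 (comm_of_cent hB'.ab hb yB)
  obtain ⟨c, hc, l2⟩ := sylow_le_cj Nat.prime_two hR ((h.syl.pi.of_le hB.le).cj g)
    fun b hb => mem_C1.2 (comm_of_cent (hB.ab.cj g) hb (conj_mem_cj xB))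
  obtain ⟨k, -, l3⟩ := sylow_le_cj' Nat.prime_two h.syl hR.pi le_top
  refine h.adj hW hn hE hB' (l.trans l3) yB ?_
  have l4 : H18.cj (k⁻¹ * (c * g)) B ≤ S := by rw [cj_mul, ← le_cj_iff, cj_mul]; exact l2.trans l3
  have e : k⁻¹ * (g * x * g⁻¹) * k = k⁻¹ * (c * g) * x * (k⁻¹ * (c * g))⁻¹ := by
    conv_lhs => rw [← mul_inv_eq_iff_eq_mul.2 (mem_C1.1 hc)]
    group
  rw [e]
  exact h.adj hW hn hE ((h.cj _).of_le h (ai_cj hB _) l4) (cj_mono hB.le) (conj_mem_cj xB) (by simpa [mul_assoc] using hx)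

theorem Es.cover (h : Es S z Q B x) (hy : y ∈ S) (n : x * y ≠ y * x) (hs : s ∈ S) :
    s ∈ Z(S) ∨ s * x ∈ Z(S) ∨ s * y ∈ Z(S) ∨ s * y * x ∈ Z(S) := by
  have k : ∀ b ∈ B, b ∈ Z(S) ∨ b * x ∈ Z(S) := fun b hb =>
    or_iff_not_imp_left.2 fun e => h.s.mul_cen h.sB hb e h.yB h.yZ
  by_cases e : s ∈ B
  · exact (k s e).imp_right .inl
  · have := (mul_mem_iff_of_index_two (H := B.subgroupOf S) h.sB.idx (a := ⟨s, hs⟩) (b := ⟨y, hy⟩)).2
      (iff_of_false e fun e => n (comm_of_cent h.sB.ab h.yB e))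
    exact .inr (.inr (k _ this))

theorem Es.two {Q' B' : Subgroup G} (h : Es S z Q B x) (h' : Es S z Q' B' y) (n : x * y ≠ y * x)
    (k : Es S z R W w) : W = B ∨ W = B' := by
  have l : ∀ {Q B x}, Es S z Q B x → w * x ∈ Z(S) → W = B := fun h e => (ai_eq k.sB k.yB k.yZ).trans
    (ai_eq h.sB ((mul_mem_cancel_right h.yB).1 (h.sB.Z_le e)) k.yZ).symm
  rcases h.cover h'.yS n k.yS with e | e | e | e
  exacts [(k.yZ e).elim, .inl (l h e), .inr (l h' e), (h.symm.yZ (by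
    have e1 : w * y * x * (w * y * x) = z := by
      rw [← mul_assoc, ← mul_assoc, ← e.2 w k.yS, ← mul_assoc, ← mul_assoc, k.q.zz, one_mul,
        mul_inv_eq_iff_eq_mul.1 (h.s.cm' h'.yS h.yS n.symm)]
      rw [mul_assoc, mul_assoc, ← mul_assoc y, h'.q.zz, one_mul, mul_assoc, h.q.zz, mul_one]
    rcases h.dec e with e2 | e2
    · exact e1 ▸ mul_mem e2 e2
    · have := mul_mem e2 e2
      rwa [mul_assoc z, ← mul_assoc _ z, h.s.zZ.2 _ e.1, mul_assoc z, e1, h.s.zz, mul_one] at this)).elim]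

theorem T.center_le (h : T S z) (nsc : ∀ W, W ≠ ⊥ → Abel W → ¬ IsStronglyClosed W S)
    (n2 : ∀ M : Subgroup G, M.Normal → M.index ≠ 2) : Z(S) ≤ zpowers z := by
  let D := closure {y | y = z ∨ ∃ Q B, Es S z Q B y}
  have zD : z ∈ D := subset_closure (.inl rfl)
  have eD : ∀ {Q B y}, Es S z Q B y → y ∈ D := fun e => subset_closure (.inr ⟨_, _, e⟩)
  have DS : D ≤ S := (closure_le _).2 (by rintro y (rfl | ⟨Q, B, e⟩); exacts [h.zZ.1, e.yS])
  have sD : IsStronglyClosed D S := h.sc DS (fun g hg => mem_N_of_cj_le (by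
    rw [cj_closure, closure_le]
    rintro _ ⟨y, rfl | ⟨Q, B, e⟩, rfl⟩
    exacts [by beta_reduce; rw [h.fix hg]; exact zD, eD (e.cj hg)])) fun Q B y e => .inr (eD e)
  obtain ⟨x, Q, B, y, Q', B', e, e', n⟩ : ∃ x Q B y Q' B', Es S z Q B x ∧ Es S z Q' B' y ∧ x * y ≠ y * x := by
    by_contra k
    push Not at k
    refine nsc D (fun e => h.z1 (mem_bot.1 (e ▸ zD))) ((closure_le _).2 fun x hx => zpowers_le.1 (cent_symm
      ((closure_le _).2 fun y hy => ?_))) sD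
    rw [C_zpowers]
    refine mem_C1.2 ?_
    rcases hx with rfl | ⟨Q, B, e⟩
    · exact h.zZ.2 y (DS (subset_closure hy))
    rcases hy with rfl | ⟨Q', B', e'⟩
    exacts [(h.zZ.2 x e.yS).symm, k _ _ _ _ _ _ e' e]
  have all : ∀ {R W w}, Es S z R W w → Z(S) ⊓ Z(Q) ⊓ Z(Q') ≤ Z(R) := fun k => by
    rcases e.two e' n k with rfl | rfl
    exacts [inf_le_left.trans (e.uniq k).2, (inf_le_inf_right _ inf_le_left).trans (e'.uniq k).2]
  have C0 : Z(S) ⊓ Z(Q) ⊓ Z(Q') = ⊥ := by_contra fun ne => nsc _ ne (abel_Z.mono (inf_le_left.trans inf_le_left))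
    (h.sc (inf_le_left.trans (inf_le_left.trans inf_le_left)) (fun g hg => mem_N_of_cj_le (by
      have k : ∀ {R W w}, Es S z R W w → H18.cj g (Z(S) ⊓ Z(Q) ⊓ Z(Q')) ≤ Z(R) := fun k => by
        rw [cj_le_iff, cj_Z]; exact all (k.cj (inv_mem hg))
      refine le_inf (le_inf ?_ (k e)) (k e')
      rw [cj_le_iff, cj_Z, cj_eq_self (inv_mem hg)]; exact inf_le_left.trans inf_le_left))
      fun R W w k => .inl (inf_le_left.trans (all k)))
  have adj : ∀ c ∈ Z(S), ∃ d ∈ zpowers z, d * c ∈ Z(S) ⊓ Z(Q) := fun c hc => (e.dec hc).elim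
    (fun k => ⟨1, one_mem _, by rw [one_mul]; exact ⟨hc, k⟩⟩) fun k => ⟨z, mem_zpowers z, mul_mem h.zZ hc, k⟩
  have pr : ∀ a ∈ Z(S) ⊓ Z(Q), ∀ b ∈ Z(S) ⊓ Z(Q), a ≠ 1 → b ≠ 1 → a * b = 1 := fun a ha b hb a1 b1 =>
    mem_bot.1 (C0 ▸ ⟨mul_mem ha hb, e'.q.mul_cen e'.qB (e'.sB.Z_le ha.1) (fun k => a1 (mem_bot.1 (C0 ▸ ⟨ha, k⟩)))
      (e'.sB.Z_le hb.1) fun k => b1 (mem_bot.1 (C0 ▸ ⟨hb, k⟩))⟩)
  intro c₀ hc₀
  by_contra nc₀
  obtain ⟨d, hd, hc⟩ := adj c₀ hc₀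
  have nc : d * c₀ ∉ zpowers z := fun k => nc₀ ((mul_mem_cancel_left hd).1 k)
  generalize d * c₀ = c at hc nc
  have c1 : c ≠ 1 := fun k => nc (k ▸ one_mem _)
  have ix := inv_eq_of_mul_eq_one_right e.q.zz
  have xy := h.cm' e.yS e'.yS n
  rw [ix] at xy
  have rr : (x * y) ^ (2 : ℤ) = z := by
    rw [zpow_two, ← mul_assoc, xy, mul_assoc, e'.q.zz, mul_one]
  have xr : ∀ k : ℤ, x * (x * y) ^ k = (x * y) ^ (-k) * x := fun k => by
    rw [← mul_inv_eq_iff_eq_mul, ← conj_zpow, zpow_neg, ← inv_zpow, mul_inv_rev, ← mul_assoc, e.q.zz, one_mul,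
      inv_eq_of_mul_eq_one_right e'.q.zz]
  let M : Subgroup G :=
    { carrier := {g | ∃ k : ℤ, g = (x * y) ^ k ∨ g = (x * y) ^ k * x}
      one_mem' := ⟨0, .inl (by simp)⟩
      mul_mem' := by
        rintro _ _ ⟨i, rfl | rfl⟩ ⟨j, rfl | rfl⟩
        · exact ⟨i + j, .inl (by group)⟩
        · exact ⟨i + j, .inr (by group)⟩
        · exact ⟨i + -j, .inr (by rw [mul_assoc, xr]; group)⟩
        · exact ⟨i + -j, .inl (by rw [mul_assoc, ← mul_assoc x, xr, mul_assoc, e.q.zz]; group)⟩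
      inv_mem' := by
        rintro _ ⟨i, rfl | rfl⟩
        · exact ⟨-i, .inl (by group)⟩
        · exact ⟨i, .inr (by rw [mul_inv_rev, ix, ← zpow_neg, xr, neg_neg])⟩ }
  have zM : z ∈ M := ⟨2, .inl rr.symm⟩
  have xM : x ∈ M := ⟨0, .inr (by simp)⟩
  have yM : y ∈ M := (M.mul_mem_cancel_left xM).1 ⟨1, .inl (by simp)⟩
  have DM : D ≤ M := (closure_le _).2 (by
    rintro w (rfl | ⟨R, W, k⟩)
    · exact zM
    rcases e.two e' n k with rfl | rfl
    · rcases (e.uniq k).1 with rfl | rfl; exacts [xM, mul_mem zM xM]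
    · rcases (e'.uniq k).1 with rfl | rfl; exacts [yM, mul_mem zM yM])
  have cD : c ∉ D := fun k => by
    obtain ⟨k, hk⟩ := DM k
    have zm : ∀ m : ℤ, z ^ m ∈ Z(S) := fun m => zpow_mem h.zZ m
    obtain ⟨m, rfl | rfl⟩ := Int.even_or_odd' k <;> rcases hk with rfl | rfl <;>
      simp only [zpow_add, zpow_mul, rr, zpow_one, mul_assoc] at hc nc
    · exact nc (zpow_mem_zpowers _ _)
    · exact e.yZ ((mul_mem_cancel_left (zm m)).1 hc.1)
    · exact n (mul_left_cancel (a := x) (by rw [((mul_mem_cancel_left (zm m)).1 hc.1).2 x e.yS, mul_assoc]))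
    · have := (mul_mem_cancel_left (zm m)).1 hc.1
      rw [← mul_assoc, xy] at this
      exact e'.yZ ((mul_mem_cancel_left h.zZ).1 this)
  have zD' : zpowers z ≤ D := zpowers_le.2 zD
  have k1 : ∀ a ∈ Z(S), a ∈ D ∨ c * a ∈ D := fun a ha => by
    obtain ⟨d, hd, k⟩ := adj a ha
    by_cases a1 : d * a = 1
    · exact .inl ((mul_mem_cancel_left (zD' hd)).1 (a1 ▸ one_mem _))
    · refine .inr ((mul_mem_cancel_left (zD' hd)).1 ?_)
      rw [← mul_assoc, hc.1.2 d (DS (zD' hd)), mul_assoc, pr c hc _ k c1 a1]; exact one_mem _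
  have k2 : ∀ s ∈ S, s ∈ D ∨ c * s ∈ D := fun s hs => by
    have l : ∀ d ∈ D, s * d ∈ Z(S) → s ∈ D ∨ c * s ∈ D := fun d hd k => (k1 _ k).imp (mul_mem_cancel_right hd).1
      fun k => (mul_mem_cancel_right hd).1 (mul_assoc c s d ▸ k)
    rcases e.cover e'.yS n hs with k | k | k | k
    exacts [k1 s k, l x (eD e) k, l y (eD e') k, l (y * x) (mul_mem (eD e') (eD e)) (mul_assoc s y x ▸ k)]
  obtain ⟨N, nN, i, -⟩ := H3.thompson_transfer (H := S) (Q := D) (u := c)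
    (by simpa using (piNat_compl_iff Nat.prime_two).1 h.syl.idx)
    (relIndex_eq_two_iff_exists_notMem_and'.2 ⟨c, hc.1.1, cD, fun s hs => (k2 s hs).symm⟩)
    (by rw [pow_two, pr c hc c hc c1 c1]) hc.1.1 fun g hg => cD (by simpa [mul_assoc] using sD.2 _ hg g⁻¹ (by simpa [mul_assoc] using hc.1.1))
  exact n2 N nN i

end H5
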