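import Cfsg.Agent.H18.GT1
import Cfsg.Agent.H21.Crit
import Cfsg.Agent.H9.IsoP
import Cfsg.Agent.H5.SuzA

/-! Nonsolvable groups whose proper subgroups are CA-groups (`Ctx`): normal subgroups of odd order are central
(`Ctx.odd`), centres of nonabelian Sylow 2-subgroups are central (`Ctx.zS`). -/

set_option autoImplicit false
set_option linter.unusedSectionVars false
set_option linter.unusedVariables false

open Subgroup Cfsg H18 H18.GT H21
open scoped commutatorElement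

namespace H5.CA

variable {G : Type*} [Group G] [Finite G] {A B D H K L M P S T V : Subgroup G} {a b c e f g s t u v w x y z : G}

/-- centralizers in `H` of noncentral elements of `H` are abelian -/
def CAs (H : Subgroup G) : Prop :=
  ∀ x ∈ H, ∀ y ∈ H, ∀ a ∈ H, ∀ b ∈ H, ¬ Commute x y → Commute x a → Commute x b → Commute a b

/-- nonsolvable, and all proper subgroups are CA-groups -/
structure Ctx (G : Type*) [Group G] : Prop where
  st : ∀ H : Subgroup G, H ≠ ⊤ → CAs H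
  ns : ¬ Solv (⊤ : Subgroup G)

theorem cop' (h : ⁅a, b⁆ ∈ center G) {m n : ℕ} (hm : Commute (a ^ m) b) (hn : Commute a (b ^ n)) (c : m.Coprime n) :
    Commute a b := by
  have z := mem_center_iff.1 h
  have e1 : ⁅a, b⁆ ^ m = 1 := by
    rw [← H4.commutatorElement_pow_left' (z a)]; exact commutatorElement_eq_one_iff_commute.2 hm
  have e2 : ⁅a, b⁆ ^ n = 1 := by
    rw [← H4.commutatorElement_pow_right' (z b)]; exact commutatorElement_eq_one_iff_commute.2 hn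
  have := (pow_gcd_eq_one (a := ⁅a, b⁆)).2 ⟨e1, e2⟩
  rw [c, pow_one] at this
  exact commutatorElement_eq_one_iff_commute.1 this

theorem zc (h : z ∈ center G) (x : G) : Commute z x := (mem_center_iff.1 h x).symm

theorem cop (h : ⁅a, b⁆ ∈ center G) {m n : ℕ} (hm : a ^ m ∈ center G) (hn : b ^ n ∈ center G) (c : m.Coprime n) :
    Commute a b := cop' h (zc hm b) (zc hn a).symm c

theorem cC (h : a ∈ C(K)) (hb : b ∈ K) : Commute a b := (mem_C.1 h b hb).symm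

theorem ex_nc (h : a ∉ C(K)) : ∃ b ∈ K, ¬ Commute a b := by
  by_contra! k
  exact h (mem_C.2 fun b hb => (k b hb).symm)

theorem ex_nz (h : a ∉ center G) : ∃ b, ¬ Commute a b := by
  by_contra! k
  exact h (mem_center_iff.2 fun b => (k b).symm)

theorem burn (hT : Hall {2} T M) (h : M ⊓ N(T) ≤ C(T)) : Solv M :=
  PNil.solv_two (Burnside_normal_complement Nat.prime_two hT h)

theorem solv_norm (hT : Hall {2} T M) (h : M ≤ N(T)) : Solv M := solv_of_odd_idx ⟨hT.le, h⟩ hT.pi.solv hT.idx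

theorem solvN (hT : Hall {2} T ⊤) : Solv N(T) := solv_norm (hT.of_le le_N le_top) le_rfl

theorem odd_one (ho : PiGrp {2}ᶜ P) (hx : x ∈ P) (h : x * x = 1) : x = 1 :=
  mem_bot.1 (mem_of_sq_odd (piNat_two_compl.1 (ho.elt hx)) (mem_bot.2 h))

theorem comm3 {Q : Type*} [Group Q] {a b : Q} (ha : a * a = 1) (hb : b * b = 1) (h : a * b * (a * b) = 1) :
    a * b = b * a := by
  rw [← inv_eq_of_mul_eq_one_right h, mul_inv_rev, inv_eq_of_mul_eq_one_right ha, inv_eq_of_mul_eq_one_right hb]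

theorem two_grp (hS : PiGrp {2} S) (ca : CAs S) (na : ¬ Abel S) : ∃ c ∈ S, c ∉ C(S) ∧ c * c ∈ C(S) ∧
    (∀ s ∈ S, ⁅c, s⁆ ∈ C(S)) ∧ ∀ s ∈ S, ¬ Commute c s → s * s ∈ C(S) := by
  obtain ⟨W, -, ⟨h1, h2⟩, hm⟩ := exists_minimal_sub (fun W => W ⊴ S ∧ ¬ W ≤ C(S)) (A := S) ⟨Nml.rfl, na⟩
  have lt := hS.comm_lt (hS.of_le h1.le) h1.2 (fun e => h2 (e ▸ bot_le))
  have k : ⁅W, S⁆ ≤ C(S) := by_contra fun e => lt.ne (hm _ ⟨h1.comm Nml.rfl, e⟩ lt.le)
  obtain ⟨c0, h3, h4⟩ := SetLike.not_le_iff_exists.1 h2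
  obtain ⟨c, h5, h6, h7⟩ := exists_sq_of (hS.elt (h1.le h3)) h4
  have cW := zpowers_le.2 h3 h5
  have cS := h1.le cW
  have k2 : ∀ s ∈ S, ⁅c, s⁆ ∈ C(S) := fun s hs => k (commutator_mem_commutator cW hs)
  refine ⟨c, cS, h6, h7, k2, fun s hs n => by_contra fun e => ?_⟩
  obtain ⟨y, hy, e⟩ := ex_nc e
  refine n (ca _ (mul_mem hs hs) y hy c cS s hs e ?_ ((Commute.refl s).mul_left (Commute.refl s)))
  refine (commutatorElement_eq_one_iff_commute.1 ?_).symm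
  rw [← sq, H4.commutatorElement_pow_right' (cC (k2 s hs) hs).symm,
    ← H4.commutatorElement_pow_left' (cC (k2 s hs) cS).symm, sq]
  exact commutatorElement_eq_one_iff_commute.2 (cC h7 hs)

theorem inv_elt (hP : P ⊴ ⊤) (h1 : u ∉ C(P)) (h2 : u * u ∈ C(P)) : ∃ i ∈ P, i ≠ 1 ∧ u * i * u⁻¹ = i⁻¹ := by
  obtain ⟨c, hc, n⟩ := ex_nc h1
  refine ⟨c⁻¹ * (u * c * u⁻¹), mul_mem (inv_mem hc) (conj_mem hP.2 (mem_top u) hc), fun e => n ?_, ?_⟩
  · rw [inv_mul_eq_one, eq_mul_inv_iff_mul_eq] at e; exact e.symm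
  · have := (cC h2 hc).eq
    calc _ = u * c⁻¹ * u⁻¹ * (u * u * c) * u⁻¹ * u⁻¹ := by group
      _ = _ := by rw [this]; group

theorem fixc (hP : P ⊴ ⊤) (ho : PiGrp {2}ᶜ P) (d : ⁅P, P⁆ ≤ center G) (ca : CAs H) (hH : P ≤ H) (hu : u ∈ H)
    (hv : v ∈ H) (h1 : u ∉ C(P)) (h2 : u * u ∈ C(P)) (he : e ∈ P) (c : Commute u e) : Commute e v := by
  by_contra n
  obtain ⟨f, hf, f1, k⟩ := inv_elt hP h1 h2
  have hz := d (commutator_mem_commutator he hf)
  have ef : Commute e f := by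
    refine commutatorElement_eq_one_iff_commute.1 (odd_one ho (der_le (commutator_mem_commutator he hf)) ?_)
    have e1 : u * ⁅e, f⁆ * u⁻¹ = ⁅e, f⁆ := by rw [← (zc hz u).eq]; group
    have e2 : u * e * u⁻¹ = e := by rw [c.eq]; group
    have e3 : f * ⁅e, f⁆ * f⁻¹ = ⁅e, f⁆ := by rw [← (zc hz f).eq]; group
    rw [conjugate_commutatorElement, e2, k] at e1
    nth_rewrite 1 [← e1]
    have : f * (⁅e, f⁻¹⁆ * ⁅e, f⁆) * f⁻¹ = 1 := by
      calc _ = f * ⁅e, f⁻¹⁆ * f⁻¹ * (f * ⁅e, f⁆ * f⁻¹) := by group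
        _ = 1 := by rw [e3]; simp only [commutatorElement_def]; group
    simpa using this
  have := (ca e (hH he) v hv u hu f (hH hf) n c.symm ef).eq
  rw [this, mul_inv_cancel_right] at k
  exact f1 (odd_one ho hf (by nth_rewrite 1 [k]; group))

theorem no_four (hP : P ⊴ ⊤) (ho : PiGrp {2}ᶜ P) (d : ⁅P, P⁆ ≤ center G) (ca : CAs H) (hH : P ≤ H) (ha : a ∈ H)
    (hb : b ∈ H) (a1 : a ∉ C(P)) (b1 : b ∉ C(P)) (c1 : a * b ∉ C(P)) (a2 : a * a ∈ C(P)) (b2 : b * b ∈ C(P))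
    (c2 : a * b * (a * b) ∈ C(P)) : False := by
  obtain ⟨i, hi, i1, k⟩ := inv_elt hP a1 a2
  have := hP.normal
  have hj : b * i * b⁻¹ ∈ P := conj_mem hP.2 (mem_top b) hi
  obtain ⟨j, ej⟩ : ∃ j, j = b * i * b⁻¹ := ⟨_, rfl⟩
  rw [← ej] at hj
  have k1 : b * j * b⁻¹ = i := by
    have := (cC b2 hi).eq
    calc _ = b * b * i * b⁻¹ * b⁻¹ := by rw [ej]; group
      _ = _ := by rw [this]; group
  have k2 : a * j * a⁻¹ = j⁻¹ := by
    have q : ∀ x : G, x ∈ C(P) → (x : G ⧸ C(P)) = 1 := fun x => (QuotientGroup.eq_one_iff x).2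
    have e : ((b * a : G) : G ⧸ C(P)) = (a * b : G) := (comm3 (a := (a : G ⧸ C(P))) (b := b) (q _ a2) (q _ b2) (q _ c2)).symm
    have := (cC (QuotientGroup.eq.1 e) hi).eq
    calc _ = b * a * ((b * a)⁻¹ * (a * b) * i) * b⁻¹ * a⁻¹ := by rw [ej]; group
      _ = b * (a * i * a⁻¹) * b⁻¹ := by rw [this]; group
      _ = _ := by rw [k, ej]; group
  have cp : ∀ u x, u * u ∈ C(P) → x ∈ P → ⁅u, x⁆ ∈ center G → Commute u x := fun u x h hx hz =>
    cop' hz (m := 2) (n := orderOf x) (by rw [sq]; exact cC h hx) (by rw [pow_orderOf_eq_one]; exact Commute.one_right u)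
      ((Nat.coprime_two_left).2 (piNat_two_compl.1 (ho.elt hx)))
  have e1 := fixc hP ho d ca hH hb ha b1 b2 (mul_mem hi hj) (cp _ _ b2 (mul_mem hi hj) (by
    have : ⁅b, i * j⁆ = ⁅j, i⁆ := by
      calc _ = b * i * b⁻¹ * (b * j * b⁻¹) * (i * j)⁻¹ := by simp only [commutatorElement_def]; group
        _ = _ := by rw [k1, ← ej]; simp only [commutatorElement_def]; group
    exact this ▸ d (commutator_mem_commutator hj hi)))
  have e2 := fixc hP ho d ca hH (mul_mem ha hb) ha c1 c2 (mul_mem (inv_mem hi) hj)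
    (cp _ _ c2 (mul_mem (inv_mem hi) hj) (by
    have : ⁅a * b, i⁻¹ * j⁆ = ⁅j, i⁻¹⁆ := by
      calc _ = (a * (b * i * b⁻¹) * a⁻¹)⁻¹ * (a * (b * j * b⁻¹) * a⁻¹) * (i⁻¹ * j)⁻¹ := by
            simp only [commutatorElement_def]; group
        _ = _ := by rw [k1, ← ej, k, k2]; simp only [commutatorElement_def]; group
    exact this ▸ d (commutator_mem_commutator hj (inv_mem hi))))
  have e3 : i * j = i⁻¹ * j⁻¹ := by
    calc _ = a * (i * j) * a⁻¹ := by rw [← e1.eq]; group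
      _ = a * i * a⁻¹ * (a * j * a⁻¹) := by group
      _ = _ := by rw [k, k2]
  have e4 : i⁻¹ * j = i * j⁻¹ := by
    calc _ = a * (i⁻¹ * j) * a⁻¹ := by rw [← e2.eq]; group
      _ = (a * i * a⁻¹)⁻¹ * (a * j * a⁻¹) := by group
      _ = _ := by rw [k, k2, inv_inv]
  refine i1 (odd_one ho hi (odd_one ho (mul_mem hi hi) ?_))
  calc _ = i * (i * j⁻¹) * j * (i * (i * j) * j⁻¹) := by group
    _ = 1 := by rw [e3, ← e4]; group

namespace Ctx
variable (h : Ctx G)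
include h

theorem ne (hs : Solv H) : H ≠ ⊤ := fun e => h.ns (e ▸ hs)

theorem ca (hs : Solv H) : CAs H := h.st H (h.ne hs)

theorem cent (hK : K ⊴ ⊤) (ns : ¬ Solv K) : C(K) ≤ center G := fun c hc => by
  obtain ⟨T, hT⟩ := exists_sylow Nat.prime_two K
  have n : N(T) ≠ ⊤ := fun e => ns (solv_norm hT (e ▸ le_top))
  by_contra hz
  have : ∃ y ∈ N(T), ¬ Commute c y := by
    by_contra! k
    have : (⊤ : Subgroup G) ≤ C1(c) := by
      rw [← frattini_arg Nat.prime_two hK hT]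
      exact sup_le (fun x hx => mem_C1.2 (mem_C.1 hc x hx)) fun x hx => mem_C1.2 (k x hx.2).symm
    exact hz (mem_center_iff.2 fun g => mem_C1.1 (this (mem_top g)))
  obtain ⟨y, hy, e⟩ := this
  refine ns (burn hT (cent_iff.2 fun a ha b hb => ?_))
  exact h.st _ n c (C_le_N (C_anti hT.le hc)) y hy a ha.2 b (le_N hb) e (cC hc ha.1) (cC hc (hT.le hb))

theorem not_le (hK : K ⊴ ⊤) (hs : Solv K) (hS : Hall {2} S ⊤) (x : G) : ¬ S ≤ zpowers x ⊔ K := fun e =>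
  h.ns (solv_of_quo hK.2 (solv_of_cyc_two (hS.mim hK.2) ((cyc_zpowers.mim).of_le
    ((quo_le_quo_iff (le_top.trans hK.2) (le_top.trans hK.2)).2 e))) hs)

theorem four (hK : K ⊴ ⊤) (hs : Solv K) (hS : Hall {2} S ⊤) (d : ⁅S, S⁆ ≤ K) : ∃ a ∈ S, ∃ b ∈ S,
    a ∉ K ∧ b ∉ K ∧ a * b ∉ K ∧ a * a ∈ K ∧ b * b ∈ K ∧ a * b * (a * b) ∈ K := by
  have n : S ≤ N(K) := le_top.trans hK.2
  have m : ∀ x, x ∈ N(K) := fun x => hK.2 (mem_top x)
  obtain ⟨p, hp, A, hA⟩ := ((abel_quo_iff n).2 d).exists_pelem_two fun e => by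
    obtain ⟨x, -, e⟩ := exists_gen_of_cyc_quo n e
    exact h.not_le hK hs hS x e
  obtain rfl : p = 2 := ((hS.pi.mim).of_le hA.le).eq_of_dvd hp (hA.card ▸ dvd_pow_self p two_ne_zero)
  obtain ⟨a, ha, b, hb, a1, b1, ab⟩ := exists_two (V := A) hA.card
  have a2 := hA.elem.sq ha
  have b2 := hA.elem.sq hb
  have c2 := hA.elem.sq (mul_mem ha hb)
  have c1 : a * b ≠ 1 := fun e => ab (by rw [← inv_eq_of_mul_eq_one_right a2, inv_eq_of_mul_eq_one_right e])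
  obtain ⟨x, hx, rfl⟩ := (mem_quo n).1 (hA.le ha)
  obtain ⟨y, hy, rfl⟩ := (mem_quo n).1 (hA.le hb)
  simp only [← mfun_mul (m _) (m _), Ne, cs_eq_one_iff (m _)] at a1 b1 c1 a2 b2 c2
  exact ⟨x, hx, y, hy, a1, b1, c1, a2, b2, c2⟩

theorem odd (hP : P ⊴ ⊤) (ho : PiGrp {2}ᶜ P) (d : ⁅P, P⁆ ≤ center G) : P ≤ center G := by
  have hC : C(P) ⊴ ⊤ := ⟨le_top, norm_C hP.2⟩
  by_cases hs : Solv C(P)
  swap
  · exact (cent_symm le_rfl).trans (h.cent hC hs)
  exfalso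
  obtain ⟨S, hS⟩ := exists_sylow Nat.prime_two (⊤ : Subgroup G)
  have ca := h.ca (hS.pi.solv.sup_norm (H21.solv_of_odd ho) (le_top.trans hP.2))
  have l : S ≤ S ⊔ P := le_sup_left
  have r : P ≤ S ⊔ P := le_sup_right
  have fin : ¬ ⁅S, S⁆ ≤ C(P) := fun e => by
    obtain ⟨a, ha, b, hb, a1, b1, c1, a2, b2, c2⟩ := h.four hC hs hS e
    exact no_four hP ho d ca r (l ha) (l hb) a1 b1 c1 a2 b2 c2
  have na : ¬ Abel S := fun e => fin (e.der ▸ bot_le)
  have zs : ∀ z ∈ S, z ∈ C(S) → z ∈ C(P) := fun z hz k => by_contra fun e => by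
    obtain ⟨y, hy, e⟩ := ex_nc e
    exact na (cent_iff.2 fun a ha b hb => ca z (l hz) y (r hy) a (l ha) b (l hb) e (cC k ha) (cC k hb))
  obtain ⟨c, hc, c1, c2, -, c3⟩ := two_grp hS.pi (h.ca hS.pi.solv) na
  obtain ⟨s, hs, n⟩ := ex_nc c1
  have nm : ∀ x y, ¬ Commute c x → Commute c y → ¬ Commute c (x * y) := fun x y e k l =>
    e (by simpa using l.mul_right k.inv_right)
  have n' : ¬ Commute c (s * c) := nm _ _ n (Commute.refl c)
  have key : ∀ u ∈ S, u ∉ C(S) → u ∉ C(P) := fun u hu u1 u2 => fin (der_le_of_sq (le_top.trans hC.2) fun x hx => by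
    by_contra e
    obtain ⟨y, hy, u1⟩ := ex_nc u1
    have x1 : ¬ Commute u x := fun k => e (by
      have : x ∈ C(P) := mem_C.2 fun p hp => (ca u (l hu) y (l hy) x (l hx) p (r hp) u1 k (cC u2 hp)).symm
      exact mul_mem this this)
    have x2 : Commute c x := by_contra fun k => e (zs _ (mul_mem hx hx) (c3 x hx k))
    have x3 : ¬ Commute c u := fun k => x1 (ca c (l hc) s (l hs) u (l hu) x (l hx) n k x2)
    have := zs _ (mul_mem (mul_mem hu hx) (mul_mem hu hx)) (c3 _ (mul_mem hu hx) (nm _ _ x3 x2))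
    have := mul_mem (inv_mem (conj_mem hC.2 (mem_top x) u2)) (mul_mem (inv_mem u2) this)
    exact e (by convert this using 1; group))
  have nc : ∀ x, ¬ Commute c x → x ∉ C(S) := fun x e k => e (cC k hc).symm
  exact no_four hP ho d ca r (l hs) (l hc) (key s hs (nc s n)) (key c hc c1) (key _ (mul_mem hs hc) (nc _ n'))
    (zs _ (mul_mem hs hs) (c3 s hs n)) (zs _ (mul_mem hc hc) c2)
    (zs _ (mul_mem (mul_mem hs hc) (mul_mem hs hc)) (c3 _ (mul_mem hs hc) n'))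

theorem red (hV : V ⊴ ⊤) (hs : Solv V) (hn : ¬ V ≤ center G) : ∃ P ≤ V, P ⊴ ⊤ ∧ ¬ P ≤ center G ∧
    ⁅P, P⁆ ≤ center G ∧ (∀ B, B ⊴ ⊤ → B < P → B ≤ center G) ∧ (PiGrp {2} P ∨ PiGrp {2}ᶜ P) := by
  obtain ⟨P, h0, ⟨h1, h2⟩, hm⟩ := exists_minimal_sub (fun W => W ⊴ ⊤ ∧ ¬ W ≤ center G) (A := V) ⟨hV, hn⟩
  have k : ∀ B, B ⊴ ⊤ → B < P → B ≤ center G := fun B e l => by_contra fun n => l.ne (hm _ ⟨e, n⟩ l.le)
  have d := k _ h1.der ((hs.of_le h0).der_lt fun e => h2 (e ▸ bot_le))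
  have nil : Nil P := nil_of_quo_center (K := ⁅P, P⁆) (d.trans (center_le_centralizer _))
    ((abel_quo_iff (norm_der le_N)).2 le_rfl).nil
  refine ⟨P, h0, h1, h2, d, k, by_contra fun e => h2 ?_⟩
  rw [← nil.pcore_sup (π := {2})]
  exact sup_le (k _ h1.pcore (lt_of_le_of_ne pcore_le fun l => e (Or.inl (l ▸ pcore_pi))))
    (k _ h1.pcore (lt_of_le_of_ne pcore_le fun l => e (Or.inr (l ▸ pcore_pi))))

theorem odd' (hV : V ⊴ ⊤) (ho : PiGrp {2}ᶜ V) : V ≤ center G := by_contra fun n => by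
  obtain ⟨P, h0, h1, h2, d, -⟩ := h.red hV (H21.solv_of_odd ho) n
  exact h2 (h.odd h1 (ho.of_le h0) d)

theorem zs (ht : PiElt {2} t) (hi : IsIsolated t) : t ∈ center G := mem_center_iff.2 fun g => by
  obtain ⟨k, hk⟩ := ht.eq_pow (orderOf_pos t).ne'
  have e : t ^ 2 ^ k = 1 := hk ▸ pow_orderOf_eq_one t
  have m := H9.zstar_two_element hi e g
  rw [pPrimeCore_eq Nat.prime_two] at m
  have z := h.odd' pcore_nml pcore_pi m
  refine (commutatorElement_eq_one_iff_commute.1 (PiElt.eq_one' (π := {2}) ?_ (pcore_pi.elt m))).symm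
  refine (piNat_pow_self Nat.prime_two k).of_dvd (orderOf_dvd_of_pow_eq_one ?_)
  rw [← H4.commutatorElement_pow_left' (zc z t).symm, e, commutatorElement_one_left]

theorem zA (hS : Hall {2} S ⊤) (ab : Abel S) (ht : t ∈ S) (hn : N(S) ≤ C1(t)) : t ∈ center G :=
  h.zs (hS.pi.elt ht) fun g e => by
    have hS' := hS.of_le (le_N.trans hn) le_top
    obtain ⟨c, hc, l⟩ := sylow_le_cj' Nat.prime_two hS' ((hS.pi.elt ht).conj g).zpowers
      (zpowers_le.2 (mem_C1.2 e.symm))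
    have tc : cj c C1(t) = C1(t) := cj_eq_self_of_mem hc
    obtain ⟨n, hn', k⟩ := burnside_fusion Nat.prime_two (hS.cj_top c) (x := t) (cj_le_of_mem hS'.le hc) (mem_top g)
      (le_C1_iff.2 (abel_cj.2 ab (l (mem_zpowers _))))
    have : n ∈ C1(t) := by
      rw [← tc]; exact cj_mono hn (by rw [cj_N]; exact hn'.2)
    rw [← k, mem_C1.1 this, mul_inv_cancel_right]

theorem zS (hS : Hall {2} S ⊤) (na : ¬ Abel S) (hz : z ∈ S) (hc : z ∈ C(S)) : z ∈ center G :=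
  h.zs (hS.pi.elt hz) fun g e => by
    by_contra ne
    obtain ⟨w, hw⟩ : ∃ w, w = g * z * g⁻¹ := ⟨_, rfl⟩
    have z2 := hS.pi.elt hz
    have w2 : PiElt {2} w := hw ▸ z2.conj g
    rw [← hw] at e ne
    have sz : S ≤ C1(z) := le_C1_iff.2 hc
    have no : ∀ T, Hall {2} T ⊤ → T ≤ C1(z) → ¬ T ≤ C1(w) := fun T hT k l => by
      obtain ⟨n, hn, l'⟩ := burnside_fusion Nat.prime_two hT k (mem_top g) (hw ▸ l)
      obtain ⟨c, -, rfl⟩ := sylow_conj Nat.prime_two hS hT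
      refine na (abel_cj.1 (cent_iff.2 fun a ha b hb => h.ca (solvN hT) z (C_le_N (le_C1_iff.1 k)) n hn.2 a (le_N ha)
        b (le_N hb) (fun m => ne ?_) (mem_C1.1 (k ha)).symm (mem_C1.1 (k hb)).symm))
      rw [hw, ← l', ← m.eq, mul_inv_cancel_right]
    obtain ⟨D, hD⟩ := exists_sylow Nat.prime_two (C1(z) ⊓ C1(w))
    have mem : ∀ x, PiElt {2} x → x ∈ C1(z) ⊓ C1(w) → C1(z) ⊓ C1(w) ≤ C1(x) → x ∈ D := fun x a b c =>
      hD.nml_le ⟨zpowers_le.2 b, c.trans C1_le_N_zpowers⟩ a.zpowers (mem_zpowers x)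
    have zD := mem z z2 ⟨C1_self, mem_C1.2 e⟩ inf_le_left
    have wD := mem w w2 ⟨mem_C1.2 e.symm, C1_self⟩ inf_le_right
    have ex : ∀ x y : G, ∀ T, Hall {2} T ⊤ → T ≤ C1(x) → C1(x) ⊓ C1(y) = C1(z) ⊓ C1(w) →
        ∃ n ∈ N(D), n * n ∈ D ∧ Commute x n ∧ ¬ Commute y n := fun x y T hT k l => by
      have le : D ≤ C1(x) := hD.le.trans (l ▸ inf_le_left)
      obtain ⟨R, hR, dr⟩ := exists_sylow_le Nat.prime_two hD.pi le
      obtain ⟨n, a, b, c, d⟩ := exists_sq hR.pi (lt_of_le_of_ne dr fun m =>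
        no D (hT.of_card le_top (m ▸ hR.card_eq (hT.of_le k le_top))) (hD.le.trans inf_le_left)
          (hD.le.trans inf_le_right))
      refine ⟨n, b, d, (mem_C1.1 (hR.le a)).symm, fun m => c ?_⟩
      rw [← hD.eq_of_le le_sup_left (sup_le hD.le (zpowers_le.2 (l ▸ ⟨hR.le a, mem_C1.2 m.symm⟩))) (pi_sup2 hD.pi b d)]
      exact mem_sup_right (mem_zpowers n)
    obtain ⟨n, n1, n2, n3, n4⟩ := ex z w S hS sz rfl
    obtain ⟨m, m1, m2, -, m4⟩ := ex w z (cj g S) (hS.cj_top g) (by rw [hw, ← cj_C1]; exact cj_mono sz) (inf_comm _ _)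
    have s1 : Solv (zpowers (n * m) ⊔ D) := cyc_zpowers.solv.sup_norm hD.pi.solv (zpowers_le.2 (mul_mem n1 m1))
    have nn : n ∈ N((zpowers (n * m) ⊔ D : Subgroup G)) := mem_N_of_cj_le (by
      rw [cj_sup, cj_zpowers, cj_eq_self n1]
      refine sup_le (zpowers_le.2 ?_) le_sup_right
      have := mul_mem (mem_sup_right (mul_mem n2 m2)) (inv_mem (mem_sup_left (mem_zpowers (n * m))) :
        (n * m)⁻¹ ∈ zpowers (n * m) ⊔ D)
      convert this using 1; group)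
    have l1 : ∀ x ∈ D, x ∈ zpowers n ⊔ (zpowers (n * m) ⊔ D) := fun x k => mem_sup_right (mem_sup_right k)
    have l2 : n ∈ zpowers n ⊔ (zpowers (n * m) ⊔ D) := mem_sup_left (mem_zpowers n)
    have l3 : m ∈ zpowers n ⊔ (zpowers (n * m) ⊔ D) := by
      simpa using mul_mem (inv_mem l2) (mem_sup_right (mem_sup_left (mem_zpowers (n * m))))
    exact n4 (h.ca (cyc_zpowers.solv.sup_norm s1 (zpowers_le.2 nn)) z (l1 z zD) m l3 w (l1 w wD) n l2 m4 e n3)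

end Ctx
end H5.CA
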