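import Cfsg.Agent.H5.CA1
import Cfsg.Agent.H13.C2N
import Cfsg.Agent.H22.Rank1
import Cfsg.Agent.H26.L2R

/-! Nonsolvable groups whose proper subgroups are CA-groups: solvable normal subgroups are central (`Ctx.rad`),
perfect ones are quasisimple (`Ctx.quasi`), involution centralizers are 2-nilpotent (`Cov.c2n`), 2-subgroups of the
central quotient are abelian or generalized dihedral (`Cov.gd`). -/

set_option autoImplicit false
set_option linter.unusedSectionVars false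
set_option linter.unusedVariables false

open Subgroup Cfsg H18 H18.GT H21
open scoped commutatorElement

namespace H5.CA

variable {G : Type*} [Group G] [Finite G] {A B D H K L M P S T V : Subgroup G} {a b c e g s t u v w x y z : G}

theorem solv_of_der (h : Solv ⁅K, K⁆) : Solv K :=
  solv_of_quo (norm_der le_N) ((abel_quo_iff (norm_der le_N)).2 le_rfl).solv h

theorem inv3 {Q : Type*} [Group Q] {s a : Q} (h1 : s * s = 1) (h2 : s * a * (s * a) = 1) : s * a * s⁻¹ = a⁻¹ := by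
  rw [inv_eq_of_mul_eq_one_right h1]; exact eq_inv_of_mul_eq_one_left (by rw [← h2]; group)

theorem cm {x y : H} : Commute (x : G) y ↔ Commute x y := ⟨fun h => Subtype.ext h, fun h => congrArg Subtype.val h⟩

theorem st_sub (h : ∀ K : Subgroup G, K ≠ ⊤ → CAs K) (K : Subgroup H) (hK : K ≠ ⊤) : CAs K :=
  fun x hx y hy a ha b hb n e1 e2 => cm.1 (h (K.map H.subtype) (fun e => hK (eq_top_iff.2 fun k _ => by
    obtain ⟨l, m, n⟩ := e.ge (mem_top (k : G)); exact (Subtype.ext n : l = k) ▸ m)) x (mem_map_of_mem _ hx) y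
    (mem_map_of_mem _ hy) a (mem_map_of_mem _ ha) b (mem_map_of_mem _ hb) (fun e => n (cm.1 e)) (cm.2 e1) (cm.2 e2))

/-- a central quotient map -/
structure Cov {X : Type*} [Group X] (f : G →* X) : Prop where
  sur : Function.Surjective f
  ker : ∀ x, f x = 1 ↔ x ∈ center G

theorem cov_mk : Cov (QuotientGroup.mk' (center G)) :=
  ⟨QuotientGroup.mk'_surjective _, fun x => QuotientGroup.eq_one_iff x⟩

namespace Cov
variable {X : Type*} [Group X] [Finite X] {f : G →* X} (k : Cov f)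
include k

theorem com : Commute (f a) (f b) ↔ ⁅a, b⁆ ∈ center G := by
  rw [← k.ker, map_commutatorElement, commutatorElement_eq_one_iff_commute]

theorem cop (h : Commute (f a) (f b)) {m n : ℕ} (hm : f a ^ m = 1) (hn : f b ^ n = 1) (c : m.Coprime n) :
    Commute a b :=
  CA.cop (k.com.1 h) ((k.ker _).1 (by rw [map_pow, hm])) ((k.ker _).1 (by rw [map_pow, hn])) c

theorem comp {Y : Type*} [Group Y] (e : X ≃* Y) : Cov (e.toMonoidHom.comp f) :=
  ⟨e.surjective.comp k.sur, fun x => by simp [← k.ker]⟩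

theorem lift {π : Set ℕ} {x : X} (h : PiElt π x) : ∃ y, PiElt π y ∧ f y = x := by
  obtain ⟨y, rfl⟩ := k.sur x
  refine ⟨piPart π y, piElt_piPart, ?_⟩
  have := piPart_eq (π := π) (a := f (piPart π y)) (b := f (piPart πᶜ y))
    (by rw [← map_mul, ← map_mul, piPart_comm_piPart]) (piElt_piPart.of_dvd (orderOf_map_dvd f _))
    (piElt_piPart.of_dvd (orderOf_map_dvd f _))
  rw [← this, ← map_mul, piPart_mul_compl, piPart_eq_self h]

theorem ne {K : Subgroup X} (h : K ≠ ⊤) : K.comap f ≠ ⊤ := fun e =>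
  h (by rw [← map_comap_eq_self_of_surjective k.sur K, e, map_top_of_surjective f k.sur])

end Cov

namespace Ctx
variable (h : Ctx G)
include h

theorem two (hS : Hall {2} S ⊤) (na : ¬ Abel S) : ∃ c ∈ S, c ∈ C(⁅S, S⁆) ∧ (∃ s ∈ S, ¬ Commute c s) ∧
    (∀ s ∈ S, ⁅c, s⁆ ∈ center G) ∧ (∀ s ∈ S, ¬ Commute c s → s * s ∈ center G) ∧
    (∀ a ∈ S, ∀ b ∈ S, Commute c a → Commute c b → Commute a b) ∧
    ∀ b ∈ S, b ∉ center G → Commute c b → ∀ s ∈ S, Commute b s → Commute c s := by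
  have ca := h.ca hS.pi.solv
  obtain ⟨c, hc, c1, -, c2, c3⟩ := two_grp hS.pi ca na
  obtain ⟨s, hs, n⟩ := ex_nc c1
  refine ⟨c, hc, zTwo_cent_der (mem_zTwo.2 ⟨hc, c2⟩), ⟨s, hs, n⟩,
    fun s hs => h.zS hS na (der_le (commutator_mem_commutator hc hs)) (c2 s hs),
    fun s hs e => h.zS hS na (mul_mem hs hs) (c3 s hs e), fun a ha b hb => ca c hc s hs a ha b hb n,
    fun b hb e m x hx l => ?_⟩
  obtain ⟨y, hy, e⟩ := ex_nc fun k => e (h.zS hS na hb k)
  exact ca b hb y hy c hc x hx e m.symm l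

theorem even (hP : P ⊴ ⊤) (h2 : PiGrp {2} P) (d : ⁅P, P⁆ ≤ center G) (mn : ∀ B, B ⊴ ⊤ → B < P → B ≤ center G) :
    P ≤ center G := by
  have hC : C(P) ⊴ ⊤ := ⟨le_top, norm_C hP.2⟩
  by_cases hs : Solv C(P)
  swap
  · exact (cent_symm le_rfl).trans (h.cent hC hs)
  exfalso
  obtain ⟨S, hS⟩ := exists_sylow Nat.prime_two (⊤ : Subgroup G)
  have PS := hS.nml_le hP h2
  have := hP.normal
  obtain ⟨f, k⟩ : ∃ f : G →* G ⧸ center G, Cov f := ⟨_, cov_mk⟩
  have := this.map f k.sur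
  obtain ⟨K, hK, mK⟩ : ∃ K : Subgroup G, K ⊴ ⊤ ∧ ∀ x, x ∈ K ↔ ∀ e ∈ P, Commute (f x) (f e) :=
    ⟨C(P.map f).comap f, nml_top, fun x => ⟨fun m e he => cC m (mem_map_of_mem f he), fun m => mem_C.2 (by
      rintro _ ⟨e, he, rfl⟩; exact (m e he).symm)⟩⟩
  have l : ⁅K, P⁆ ≤ C(K) := (commutator_le.2 fun x hx e he => k.com.1 ((mK x).1 hx e he)).trans
    (center_le_centralizer _)
  have sK : Solv K := solv_of_der (hs.of_le (comm_eq_bot_iff.1 (three_subgroup (comm_eq_bot_iff.2 l)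
    (comm_eq_bot_iff.2 (comm_comm.le.trans l)))))
  have nl : ¬ S ≤ K := fun e => h.not_le hK sK hS 1 (e.trans le_sup_right)
  suffices key : ∀ s ∈ S, ∀ s' ∈ S, s ∉ K → s' ∉ K → s * s' ∈ K by
    obtain ⟨s, hs, n⟩ := SetLike.not_le_iff_exists.1 nl
    obtain ⟨s', hs', n'⟩ := SetLike.not_le_iff_exists.1 (h.not_le hK sK hS s)
    exact n' (by
      simpa using mul_mem (inv_mem (mem_sup_left (mem_zpowers s) : s ∈ zpowers s ⊔ K))
        (mem_sup_right (key s hs s' hs' n fun e => n' (mem_sup_right e))))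
  have na : ¬ Abel S := fun ab => nl fun x hx => (mK x).2 fun e he => (cC (ab hx) (PS he)).map f
  obtain ⟨c, hc, c0, -, c1, c2, c3, c4⟩ := h.two hS na
  have nm : ∀ x y, ¬ Commute c x → Commute c y → ¬ Commute c (x * y) := fun x y e k l =>
    e (by simpa using l.mul_right k.inv_right)
  have sq : ∀ s ∈ S, ¬ Commute c s → f s * f s = 1 := fun s hs e => by rw [← map_mul, k.ker]; exact c2 s hs e
  have iv : ∀ s ∈ S, ¬ Commute c s → ∀ a ∈ S, Commute c a → f s * f a * (f s)⁻¹ = (f a)⁻¹ := fun s hs e a ha m =>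
    inv3 (sq s hs e) (by rw [← map_mul]; exact sq _ (mul_mem hs ha) (nm _ _ e m))
  have iv2 : ∀ s ∈ S, ¬ Commute c s → ∀ s' ∈ S, ¬ Commute c s' → ∀ a ∈ S, Commute c a → Commute (f (s * s')) (f a) :=
    fun s hs e s' hs' e' a ha m => by
      have : f s * (f s' * f a * (f s')⁻¹) * (f s)⁻¹ = f a := by
        rw [iv s' hs' e' a ha m, ← map_inv, iv s hs e _ (inv_mem ha) m.inv_right, map_inv, inv_inv]
      rw [map_mul]
      calc _ = f s * (f s' * f a * (f s')⁻¹) * (f s)⁻¹ * (f s * f s') := by group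
        _ = _ := by rw [this]
  by_cases pc : ∀ e ∈ P, Commute c e
  · have : ∀ s ∈ S, s ∉ K → ¬ Commute c s := fun s hs n m =>
      n ((mK s).2 fun e he => (c3 s hs e (PS he) m (pc e he)).map f)
    exact fun s hs s' hs' n n' => (mK _).2 fun e he => iv2 s hs (this s hs n) s' hs' (this s' hs' n') e (PS he) (pc e he)
  push Not at pc
  obtain ⟨e, he, ce⟩ := pc
  have fx : ∀ b ∈ P, Commute c b → ∀ s ∈ S, Commute (f s) (f b) := fun b hb m s hs => by
    by_cases n : Commute c s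
    · exact (c3 s hs b (PS hb) n m).map f
    have e1 := iv e (PS he) ce b (PS hb) m
    rw [(k.com.2 (d (commutator_mem_commutator he hb))).eq, mul_inv_cancel_right] at e1
    have e2 := iv s hs n b (PS hb) m
    rw [← e1, mul_inv_eq_iff_eq_mul] at e2
    exact e2
  have i2 : ∀ s ∈ S, ¬ Commute c s → ∀ s' ∈ S, ¬ Commute c s' → Commute c (s * s') := fun s hs n s' hs' n' => by
    by_contra m
    refine nl fun x hx => (mK x).2 fun e he => k.com.2 (der_le_of_sq (X := S) (Y := center G) norm_of_normal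
      (fun a ha => ?_) (commutator_mem_commutator hx (PS he)))
    by_cases l : Commute c a
    · have e1 := iv _ (mul_mem hs hs') m a ha l
      rw [(iv2 s hs n s' hs' n' a ha l).eq, mul_inv_cancel_right] at e1
      rw [← k.ker, map_mul]; nth_rewrite 1 [e1]; group
    · exact c2 a ha l
  have o2 : ∀ a ∈ P, Commute c a → a ∉ center G → ∀ b ∈ P, Commute c b → b ∉ center G → a * b ∈ center G :=
    fun a ha ca a1 b hb cb b1 => by
      have : ∃ g, ¬ cj g (P ⊓ C1(c)) ≤ P ⊓ C1(c) := by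
        by_contra! m
        exact a1 (mn (P ⊓ C1(c)) ⟨le_top, fun g _ => mem_N_of_cj_le (m g)⟩
          (lt_of_le_of_ne inf_le_left fun l => ce (mem_C1.1 (l.ge he).2).symm) ⟨ha, mem_C1.2 ca.symm⟩)
      obtain ⟨g, m⟩ := this
      obtain ⟨_, ⟨x, hx, rfl⟩, m⟩ := SetLike.not_le_iff_exists.1 m
      have xP : g * x * g⁻¹ ∈ P := conj_mem hP.2 (mem_top g) hx.1
      have cl : ∀ y ∈ P, Commute c y → y ∉ center G → ¬ Commute c (g⁻¹ * y * g) := fun y hy y1 y2 l => by
        have := (c3 _ (PS (conj_mem' hP.2 (mem_top g) hy)) x (PS hx.1) l (mem_C1.1 hx.2).symm).conj g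
        refine m ⟨xP, mem_C1.2 (c4 y (PS hy) y2 y1 _ (PS xP) ?_).symm⟩
        simpa [mul_assoc] using this
      by_contra n
      refine cl _ (mul_mem ha hb) (ca.mul_right cb) n ?_
      simpa [mul_assoc] using i2 _ (PS (conj_mem' hP.2 (mem_top g) ha)) (cl a ha ca a1) _
        (PS (conj_mem' hP.2 (mem_top g) hb)) (cl b hb cb b1)
  have cr : ∀ s ∈ S, Commute (f s) (f e) → s ∈ K := fun s hs m => (mK s).2 fun p hp => by
    by_cases n : Commute c p
    · exact fx p hp n s hs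
    · simpa using (fx _ (mul_mem hp he) (i2 p (PS hp) n e (PS he) ce) s hs).mul_right m.inv_right
  intro s hs s' hs' n n'
  have m1 : ∀ s ∈ S, ⁅s, e⁆ ∈ P := fun s hs => comm_le_right (le_top.trans hP.2) (commutator_mem_commutator hs he)
  have m2 : ∀ s ∈ S, Commute c ⁅s, e⁆ := fun s hs => cC c0 (commutator_mem_commutator hs (PS he))
  have := (k.ker _).2 (o2 _ (m1 s' hs') (m2 s' hs') (fun l => n' (cr s' hs' (k.com.2 l))) _ (m1 s hs) (m2 s hs)
    fun l => n (cr s hs (k.com.2 l)))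
  have q := (fx _ (m1 s' hs') (m2 s' hs') s hs).eq
  refine cr _ (mul_mem hs hs') (commutatorElement_eq_one_iff_commute.1 ?_)
  rw [← this, map_mul, map_mul]
  calc _ = f s * f ⁅s', e⁆ * (f s)⁻¹ * f ⁅s, e⁆ := by simp only [commutatorElement_def, map_mul, map_inv]; group
    _ = _ := by rw [q]; group

theorem rad (hV : V ⊴ ⊤) (hs : Solv V) : V ≤ center G := by_contra fun n => by
  obtain ⟨P, -, h1, h2, d, m, e | e⟩ := h.red hV hs n
  exacts [h2 (h.even h1 e d m), h2 (h.odd h1 e d)]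

theorem sub (hH : ¬ Solv H) : Ctx H := ⟨st_sub h.st, fun e => hH (solv_top_iff.1 e)⟩

theorem rad' (hH : ¬ Solv H) (hV : V ⊴ H) (hs : Solv V) : V ≤ C(H) := fun x hx => mem_C.2 fun y hy => by
  have := hV.subgroupOf_normal
  have := (h.sub hH).rad (V := V.subgroupOf H) nml_top (solv_map_subtype.1 (hs.of_le (map_subgroupOf_eq_of_le hV.le).le))
    (show (⟨x, hV.le hx⟩ : H) ∈ V.subgroupOf H from hx)
  exact congrArg Subtype.val (mem_center_iff.1 this ⟨y, hy⟩)

theorem quasi (hp : ⁅(⊤ : Subgroup G), (⊤ : Subgroup G)⁆ = ⊤) (hV : V ⊴ ⊤) (n : V ≠ ⊤) : V ≤ center G := by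
  refine h.rad hV (by_contra fun ns => ?_)
  obtain ⟨T, hT⟩ := exists_sylow Nat.prime_two V
  refine ns (burn hT (inf_le_right.trans (cent_symm (h.rad' (fun e => n ?_) nml_N hT.pi.solv))))
  have s : Solv (⊤ ⫽ V) := by
    rw [← frattini_arg Nat.prime_two hV hT, quo_self_sup (le_top.trans hV.2)]
    exact (e.of_le inf_le_right).mim
  exact top_le_iff.1 ((quo_eq_bot_iff hV.2).1 (s.eq_bot_of_le_der (by rw [← mim_comm hV.2 hV.2, hp])))

theorem pn (ht : PiElt {2} t) (hz : t ∉ center G) : PNil 2 C1(t) := by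
  obtain ⟨T, hT, l⟩ := exists_sylow_le Nat.prime_two ht.zpowers (zpowers_le.2 C1_self)
  have tT := l (mem_zpowers t)
  have n : N(T) ≠ ⊤ := fun e => hz (h.rad ⟨le_top, e.ge⟩ hT.pi.solv tT)
  have : ∃ y ∈ N(T), ¬ Commute t y := by
    by_cases k : Hall {2} T ⊤
    · by_contra! m
      by_cases ab : Abel T
      · exact hz (h.zA k ab tT fun y hy => mem_C1.2 (m y hy).symm)
      · exact hz (h.zS k ab tT (le_C1_iff.1 hT.le))
    · obtain ⟨y, a, b, c⟩ := exists_sq_top hT.pi k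
      refine ⟨y, a, fun m => b ?_⟩
      rw [← hT.eq_of_le le_sup_left (sup_le hT.le (zpowers_le.2 (mem_C1.2 m.symm))) (pi_sup2 hT.pi a c)]
      exact mem_sup_right (mem_zpowers y)
  obtain ⟨y, hy, e⟩ := this
  exact Burnside_normal_complement Nat.prime_two hT (cent_iff.2 fun a ha b hb => h.st _ n t (le_N tT) y hy a ha.2 b
    (le_N hb) e (mem_C1.1 ha.1).symm (mem_C1.1 (hT.le hb)).symm)

end Ctx

namespace Cov
variable {X : Type*} [Group X] [Finite X] {f : G →* X} (k : Cov f) (h : Ctx G)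
include k h

theorem c2n : H13.C2N X := fun t t2 t1 => by
  obtain ⟨t, ht, rfl⟩ := k.lift (piElt_of_pow_eq_one Nat.prime_two (by rw [sq, t2]))
  have pn := h.pn ht fun e => t1 ((k.ker t).2 e)
  have l : ∀ x ∈ C1(f t), Odd (orderOf x) → ∃ y ∈ O[{2}ᶜ](C1(t)), f y = x := fun x hx o => by
    obtain ⟨y, hy, rfl⟩ := k.lift (odd_elt o)
    exact ⟨y, pn.mem_of_nml (norm_pcore le_N) (mem_C1.2 (k.cop (mem_C1.1 hx) (pow_orderOf_eq_one _) (by rw [sq, t2])
      (Nat.coprime_two_right.2 o))) hy, rfl⟩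
  refine H326.pnil_of_mul fun x hx y hy a b => ?_
  obtain ⟨x, h1, rfl⟩ := l x hx a
  obtain ⟨y, h2, rfl⟩ := l y hy b
  rw [← map_mul]
  exact (piNat_two_compl.1 (pcore_pi.elt (mul_mem h1 h2))).of_dvd_nat (orderOf_map_dvd f _)

omit h in
theorem syl {p : ℕ} (hp : p.Prime) {U : Subgroup X} (hU : PiGrp {p} U) : ∃ S, Hall {p} S ⊤ ∧ U ≤ S.map f := by
  obtain ⟨T, hT⟩ := exists_sylow hp (U.comap f)
  obtain ⟨S, hS, l⟩ := exists_sylow_le hp hT.pi le_top
  have := H22.hall_map hT f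
  rw [map_comap_eq_self_of_surjective k.sur] at this
  exact ⟨S, hS, (this.eq_self hU).ge.trans (map_mono l)⟩

theorem gd {U : Subgroup X} (hU : PiGrp {2} U) : Abel U ∨ ∃ A, ¬ U ≤ A ∧ ∀ u ∈ U, u ∉ A → u * u = 1 := by
  obtain ⟨S, hS, l⟩ := k.syl Nat.prime_two hU
  have ab : ∀ A : Subgroup G, Abel A → U ≤ A.map f → Abel U := fun A a l => cent_iff.2 fun x hx y hy => by
    obtain ⟨x, h1, rfl⟩ := l hx
    obtain ⟨y, h2, rfl⟩ := l hy
    exact ((cC (a h1) h2).map f).eq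
  by_cases na : Abel S
  · exact Or.inl (ab S na l)
  obtain ⟨c, -, -, -, -, c2, c3, -⟩ := h.two hS na
  by_cases m : U ≤ (S ⊓ C1(c)).map f
  · exact Or.inl (ab (S ⊓ C1(c)) (cent_iff.2 fun x hx y hy => c3 x hx.1 y hy.1 (mem_C1.1 hx.2).symm (mem_C1.1 hy.2).symm) m)
  refine Or.inr ⟨_, m, fun u hu n => ?_⟩
  obtain ⟨s, hs, rfl⟩ := l hu
  rw [← map_mul, k.ker]
  exact c2 s hs fun e => n (mem_map_of_mem f ⟨hs, mem_C1.2 e.symm⟩)

theorem simple (hp : ⁅(⊤ : Subgroup G), (⊤ : Subgroup G)⁆ = ⊤) : IsSimpleGroup X ∧ ¬ IsMulCommutative X := by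
  have n : ¬ IsMulCommutative X := fun e => h.ns (solv_of_der (Abel.solv ((show ⁅(⊤ : Subgroup G), (⊤ : Subgroup G)⁆ ≤ center G from
    commutator_le.2 fun a _ b _ => k.com.1 (e.1.1 _ _)).trans (center_le_centralizer _))))
  have : Nontrivial X := not_subsingleton_iff_nontrivial.1 fun e => n ⟨⟨fun _ _ => Subsingleton.elim _ _⟩⟩
  refine ⟨⟨fun V hV => or_iff_not_imp_right.2 fun e => eq_bot_iff.2 fun x hx => ?_⟩, n⟩
  obtain ⟨x, rfl⟩ := k.sur x
  exact (k.ker x).2 (h.quasi hp (V := V.comap f) nml_top (k.ne e) hx)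

end Cov
end H5.CA
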