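import Cfsg.Agent.H5.CA2
import Cfsg.Agent.S3214
import Cfsg.Agent.S2241
import Cfsg.Agent.S0330
import Cfsg.Agent.H27.StK
import Cfsg.Agent.H19.L34
import Cfsg.Agent.H25.PSLField
import Cfsg.Agent.H26.L2T
import Cfsg.Agent.H9.L2

/-! Perfect groups whose proper subgroups are CA-groups are central extensions of `PSL(2,q)` (`Ctx.psl`);
centralizers in `PSL(2,q)` (`psl_c`), automorphisms of odd prime order (`aut_form`, `no_field`). -/

set_option autoImplicit false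
set_option linter.unusedSectionVars false
set_option linter.unusedVariables false

open Subgroup Cfsg H18 H18.GT H21 Matrix
open scoped commutatorElement MatrixGroups

namespace H5.CA

variable {G : Type*} [Group G] [Finite G] {A B D H K L M P S T V : Subgroup G} {a b c e g s t u v w x y z : G}

namespace Cov
variable {X : Type*} [Group X] [Finite X] {f : G →* X} (k : Cov f) (h : Ctx G)
include k h

theorem not_sz : ¬ Lie.IsoSuzuki X := fun e => by
  obtain ⟨F, _, _, m, hF, ⟨e⟩⟩ := H27.isoSuzuki_iff.1 e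
  obtain ⟨P⟩ : Nonempty (Sylow 2 (Cfsg.Sz F m)) := inferInstance
  obtain ⟨c1, c2, c3, c4⟩ := Cfsg.Agent.S0330.result hF.hm hF.card P
  obtain ab | ⟨A, n, l⟩ := (k.comp e).gd h (hall_sylow_top Nat.prime_two P).pi
  · have := ab.comm
    have e1 : center (P : Subgroup (Cfsg.Sz F m)) = ⊤ := eq_top_iff.2 fun x _ => mem_center_iff.2 fun y => this.1.1 _ _
    have e2 : _root_.commutator (P : Subgroup (Cfsg.Sz F m)) = ⊥ := eq_bot_iff.2 (commutator_le.2 fun x _ y _ =>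
      commutatorElement_eq_one_iff_mul_comm.2 (this.1.1 _ _))
    rw [c3, e2, card_bot] at c4
    exact absurd c4 (Nat.one_lt_two_pow (by omega)).ne
  · obtain ⟨s, hs, n⟩ := SetLike.not_le_iff_exists.1 n
    have : Monoid.exponent P ∣ 2 := Monoid.exponent_dvd_of_forall_pow_eq_one fun g => Subtype.ext (by
      obtain ⟨g, hg⟩ := g
      show g ^ 2 = 1
      by_cases g1 : g = 1
      · rw [g1, one_pow]
      by_cases j : g ∈ A
      · have := inv3 (l s hs n) (l _ (mul_mem hs hg) fun e => n ((A.mul_mem_cancel_right j).1 e))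
        rw [← (Cfsg.Agent.S2241.result hF.hm hF.card P g hg g1).1 (isConj_iff.2 ⟨s, this⟩), pow_orderOf_eq_one]
      · rw [sq, l g hg j])
    rw [c2] at this
    omega

theorem not_l34 {F : Type*} [Field F] [Fintype F] (hF : Fintype.card F = 4) (e : X ≃* PSL(3, F)) : False := by
  have h2 := H19.L34.char2 hF
  obtain ab | ⟨A, n, l⟩ := (k.comp e).gd h (U := H19.L34.U F) (piGrp_of_card_pow Nat.prime_two (n := 6) (by
    rw [H19.L34.card_U, hF]; rfl))
  · have := comm_of_cent ab ⟨1, 0, 0, rfl⟩ ⟨0, 1, 0, rfl⟩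
    rw [← map_mul, ← map_mul, H19.L34.u_mul, H19.L34.u_mul] at this
    simpa using (H19.L34.pi_u_inj this).2.2
  have ex : ∀ x : F, ∃ t, t ≠ 0 ∧ x - t ≠ 0 := fun x => by
    classical
    by_contra! m
    have : (Finset.univ : Finset F) ⊆ {0, x} := fun t _ => by
      by_cases t0 : t = 0
      · simp [t0]
      · simp [sub_eq_zero.1 (m t t0)]
    have := (Finset.card_le_card this).trans Finset.card_le_two
    rw [Finset.card_univ, hF] at this
    omega
  have m : ∀ x y z : F, x ≠ 0 → y ≠ 0 → H19.L34.pi (H19.L34.u x y z) ∈ A := fun x y z x0 y0 => by_contra fun e => by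
    have := l _ ⟨x, y, z, rfl⟩ e
    rw [← map_mul, H19.L34.u_mul, ← map_one H19.L34.pi, ← H19.L34.u_zero] at this
    exact mul_ne_zero x0 y0 (by linear_combination (H19.L34.pi_u_inj this).2.2 - z * h2)
  refine n ?_
  rintro _ ⟨x, y, z, rfl⟩
  obtain ⟨t, t0, t1⟩ := ex x
  obtain ⟨s, s0, s1⟩ := ex y
  have := mul_mem (m _ _ (z - (x - t) * s) t1 s1) (m t s 0 t0 s0)
  rw [← map_mul, H19.L34.u_mul] at this
  simpa using this

open scoped Pointwise in
theorem not_a7 (e : X ≃* alternatingGroup (Fin 7)) : False := by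
  have k := k.comp e
  obtain ⟨f, k⟩ : ∃ f : G →* alternatingGroup (Fin 7), Cov f := ⟨_, k⟩
  let K := MulAction.stabilizer (alternatingGroup (Fin 7)) ({4, 5, 6} : Finset (Fin 7))
  have n : K ≠ ⊤ := fun e => by
    have := MulAction.mem_stabilizer_iff.1 (e.ge (mem_top ⟨Equiv.swap 3 4 * Equiv.swap 0 1, by simp⟩))
    revert this; decide
  have ca := h.st _ (k.ne n)
  have l : ∀ p : alternatingGroup (Fin 7), p • ({4, 5, 6} : Finset (Fin 7)) = {4, 5, 6} → ∃ g ∈ K.comap f, f g = p :=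
    fun p hp => by
      obtain ⟨g, rfl⟩ := k.sur p
      exact ⟨g, hp, rfl⟩
  obtain ⟨x, hx, ex⟩ := l ⟨Equiv.swap 4 5 * Equiv.swap 5 6, by simp⟩ (by decide)
  obtain ⟨y, hy, ey⟩ := l ⟨Equiv.swap 0 1 * Equiv.swap 1 2, by simp⟩ (by decide)
  obtain ⟨r, hr, er⟩ := l ⟨Equiv.swap 0 2 * Equiv.swap 1 3 * (Equiv.swap 0 1 * Equiv.swap 4 5), by simp⟩ (by decide)
  have n1 : ¬ Commute r x := fun e => absurd (e.map f).eq (by rw [ex, er]; decide)
  have n2 : ¬ Commute (r * r) y := fun e => absurd (e.map f).eq (by rw [map_mul, ey, er]; decide)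
  refine n1 (ca _ (mul_mem hr hr) y hy r hr x hx n2 ((Commute.refl r).mul_left (Commute.refl r))
    (k.cop (m := 2) (n := 3) ?_ ?_ ?_ (by decide)))
  · rw [map_mul, ex, er]; show _ = _; decide
  · rw [map_mul, er]; decide
  · rw [ex]; decide

end Cov

theorem Ctx.psl (h : Ctx G) (hp : ⁅(⊤ : Subgroup G), (⊤ : Subgroup G)⁆ = ⊤) :
    ∃ (F : Type) (_ : Field F) (_ : Fintype F) (f : G →* PSL(2, F)), 3 < Fintype.card F ∧ Cov f := by
  have k := cov_mk (G := G)
  obtain ⟨s, n⟩ := k.simple h hp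
  obtain ⟨F, _, _, l, ⟨e⟩⟩ | e | ⟨⟨e⟩⟩ | ⟨F, _, _, l, ⟨e⟩⟩ := Cfsg.Agent.S3214.result n fun t ht =>
    (hasNormalPComplement_iff Nat.prime_two).2 (k.c2n h t (H9.orderOf_eq_two.1 ht).1 (H9.orderOf_eq_two.1 ht).2)
  exacts [⟨F, _, _, _, l, k.comp e⟩, (k.not_sz h e).elim, (k.not_a7 h e).elim, (k.not_l34 h l e).elim]

theorem Cov.aut {X : Type*} [Group X] [Finite X] {f : G →* X} (k : Cov f) (α : MulAut G) :
    ∃ θ : MulAut X, ∀ g, θ (f g) = f (α g) := by
  let φ : X →* X := f.liftOfSurjective k.sur ⟨f.comp α.toMonoidHom, fun g hg => (k.ker _).2 (mem_center_iff.2 fun y => by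
    obtain ⟨y, rfl⟩ := α.surjective y
    simpa using congrArg α (mem_center_iff.1 ((k.ker g).1 hg) y))⟩
  have e : ∀ g, φ (f g) = f (α g) := fun g => f.liftOfRightInverse_comp_apply _ _ _ g
  have s : Function.Surjective φ := fun x => by
    obtain ⟨g, rfl⟩ := (k.sur.comp α.surjective) x
    exact ⟨f g, e g⟩
  exact ⟨MulEquiv.ofBijective φ ⟨Finite.injective_iff_surjective.2 s, s⟩, e⟩

section PSL
variable {F : Type*} [Field F] [Fintype F]
open H10 (π)

theorem psl_c {x a b : PSL(2, F)} (h1 : x ≠ 1) (h : (2 : F) = 0 ∨ x * x ≠ 1) (ha : Commute x a) (hb : Commute x b) :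
    Commute a b := by
  obtain ⟨x, rfl⟩ := H10.π_surjective x
  obtain ⟨a, rfl⟩ := H10.π_surjective a
  obtain ⟨b, rfl⟩ := H10.π_surjective b
  have e := H9.L2.comap_cent (g := x) (h.imp_right fun n e => n (by rw [← sq]; exact H9.L2.sq_of_trace_zero e))
  exact Commute.map (congrArg Subtype.val (H24.cent_SL_comm (H9.L2.not_isScal_of_ne_one h1) ⟨a, e.le (mem_C1.2 ha.symm)⟩
    ⟨b, e.le (mem_C1.2 hb.symm)⟩)) _

theorem aut_form {θ : MulAut PSL(2, F)} {r : ℕ} (hr : r.Prime) (r2 : r ≠ 2) (h : θ ^ r = 1) : θ ∈ Inn PSL(2, F) ∨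
    ∃ (δ : MulAut PSL(2, F)) (σ : F ≃+* F), σ ≠ 1 ∧ σ ^ r = 1 ∧
      ∀ s : SL(2, F), δ.symm (θ (δ (π F s))) = π F (SpecialLinearGroup.map (σ : F →+* F) s) := by
  obtain ⟨γ, rfl⟩ := H25.pslGamma_surj (ι := Fin 2) (F := F) (by simp) θ
  have d := orderOf_dvd_of_pow_eq_one h
  obtain e | e := (Nat.dvd_prime hr).1 ((H25.orderOf_right_dvd γ).trans d)
  · refine Or.inl (mem_of_sq_odd ((hr.odd_of_ne_two r2).of_dvd_nat d) ?_)
    rw [← SemidirectProduct.inl_left_mul_inr_right γ, orderOf_eq_one_iff.1 e, map_one, mul_one, H25.pslGamma_inl,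
      ← map_mul, H25.pslDiag_mem_inn]
    exact ⟨GeneralLinearGroup.det γ.left, by simp [sq]⟩
  · obtain ⟨δ, -, l⟩ := H25.lang_PSL_field γ (e ▸ h)
    refine Or.inr ⟨δ, γ.right, fun m => hr.ne_one (by rw [← e, m, orderOf_one]), e ▸ pow_orderOf_eq_one _, fun s => ?_⟩
    rw [l]
    simpa using (H25.semilinear_iff 1 γ.right _).2 (H25.pslGamma_inr γ.right) s
      (SpecialLinearGroup.map (γ.right : F →+* F) s) (by simp)

/-- unipotent matrix -/
def up (a : F) : SL(2, F) := ⟨!![1, a; 0, 1], by simp⟩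

/-- diagonal matrix -/
def dg (t : Fˣ) : SL(2, F) := ⟨!![(t : F), 0; 0, (t⁻¹ : Fˣ)], by simp⟩

theorem up_coe (a : F) : (up a).1 = !![1, a; 0, 1] := rfl

theorem dg_coe (t : Fˣ) : (dg t).1 = !![(t : F), 0; 0, (t⁻¹ : Fˣ)] := rfl

theorem cmul (g h : SL(2, F)) : (g * h).1 = g.1 * h.1 := rfl

theorem up_mul (a b : F) : up a * up b = up (a + b) := by
  ext i j; fin_cases i <;> fin_cases j <;> simp [up_coe, cmul, add_comm]

theorem dg_inv (t : Fˣ) : (dg t)⁻¹ = dg t⁻¹ := inv_eq_of_mul_eq_one_right (by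
  ext i j; fin_cases i <;> fin_cases j <;> simp [dg_coe, cmul])

theorem up_zero : up (0 : F) = 1 := by ext i j; fin_cases i <;> fin_cases j <;> simp [up]

theorem dg_up (t : Fˣ) (a : F) : dg t * up a = up (t ^ 2 * a) * dg t := by
  ext i j; fin_cases i <;> fin_cases j <;> simp [up_coe, dg_coe, cmul]
  field_simp

theorem map_up (σ : F →+* F) (a : F) : SpecialLinearGroup.map σ (up a) = up (σ a) := by
  ext i j
  show σ ((up a).1 i j) = _
  fin_cases i <;> fin_cases j <;> simp [up_coe]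

theorem up_inj {a b : F} (h : π F (up a) = π F (up b)) : a = b := by
  obtain e | e := (H10.π_eq_iff _ _).1 h
  · simpa [up] using congrArg (fun s : SL(2, F) => s 0 1) e
  · have e1 : (1 : F) = -1 := congrArg (fun s : SL(2, F) => s.1 0 0) e
    have e2 : a = -b := congrArg (fun s : SL(2, F) => s.1 0 1) e
    linear_combination e2 - b * e1

/-- the unipotent subgroup -/
def UU (F : Type*) [Field F] [Fintype F] : Subgroup PSL(2, F) where
  carrier := {g | ∃ a, g = π F (up a)}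
  one_mem' := ⟨0, by rw [up_zero, map_one]⟩
  mul_mem' := by rintro _ _ ⟨a, rfl⟩ ⟨b, rfl⟩; exact ⟨_, by rw [← map_mul, up_mul]⟩
  inv_mem' := by
    rintro _ ⟨a, rfl⟩
    exact ⟨-a, inv_eq_of_mul_eq_one_right (by rw [← map_mul, up_mul, add_neg_cancel, up_zero, map_one])⟩

theorem sig {σ : F ≃+* F} {r : ℕ} (ho : Odd r) (h : σ ^ r = 1)
    (e : ∀ t : Fˣ, σ (t ^ 2 + ((t : F) ^ 2)⁻¹) = t ^ 2 + ((t : F) ^ 2)⁻¹) : σ = 1 := by
  have e2 : ∀ t : F, σ (σ (t ^ 2)) = t ^ 2 := fun t => by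
    by_cases t0 : t = 0
    · simp [t0]
    have := e (Units.mk0 t t0)
    rw [Units.val_mk0, map_add, map_inv₀] at this
    have l0 : t ^ 2 ≠ 0 := pow_ne_zero 2 t0
    generalize t ^ 2 = l at this l0
    have m0 : σ l ≠ 0 := by simpa using l0
    have : (σ l - l) * (σ l - l⁻¹) = 0 := by field_simp at this ⊢; linear_combination this
    obtain m | m := mul_eq_zero.1 this <;> rw [sub_eq_zero] at m
    · rw [m, m]
    · rw [m, map_inv₀, m, inv_inv]
  have e4 : σ ^ 4 = 1 := RingEquiv.ext fun t => by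
    have := e2 t
    rw [map_pow, map_pow, sq_eq_sq_iff_eq_or_eq_neg] at this
    show σ (σ (σ (σ t))) = t
    obtain m | m := this
    · rw [m, m]
    · rw [m, map_neg, map_neg, m, neg_neg]
  have := (pow_gcd_eq_one (a := σ)).2 ⟨h, e4⟩
  rwa [show r.gcd 4 = 1 from (Nat.coprime_two_right.2 ho).pow_right 2, pow_one] at this

theorem no_field (h : Ctx G) [L.Normal] (hc : C(L) ≤ center G) {f : L →* PSL(2, F)} (k : Cov f)
    (h3 : 3 < Fintype.card F) {σ : F ≃+* F} (e : ∀ l s, f l = π F s →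
      f (MulAut.conjNormal x l) = π F (SpecialLinearGroup.map (σ : F →+* F) s))
    (hx : ∀ g, ⁅g, x⁆ ∈ center G → Commute x g) (t : Fˣ) :
    σ (t ^ 2 + ((t : F) ^ 2)⁻¹) = t ^ 2 + ((t : F) ^ 2)⁻¹ := by
  have zl : ∀ l : L, l ∈ center L → (l : G) ∈ center G := fun l m => hc (mem_C.2 fun y hy =>
    congrArg Subtype.val (mem_center_iff.1 m ⟨y, hy⟩))
  have cu : ∀ a b : L, f a ∈ UU F → f b ∈ UU F → ⁅(a : G), (b : G)⁆ ∈ center G := by
    rintro a b ⟨x, ex⟩ ⟨y, ey⟩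
    refine zl ⁅a, b⁆ (k.com.1 ?_)
    show _ = _
    rw [ex, ey, ← map_mul, ← map_mul, up_mul, up_mul, add_comm]
  obtain ⟨v, ev⟩ := k.sur (π F (up 1))
  obtain ⟨U, hU⟩ : ∃ U : Subgroup G, U = ((UU F).comap f).map L.subtype := ⟨_, rfl⟩
  have mU : ∀ l : L, f l ∈ UU F → (l : G) ∈ U := fun l m => hU ▸ mem_map_of_mem _ m
  have n : N(U) ≠ ⊤ := fun m => by
    have : U ≤ center G := h.rad ⟨le_top, m.ge⟩ (solv_of_der (Abel.solv (le_trans (commutator_le.2 (by
      rw [hU]; rintro _ ⟨a, ha, rfl⟩ _ ⟨b, hb, rfl⟩; exact cu a b ha hb)) (center_le_centralizer _))))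
    have := (k.ker v).2 (mem_center_iff.2 fun y => Subtype.ext (mem_center_iff.1 (this (mU v ⟨1, ev⟩)) y))
    rw [ev, ← map_one (π F), ← up_zero] at this
    exact one_ne_zero (up_inj this)
  have cj1 : ∀ (t : Fˣ) (d l : L) (a : F), f d = π F (dg t) → f l = π F (up a) →
      f (d * l * d⁻¹) = π F (up (t ^ 2 * a)) := fun t d l a e1 e2 => by
    rw [map_mul, map_mul, map_inv, e1, e2, ← map_mul, dg_up, map_mul, mul_inv_cancel_right]
  have dN : ∀ (t : Fˣ) (d : L), f d = π F (dg t) → (d : G) ∈ N(U) := fun t d e1 => mem_N_of_finite (by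
    rw [hU]; rintro _ ⟨l, ⟨a, ea⟩, rfl⟩
    exact mem_map_of_mem L.subtype (x := d * l * d⁻¹) ⟨_, cj1 t d l a e1 ea⟩)
  have xN : x ∈ N(U) := mem_N_of_finite (by
    rw [hU]; rintro _ ⟨l, ⟨a, ea⟩, rfl⟩
    exact mem_map_of_mem L.subtype (x := MulAut.conjNormal x l) ⟨_, (e l _ ea).trans (by rw [map_up])⟩)
  obtain ⟨t0, t1⟩ : ∃ t0 : Fˣ, (t0 : F) ^ 2 ≠ 1 := by
    classical
    by_contra! m
    have : (Finset.univ : Finset F) ⊆ {0, 1, -1} := fun t _ => by
      by_cases t0 : t = 0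
      · simp [t0]
      · simpa [t0] using m (Units.mk0 t t0)
    have := (Finset.card_le_card this).trans Finset.card_le_three
    rw [Finset.card_univ] at this
    omega
  obtain ⟨d0, e0⟩ := k.sur (π F (dg t0))
  have nc : ¬ Commute (v : G) d0 := fun m => t1 (by
    have := cj1 t0 d0 v 1 e0 ev
    rw [← (cm.1 m).eq, mul_inv_cancel_right, ev] at this
    simpa using (up_inj this).symm)
  have xv : Commute x v := hx _ (by
    have := e v _ ev
    rw [map_up, map_one, ← ev] at this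
    have := zl (v * (MulAut.conjNormal x v)⁻¹) ((k.ker _).1 (by rw [map_mul, map_inv, this, mul_inv_cancel]))
    simpa [commutatorElement_def, mul_assoc] using this)
  obtain ⟨d, ed⟩ := k.sur (π F (dg t))
  have ed' : f d⁻¹ = π F (dg t⁻¹) := by
    rw [map_inv, ed, ← map_inv, dg_inv]
  have e1 := cj1 t d v 1 ed ev
  have e2 := cj1 t⁻¹ d⁻¹ v 1 ed' ev
  have z1 := cu v _ ⟨1, ev⟩ ⟨_, e1⟩
  have z2 := cu v _ ⟨1, ev⟩ ⟨_, e2⟩
  have e3 : f (d * v * d⁻¹ * (d⁻¹ * v * d⁻¹⁻¹)) = π F (up (t ^ 2 + ((t : F) ^ 2)⁻¹)) := by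
    rw [map_mul, e1, e2, ← map_mul, up_mul]; simp
  have c : Commute (v : G) (d * v * d⁻¹ * (d⁻¹ * v * d⁻¹⁻¹) : L) := by
    refine commutatorElement_eq_one_iff_commute.1 ?_
    push_cast at z1 z2 ⊢
    generalize (v : G) = v at z1 z2 ⊢
    generalize (d : G) = d at z1 z2 ⊢
    calc _ = d⁻¹ * (d * ⁅v, d * v * d⁻¹⁆) * (d * v * d⁻¹ * ⁅v, d⁻¹ * v * d⁻¹⁻¹⁆) * (d * v * d⁻¹)⁻¹ := by
          simp only [commutatorElement_def, _root_.mul_inv_rev, inv_inv, mul_assoc, inv_mul_cancel_left,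
            mul_inv_cancel_left]
      _ = 1 := by
          rw [← (zc z2 _).eq, ← (zc z1 _).eq]
          simp only [commutatorElement_def, _root_.mul_inv_rev, inv_inv, mul_assoc, inv_mul_cancel_left, mul_inv_cancel_left,
            mul_inv_cancel, inv_mul_cancel, one_mul, mul_one]
  have := h.st _ n v (le_N (mU v ⟨1, ev⟩)) d0 (dN t0 d0 e0) x xN _ (le_N (mU _ ⟨_, e3⟩)) nc xv.symm c
  have e4 := e _ _ e3
  rw [show MulAut.conjNormal x _ = d * v * d⁻¹ * (d⁻¹ * v * d⁻¹⁻¹) from Subtype.ext (by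
    rw [MulAut.conjNormal_apply, this.eq, mul_inv_cancel_right]), e3, map_up] at e4
  exact (up_inj e4).symm

end PSL
end H5.CA
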