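import Cfsg.Agent.H5.CA3
import Cfsg.Agent.S0088
import Cfsg.Agent.H6.J1Ord
import Cfsg.Agent.H21.SchurCover
import Cfsg.Agent.H24.Rank1

/-! Nonsolvable minimal non-CA-groups are groups `PSL(2,q)` (`Ctx.main`). -/

set_option autoImplicit false
set_option linter.unusedSectionVars false
set_option linter.unusedVariables false

open Subgroup Cfsg H18 H18.GT H21 Matrix
open scoped commutatorElement MatrixGroups

namespace H5.CA

variable {G : Type*} [Group G] [Finite G] {A B D H K L M P S T V : Subgroup G} {a b c e g s t u v w x y z : G} {r : ℕ}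

/-- an element of prime order modulo the centre with nonabelian centralizer -/
structure Bad (x : G) (r : ℕ) : Prop where
  pr : r.Prime
  nz : x ∉ center G
  pw : x ^ r ∈ center G
  na : ¬ Abel C1(x)

theorem map_part {X : Type*} [Group X] [Finite X] (f : G →* X) {π : Set ℕ} (h : PiElt π (f y)) :
    f (piPart π y) = f y := by
  have := piPart_eq (π := π) (a := f (piPart π y)) (b := f (piPart πᶜ y))
    (by rw [← map_mul, ← map_mul, piPart_comm_piPart]) (piElt_piPart.of_dvd (orderOf_map_dvd f _))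
    (piElt_piPart.of_dvd (orderOf_map_dvd f _))
  rw [← this, ← map_mul, piPart_mul_compl, piPart_eq_self h]

theorem Bad.part (b : Bad x r) : ∃ y ∈ zpowers x, PiElt {r} y ∧ Bad y r := by
  have k := cov_mk (G := G)
  have e := map_part _ (piElt_of_pow_eq_one b.pr ((map_pow _ x r).symm.trans ((k.ker _).2 b.pw)))
  exact ⟨_, piPart_mem_zpowers, piElt_piPart, b.pr, fun m => b.nz ((k.ker _).1 (e ▸ (k.ker _).2 m)),
    (k.ker _).1 (by rw [map_pow, e, ← map_pow]; exact (k.ker _).2 b.pw), fun m => b.na (m.mono C1_le_piPart)⟩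

theorem exists_bad (n : ¬ CAs (⊤ : Subgroup G)) : ∃ (x : G) (r : ℕ), PiElt {r} x ∧ Bad x r := by
  have k := cov_mk (G := G)
  simp only [CAs, not_forall] at n
  obtain ⟨x, -, y, -, a, -, b, -, n1, c1, c2, n2⟩ := n
  obtain ⟨_, ⟨j, rfl⟩, p⟩ := exists_prime_pow_elt fun e => n1 (zc ((k.ker x).1 e) y)
  simp only [← map_zpow] at p
  obtain ⟨w, -, h⟩ := Bad.part (x := x ^ j) ⟨p, fun e => p.ne_one (orderOf_eq_one_iff.2 ((k.ker _).2 e)),
    (k.ker _).1 (by rw [map_pow, pow_orderOf_eq_one]), fun e => n2 (comm_of_cent e (mem_C1.2 (c1.zpow_left j).symm)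
      (mem_C1.2 (c2.zpow_left j).symm))⟩
  exact ⟨w, _, h⟩

theorem Bad.sup [L.Normal] (b : Bad x r) (h : x ∈ L ⊔ center G) : ∃ y ∈ L, PiElt {r} y ∧ Bad y r := by
  obtain ⟨l, hl, z, hz, rfl⟩ := (mem_sup_of_norm norm_of_normal).1 h
  obtain ⟨y, hy, e⟩ := Bad.part (x := l) ⟨b.pr, fun m => b.nz (mul_mem m hz), by
    have := b.pw
    rw [(zc hz l).symm.mul_pow] at this
    exact ((center G).mul_mem_cancel_right (pow_mem hz r)).1 this, fun m => b.na (m.mono fun g hg => mem_C1.2 (by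
      have : Commute g (l * z) := mem_C1.1 hg
      simpa using (this.mul_right (zc hz g).symm.inv_right).eq))⟩
  exact ⟨y, zpowers_le.2 hl hy, e⟩

theorem card_ker_dvd {F : Type*} [Field F] [Fintype F] (h4 : Fintype.card F ≠ 4) (h9 : Fintype.card F ≠ 9)
    (hp : _root_.commutator G = ⊤) (f : G →* PSL(2, F)) (hf : Function.Surjective f) (hc : f.ker ≤ center G) :
    Nat.card f.ker ∣ Nat.gcd 2 (Fintype.card F - 1) := by
  obtain ⟨η, -, h⟩ := H21.exists_lift_commutator (H24.schur_SL2 (F := F) (by simpa using h4) (by simpa using h9))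
    (H10.π F) f hf hc
  have := (card_dvd_of_surjective η (MonoidHom.range_eq_top.1 ((h H10.π_surjective).trans hp))).trans
    (card_subgroup_dvd_card _)
  rw [← f.ker.card_mul_index, index_ker, MonoidHom.range_eq_top.2 hf, card_top, ← H10.card_center_mul_card_PSL,
    H10.card_center_SL2] at this
  exact Nat.dvd_of_mul_dvd_mul_right Nat.card_pos this

namespace Ctx
variable (h : Ctx G)
include h

theorem zA' (ns : ¬ Solv H) (hS : Hall {2} S H) (ab : Abel S) (ht : t ∈ S) (hn : H ⊓ N(S) ≤ C1(t)) : t ∈ C(H) := by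
  obtain ⟨S, rfl⟩ := hS.exists_sylow Nat.prime_two
  obtain ⟨t, ht, rfl⟩ := ht
  have := (h.sub ns).zA (hall_sylow_top Nat.prime_two S) (cent_iff.2 fun a ha b hb => Subtype.ext
    (comm_of_cent ab (mem_map_of_mem _ ha) (mem_map_of_mem _ hb))) ht fun y hy => mem_C1.2 (Subtype.ext
      (mem_C1.1 (hn ((map_normalizer_sylow (S : Subgroup H)).le (mem_map_of_mem _ hy)))))
  exact mem_C.2 fun y hy => congrArg Subtype.val (mem_center_iff.1 this ⟨y, hy⟩)

theorem mx (b : Bad x r) (hH : H ≠ ⊤) (l : C1(x) ≤ H) : H ≤ C1(x) := fun y hy => by_contra fun n =>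
  b.na (cent_iff.2 fun a ha c hc => h.st H hH x (l C1_self) y hy a (l ha) c (l hc) (fun e => n (mem_C1.2 e.symm))
    (mem_C1.1 ha).symm (mem_C1.1 hc).symm)

theorem dm (b : Bad x r) (g : G) (e : ⁅g, x⁆ ∈ center G) : Commute x g := by
  obtain ⟨f, k⟩ : ∃ f : G →* G ⧸ center G, Cov f := ⟨_, cov_mk⟩
  refine (mem_C1.1 (h.mx b (H := C1(f x).comap f) (k.ne fun m => b.nz ?_)
    (fun y hy => mem_C1.2 (Commute.map (mem_C1.1 hy) f)) (mem_C1.2 (k.com.2 e)))).symm
  refine h.rad (V := (center _).comap f) nml_top (solv_of_der (Abel.solv (le_trans (commutator_le.2 fun a ha b _ =>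
    k.com.1 (zc ha _)) (center_le_centralizer _)))) (mem_center_iff.2 fun y => mem_C1.1 (m.ge (mem_top y)))

theorem ab2 (b : Bad x 2) (hS : Hall {2} S ⊤) (hx : x ∈ S) : Abel S := by_contra fun na => by
  have k := cov_mk (G := G)
  obtain ⟨c, -, -, -, c1, c2, c3, -⟩ := h.two hS na
  have cx := (h.dm b c (c1 x hx)).symm
  refine b.nz (h.zS hS na hx (mem_C.2 fun s hs => ?_))
  by_cases n : Commute c s
  · exact c3 s hs x hx n cx
  refine (h.dm b s (k.com.1 (comm3 ?_ ?_ ?_))).symm <;> simp only [← map_mul, k.ker]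
  exacts [c2 s hs n, sq x ▸ b.pw, c2 _ (mul_mem hs hx) fun e => n (by simpa using e.mul_right cx.inv_right)]

theorem inL {X : Type*} [Group X] [Finite X] [IsSimpleGroup X] (ns : ¬ Solv (⊤ : Subgroup X)) [L.Normal]
    (hc : C(L) ≤ center G) {f : L →* X} (k : Cov f) (b : Bad x r) (p : PiElt {r} x) (hx : x ∈ L)
    (d : ∀ a ∈ L, ∀ b ∈ L, Commute x a → Commute x b → Commute (mfun f a) (mfun f b)) : False := by
  have zl : mker f ≤ center G := fun l m => hc (mem_C.2 fun y hy => congrArg Subtype.val (mem_center_iff.1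
    ((k.ker ⟨l, mker_le m⟩).1 (mfun_of_mem (f := f) (mker_le m) ▸ (mem_mker.1 m).2)) ⟨y, hy⟩))
  have nil : Nil (C1(x) ⊓ L) := nil_of_mim_center (f := f) inf_le_right
    (inf_le_right.trans (zl.trans (center_le_centralizer _))) (Abel.nil ((comm_le_mker_iff inf_le_right inf_le_right).1
      (commutator_le.2 fun a ha b hb => mem_mker.2 ⟨der_le (commutator_mem_commutator ha.2 hb.2), by
        rw [mfun_comm ha.2 hb.2, commutatorElement_eq_one_iff_commute]
        exact d a ha.2 b hb.2 (mem_C1.1 ha.1).symm (mem_C1.1 hb.1).symm⟩)))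
  obtain ⟨W, eW⟩ : ∃ W, W = O[{r}](C1(x) ⊓ L) := ⟨_, rfl⟩
  have hW : Hall {r} W (C1(x) ⊓ L) := eW ▸ nil.pcore_hall
  have xW : x ∈ W := eW ▸ nil.le_pcore (zpowers_le.2 ⟨C1_self, hx⟩) p.zpowers (mem_zpowers x)
  have nW : N(W) ≤ C1(x) := h.mx b (fun e => b.nz (h.rad ⟨le_top, e.ge⟩ hW.pi.solv xW))
    (eW ▸ norm_pcore (norm_inf le_N norm_of_normal))
  have WL := hW.le.trans inf_le_right
  have h1 := hW.of_norm_le b.pr WL (le_inf (inf_le_right.trans nW) inf_le_left)
  have tp : mim f L = ⊤ := eq_top_iff.2 fun y _ => by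
    obtain ⟨l, rfl⟩ := k.sur y
    exact mfun_coe (f := f) l ▸ mfun_mem_mim l.2
  have h2 := h1.mim (f := f) le_rfl
  rw [tp] at h2
  refine H6.Ree.burnside_simple b.pr h2 (fun e => b.nz (zl ((mim_eq_bot_iff WL).1 e xW))) (fun e => ns (e ▸ h2.pi.solv))
    fun n hn => ?_
  obtain ⟨n, rfl⟩ := k.sur n
  have m : zpowers (n : G) ≤ N((W ⊔ mker f : Subgroup G)) := norm_of_mim_norm (zpowers_le.2 n.2) (sup_le WL mker_le)
    le_sup_right (by rw [mim_zpowers n.2, mim_sup_mker WL, mfun_coe]; exact zpowers_le.2 hn)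
  have m2 : (n : G) ∈ N(W) := by
    have := norm_pcore (π := {r}) m (mem_zpowers _)
    rwa [(h1.of_le le_sup_left (sup_le WL mker_le)).eq_pcore (sup_le le_N (zl.trans
      ((center_le_centralizer _).trans C_le_N)))] at this
  refine mem_C.2 fun w hw => ?_
  obtain ⟨w, h3, -, rfl⟩ := mem_mim.1 hw
  exact mfun_coe (f := f) n ▸ d w (WL h3) n n.2 (mem_C1.1 (hW.le h3).1).symm (mem_C1.1 (nW m2)).symm

theorem two_mem (hL : L ⊴ ⊤) (ns : ¬ Solv L) (b : Bad x 2) (p : PiElt {2} x) : x ∈ L ⊔ center G := by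
  obtain ⟨T, hT, l⟩ := exists_sylow_le Nat.prime_two p.zpowers (le_sup_right : zpowers x ≤ L ⊔ zpowers x)
  have xT := l (mem_zpowers x)
  obtain ⟨S, hS, m⟩ := exists_sylow_le Nat.prime_two hT.pi le_top
  have ab := (h.ab2 b hS (m xT)).mono m
  have h1 := hT.of_le (le_inf hT.le le_N) inf_le_left
  obtain ⟨K, hK⟩ := h1.exists_compl inf_le_right
  obtain ⟨y, hy, c, hc, e⟩ := (H1.cop_of_pi' (hK.le.trans inf_le_right) hK.pi hT.pi (Or.inr hT.pi.solv)).exists_mul xT
  have := (der_sup_le (le_top.trans hL.2)) (comm_le_der hT.le (hK.le.trans inf_le_left) hy)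
  rw [abel_zpowers.der, sup_bot_eq] at this
  rw [e]
  refine mul_mem_sup' this (h.cent hL ns (C_anti le_sup_left (h.zA' (fun e => ns (e.of_le le_sup_left)) hT ab hc.1 ?_)))
  rw [← h1.sup_compl hK]
  exact sup_le (le_C1_iff.2 (ab hc.1)) (le_C1_iff.2 hc.2)

theorem odd_mem {F : Type*} [Field F] [Fintype F] [L.Normal] (hc : C(L) ≤ center G) (hp : ⁅L, L⁆ = L)
    {f : L →* PSL(2, F)} (k : Cov f) (h3 : 3 < Fintype.card F) (b : Bad x r) (r2 : r ≠ 2) : x ∈ L ⊔ center G := by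
  obtain ⟨θ, e⟩ := k.aut (MulAut.conjNormal x)
  have e2 : ∀ (n : ℕ) (l : L), (θ ^ n) (f l) = f (MulAut.conjNormal (x ^ n) l) := fun n => by
    induction n with
    | zero => simp
    | succ n ih => intro l; rw [pow_succ', pow_succ', MulAut.mul_apply, ih, e, map_mul, MulAut.mul_apply]
  have e3 : θ ^ r = 1 := MulEquiv.ext fun y => by
    obtain ⟨l, rfl⟩ := k.sur y
    rw [e2, MulAut.one_apply]
    exact congrArg f (Subtype.ext (by rw [MulAut.conjNormal_apply, (zc b.pw _).eq, mul_inv_cancel_right]))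
  obtain ⟨y, m⟩ | ⟨δ, σ, s1, s2, m⟩ := aut_form b.pr r2 e3
  · obtain ⟨l, rfl⟩ := k.sur y
    have : ⁅zpowers ((l : G)⁻¹ * x), L⁆ ≤ C(L) := le_trans (H4.commutator_zpowers_le (N := center G) (fun a ha => by
      have := e ⟨a, ha⟩
      rw [← m, MulAut.conj_apply] at this
      have := (k.ker (l⁻¹ * MulAut.conjNormal x ⟨a, ha⟩ * l * (⟨a, ha⟩ : L)⁻¹)).1 (by
        simp only [map_mul, map_inv, ← this]; group)
      refine hc (mem_C.2 fun y hy => ?_)
      simpa [commutatorElement_def, mul_assoc] using congrArg Subtype.val (mem_center_iff.1 this ⟨y, hy⟩))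
      (norm_of_normal (mem_top _))) (center_le_centralizer _)
    have := three_subgroup (comm_eq_bot_iff.2 (comm_comm.le.trans this)) (comm_eq_bot_iff.2 this)
    rw [hp] at this
    simpa using mul_mem_sup' l.2 (hc (cent_symm (comm_eq_bot_iff.1 this) (mem_zpowers _)))
  · refine (s1 (sig (b.pr.odd_of_ne_two r2) s2 (no_field h hc (k.comp δ.symm) h3 (fun l s q => ?_) (h.dm b)))).elim
    rw [← m, ← show f l = δ (H10.π F s) from (MulEquiv.symm_apply_eq δ).1 q, e]; rfl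

theorem main (n : ¬ CAs (⊤ : Subgroup G)) :
    ∃ (F : Type) (_ : Field F) (_ : Fintype F), 3 < Fintype.card F ∧ Nonempty (G ≃* PSL(2, F)) := by
  obtain ⟨L, -, ⟨hL, ns⟩, mn⟩ := exists_minimal_sub (fun W : Subgroup G => W ⊴ ⊤ ∧ ¬ Solv W) ⟨Nml.rfl, h.ns⟩
  have hp : ⁅L, L⁆ = L := mn _ ⟨hL.der, fun e => ns (solv_of_der e)⟩ der_le
  have := hL.normal
  have hc := h.cent hL ns
  obtain ⟨x, r, p, b⟩ := exists_bad n
  have key : L = ⊤ ∧ r = 2 := by
    obtain ⟨F, _, _, f, h3, k⟩ := (h.sub ns).psl (map_injective L.subtype_injective (by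
      rw [map_commutator, ← MonoidHom.range_eq_map, range_subtype, hp]))
    have := H27.simple_PSL (F := F) h3
    have ns' : ¬ Solv (⊤ : Subgroup PSL(2, F)) := fun e => H10.not_isSolvable_PSL2 h3 (solv_top_iff.1 e)
    by_cases r2 : r = 2
    · subst r2
      obtain ⟨y, hy, p, b⟩ := b.sup (h.two_mem hL ns b p)
      refine ⟨by_contra fun e => h.inL ns' hc k b p hy fun a ha c hc' e1 e2 => ?_, rfl⟩
      obtain ⟨w, hw, m⟩ := ex_nc fun e => b.nz (hc e)
      show _ = _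
      rw [← mfun_mul ha hc', ← mfun_mul hc' ha, (h.st L e y hy w hw a ha c hc' m e1 e2).eq]
    · obtain ⟨y, hy, p, b⟩ := b.sup (h.odd_mem hc hp k h3 b r2)
      have zl : ∀ l : L, f l = 1 → (l : G) ∈ center G := fun l m => hc (mem_C.2 fun y hy =>
        congrArg Subtype.val (mem_center_iff.1 ((k.ker l).1 m) ⟨y, hy⟩))
      refine (h.inL ns' hc k b p hy fun a ha c hc' e1 e2 => ?_).elim
      rw [mfun_of_mem ha, mfun_of_mem hc']
      refine psl_c (x := f ⟨y, hy⟩) (fun e => b.nz (zl _ e)) (Or.inr fun e => b.nz ?_) ((cm.1 e1).map f)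
        ((cm.1 e2).map f)
      obtain ⟨j, rfl⟩ := b.pr.odd_of_ne_two r2
      have := b.pw
      rw [pow_succ, pow_mul, sq] at this
      exact ((center G).mul_mem_cancel_left (pow_mem (zl (⟨y, hy⟩ * ⟨y, hy⟩) (by rwa [map_mul])) j)).1 this
  obtain ⟨rfl, rfl⟩ := key
  obtain ⟨F, _, _, f, h3, k⟩ := h.psl hp
  obtain ⟨S, hS, l⟩ := exists_sylow_le Nat.prime_two p.zpowers le_top
  have ab := h.ab2 b hS (l (mem_zpowers x))
  have ab' : ∀ U : Subgroup PSL(2, F), PiGrp {2} U → ∀ a c, f a ∈ U → f c ∈ U → Commute a c := fun U hU a c ha hc => by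
    obtain ⟨T, hT, m⟩ := k.syl Nat.prime_two hU
    obtain ⟨g, -, rfl⟩ := sylow_conj Nat.prime_two hS hT
    obtain ⟨s, hs, e1⟩ := m ha
    obtain ⟨t, ht, e2⟩ := m hc
    have z1 := (k.ker (s⁻¹ * a)).1 (by rw [map_mul, map_inv, e1, inv_mul_cancel])
    have z2 := (k.ker (t⁻¹ * c)).1 (by rw [map_mul, map_inv, e2, inv_mul_cancel])
    simpa using ((cC (abel_cj.2 ab hs) ht).mul_right (zc z2 s).symm).mul_left (zc z1 _)
  obtain ⟨o, h5⟩ | ⟨j, hj, e⟩ := H326.card_cases h3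
  swap
  · refine (b.na (cent_iff.2 fun a ha c hc => ab' C1(f x) ?_ a c (mem_C1.2 (Commute.map (mem_C1.1 ha) f))
      (mem_C1.2 (Commute.map (mem_C1.1 hc) f)))).elim
    refine (piNat_pow_self Nat.prime_two j).of_dvd ((H326.psl_ev hj e).1.cen (fun e => b.nz ((k.ker x).1 e)) ?_)
    obtain ⟨i, rfl⟩ : ∃ i, j = i + 1 := ⟨j - 1, by omega⟩
    rw [pow_succ', pow_mul, ← map_pow, (k.ker _).2 b.pw, one_pow]
  have q9 : Fintype.card F ≠ 9 := fun e => by
    obtain ⟨a, b, c, u, m⟩ := H326.psl_od o h5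
    obtain ⟨z, hz, -, cz, -, -, uz, -⟩ := m.dih
    obtain rfl : a = 4 := by
      have := m.add; have := m.ab; obtain ⟨i, hi⟩ := m.ev; omega
    obtain ⟨c, rfl⟩ := k.sur c
    obtain ⟨u, rfl⟩ := k.sur u
    have := m.uc
    rw [((ab' C1(z) (piGrp_of_card_pow Nat.prime_two (n := 3) cz) u c uz
      (C1_le_of_mem_zpowers hz C1_self)).map f).eq, mul_inv_cancel_right] at this
    have := orderOf_dvd_of_pow_eq_one (show f c ^ 2 = 1 by rw [sq]; nth_rewrite 1 [this]; group)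
    rw [m.oc] at this
    omega
  have kc : f.ker ≤ center G := fun x e => (k.ker x).1 e
  have d := (card_ker_dvd (by omega) q9 hp f k.sur kc).trans (Nat.gcd_dvd_left _ _)
  have := Cfsg.Agent.S0088.result S ab.comm (by simpa using hS.coprime)
  have i : f.ker = ⊥ := le_bot_iff.1 (this ▸ le_inf (le_inf (hS.nml_le nml_top
    ((piNat_self Nat.prime_two).of_dvd d)) (le_top.trans hp.ge)) kc)
  exact ⟨F, _, _, h3, ⟨MulEquiv.ofBijective f ⟨(MonoidHom.ker_eq_bot_iff f).1 i, k.sur⟩⟩⟩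

end Ctx
end H5.CA
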