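import Cfsg.Agent.H5.CA4

/-! Which groups `PSL(2,q)` are CA-groups (`ca_even`, `ca_five`, `not_ca`) or minimal non-CA (`star_psl`, `num`). -/

set_option autoImplicit false
set_option linter.unusedSectionVars false
set_option linter.unusedVariables false

open Subgroup Cfsg H18 H18.GT H21 Matrix
open scoped commutatorElement MatrixGroups

namespace H5.CA

variable {G : Type*} [Group G] {H L : Subgroup G} {a b c e g s t u v w x y z : G}

theorem CAs.of_inj {K : Type*} [Group K] (φ : K →* G) (i : Function.Injective φ) {M : Subgroup K}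
    (m : ∀ x ∈ M, φ x ∈ L) (h : CAs L) : CAs M := fun x hx y hy a ha b hb n e1 e2 =>
  (h _ (m x hx) _ (m y hy) _ (m a ha) _ (m b hb) (fun e => n (e.of_map i)) (e1.map φ) (e2.map φ)).of_map i

theorem CAs.of_top (h : CAs (⊤ : Subgroup H)) : CAs H := fun x hx y hy a ha b hb n e1 e2 =>
  congrArg Subtype.val (h ⟨x, hx⟩ trivial ⟨y, hy⟩ trivial ⟨a, ha⟩ trivial ⟨b, hb⟩ trivial
    (fun e => n (congrArg Subtype.val e)) (Subtype.ext e1) (Subtype.ext e2))

theorem CAs.of_equiv {K : Type*} [Group K] (e : H ≃* K) (h : CAs (⊤ : Subgroup K)) : CAs H :=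
  (CAs.of_inj (L := ⊤) (M := ⊤) e.toMonoidHom e.injective (fun _ _ => mem_top _) h).of_top

theorem CAs.equiv {K : Type*} [Group K] (e : H ≃* K) (h : CAs H) : CAs (⊤ : Subgroup K) :=
  h.of_inj (H.subtype.comp e.symm.toMonoidHom) (H.subtype_injective.comp e.symm.injective) fun x _ => (e.symm x).2

theorem ca_iff : (∀ x : G, x ∉ center G → IsMulCommutative (centralizer ({x} : Set G))) ↔ CAs (⊤ : Subgroup G) :=
  ⟨fun h x _ y _ a _ b _ n e1 e2 => comm_of_cent (abel_of_comm (h x fun m => n (mem_center_iff.1 m y).symm))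
    (mem_C1.2 e1.symm) (mem_C1.2 e2.symm), fun h x n => by
      obtain ⟨y, m⟩ : ∃ y, ¬ Commute x y := by
        by_contra! k
        exact n (mem_center_iff.2 fun b => (k b).symm)
      exact Abel.comm (cent_iff.2 fun a ha b hb => h x trivial y trivial a trivial b trivial m (mem_C1.1 ha).symm
        (mem_C1.1 hb).symm)⟩

theorem ca_iff' : (∀ x : H, x ∉ center H → IsMulCommutative (centralizer ({x} : Set H))) ↔ CAs H :=
  ca_iff.trans ⟨CAs.of_top, CAs.equiv (MulEquiv.refl H)⟩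

theorem ca_dih (k : ℕ) : CAs (⊤ : Subgroup (DihedralGroup k)) := by
  rintro (x | x) - (y | y) - (a | a) - (b | b) - <;>
    simp only [commute_iff_eq, DihedralGroup.r_mul_r, DihedralGroup.r_mul_sr, DihedralGroup.sr_mul_r,
      DihedralGroup.sr_mul_sr, DihedralGroup.r.injEq, DihedralGroup.sr.injEq] <;> intro n e1 e2 <;>
    first
      | exact add_comm _ _
      | exact absurd (add_comm _ _) n
      | exact absurd (by linear_combination e1) n
      | exact absurd (by linear_combination e2) n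
      | linear_combination e1
      | linear_combination e2
      | linear_combination -e1
      | linear_combination -e2
      | linear_combination e2 - e1

theorem not_ca_s4 : ¬ CAs (⊤ : Subgroup (Equiv.Perm (Fin 4))) := fun h => absurd
  (h (Equiv.swap 0 1 * Equiv.swap 2 3) trivial (Equiv.swap 0 2) trivial (Equiv.swap 0 1) trivial
    (Equiv.swap 0 2 * Equiv.swap 1 3) trivial (by rw [commute_iff_eq]; decide) (by rw [commute_iff_eq]; decide)
    (by rw [commute_iff_eq]; decide)) (by rw [commute_iff_eq]; decide)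

theorem nc [Finite G] {q m n : ℕ} (h : H326.OdL G q m n c u) (t1 : t ≠ 1) (t2 : t * t = 1) (e1 : Commute t a)
    (e2 : Commute t b) (k : ¬ Commute a b) : ∃ y, (y = a ∨ y = b ∨ y = a * b) ∧ y ^ m = 1 ∧ y * y ≠ 1 := by
  obtain ⟨z, hz, -, -, l, i2, -, out⟩ := h.dih
  have pw : ∀ y ∈ zpowers c, y ^ m = 1 := fun y hy => by
    rw [← h.oc, ← card_zpowers']; exact pow_card_eq_one_of_mem hy
  have key : ∀ a ∈ C1(z), ∀ b ∈ C1(z), ¬ Commute a b → ∃ y, (y = a ∨ y = b ∨ y = a * b) ∧ y ^ m = 1 ∧ y * y ≠ 1 :=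
    fun a ha b hb k => by
      have iv : ∀ a b : G, b * a * b⁻¹ = a⁻¹ → a * a = 1 → Commute b a := fun a b e l => by
        rwa [inv_eq_of_mul_eq_one_right l, mul_inv_eq_iff_eq_mul] at e
      by_cases a1 : a ∈ zpowers c <;> by_cases b1 : b ∈ zpowers c
      · exact (k (comm_of_cent abel_zpowers a1 b1)).elim
      · exact ⟨a, .inl rfl, pw a a1, fun e => k (iv _ _ ((out b hb b1).2 a a1) e).symm⟩
      · exact ⟨b, .inr (.inl rfl), pw b b1, fun e => k (iv _ _ ((out a ha a1).2 b b1) e)⟩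
      · refine ⟨_, .inr (.inr rfl), pw _ ?_, fun e => k (comm3 (out a ha a1).1 (out b hb b1).1 e)⟩
        have := H9.mul_inv_mem_of_relIndex_two i2 ha hb a1 b1
        rwa [inv_eq_of_mul_eq_one_right (out b hb b1).1] at this
  obtain ⟨g, rfl⟩ := l t (H9.orderOf_eq_two.2 ⟨t2, t1⟩)
  have m1 : ∀ a, Commute (g * z * g⁻¹) a → g⁻¹ * a * g ∈ C1(z) := fun a e =>
    mem_cj.1 (by rw [cj_C1]; exact mem_C1.2 e.symm)
  obtain ⟨y, h1, h2, h3⟩ := key _ (m1 a e1) _ (m1 b e2) fun e => k (by simpa [mul_assoc] using e.conj g)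
  refine ⟨g * y * g⁻¹, ?_, by rw [conj_pow, h2]; group, fun e => h3 (by simpa using e)⟩
  rcases h1 with rfl | rfl | rfl
  exacts [.inl (by group), .inr (.inl (by group)), .inr (.inr (by group))]

variable {F : Type*} [Field F] [Fintype F]

theorem ca_even {k : ℕ} (h : Fintype.card F = 2 ^ k) : CAs (⊤ : Subgroup PSL(2, F)) :=
  fun x _ y _ a _ b _ n => psl_c (by rintro rfl; exact n (Commute.one_left y)) (Or.inl (by
    have := FiniteField.cast_card_eq_zero F
    rw [h] at this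
    exact (pow_eq_zero_iff'.1 (by exact_mod_cast this : (2 : F) ^ k = 0)).1))

theorem ca_five (h : Fintype.card F = 5) : CAs (⊤ : Subgroup PSL(2, F)) := fun x _ y _ a _ b _ n e1 e2 => by
  have x1 : x ≠ 1 := by rintro rfl; exact n (Commute.one_left y)
  by_contra k
  obtain ⟨i, j, c, u, m⟩ := H326.psl_od (F := F) (h ▸ by decide) h.ge
  obtain rfl : i = 2 := by
    have := m.add; have := m.ab; obtain ⟨i, hi⟩ := m.ev; omega
  obtain ⟨w, -, h1, h2⟩ := nc m x1 (by_contra fun e => k (psl_c x1 (Or.inr e) e1 e2)) e1 e2 k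
  exact h2 (sq w ▸ h1)

theorem not_ca (o : Odd (Fintype.card F)) (h : 5 < Fintype.card F) : ¬ CAs (⊤ : Subgroup PSL(2, F)) := fun ca => by
  obtain ⟨i, j, c, u, m⟩ := H326.psl_od o h.le
  obtain ⟨z, hz, oz, -, -, -, uz, -⟩ := m.dih
  have := H27.simple_PSL (F := F) (by omega)
  obtain ⟨y, n⟩ := ex_nz (a := z) fun e => by
    obtain l | l := (inferInstance : (center PSL(2, F)).Normal).eq_bot_or_eq_top
    · rw [l, mem_bot] at e; simp [e] at oz
    · exact m.toOd.ncomm ⟨⟨fun a b => (mem_center_iff.1 (l.ge (mem_top b)) a)⟩⟩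
  have e := m.uc
  rw [(ca z trivial y trivial u trivial c trivial n (mem_C1.1 uz).symm
    (mem_C1.1 (C1_le_of_mem_zpowers hz C1_self)).symm).eq, mul_inv_cancel_right] at e
  have := Nat.le_of_dvd two_pos (orderOf_dvd_of_pow_eq_one (show c ^ 2 = 1 by rw [sq]; nth_rewrite 1 [e]; group))
  rw [m.oc] at this
  have := m.add; have := m.ab
  omega

theorem ord_s4 : ∀ g : Equiv.Perm (Fin 4), g ^ 4 = 1 ∨ g ^ 3 = 1 := by decide +kernel

theorem ord_a5 : ∀ g : Equiv.Perm (Fin 5), Equiv.Perm.sign g = 1 → g ^ 4 = 1 ∨ g ^ 3 = 1 ∨ g ^ 5 = 1 := by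
  decide +kernel

theorem tr {Y : Type*} [Group Y] (m : x ∈ H) (n : ¬ (orderOf x ∣ 4 ∨ orderOf x ∣ 3 ∨ orderOf x ∣ 5)) (φ : H ≃* Y) :
    ¬ ∀ g : Y, orderOf g ∣ 4 ∨ orderOf g ∣ 3 ∨ orderOf g ∣ 5 := fun l => n (by
  have := l (φ ⟨x, m⟩)
  rwa [φ.orderOf_eq, ← Subgroup.orderOf_coe] at this)

theorem star_psl (o : Odd (Fintype.card F)) (h5 : 5 ≤ Fintype.card F) (h : ¬ 16 ∣ Fintype.card F ^ 2 - 1)
    (hR : ∀ R : Subfield F, R ≠ ⊤ → Nat.card R = 3 ∨ Nat.card R = 5) (H : Subgroup PSL(2, F)) (hH : H ≠ ⊤) :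
    CAs H := fun x hx y hy a ha b hb n e1 e2 => by
  classical
  have x1 : x ≠ 1 := by rintro rfl; exact n (Commute.one_left y)
  by_contra k
  have x2 : x * x = 1 := by_contra fun e => k (psl_c x1 (Or.inr e) e1 e2)
  obtain ⟨i, j, c, u, m⟩ := H326.psl_od o h5
  obtain ⟨i, rfl⟩ := m.ev.two_dvd
  have oi : Odd i := Nat.not_even_iff_odd.1 fun ⟨l, e⟩ => h (by
    rw [← m.add]
    obtain f | f := m.ab
    · exact ⟨l * j, Nat.sub_eq_of_eq_add (by rw [f]; nlinarith)⟩
    · exact ⟨l * j, Nat.sub_eq_of_eq_add (by rw [f]; nlinarith)⟩)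
  have n8 : ¬ 8 ∣ Nat.card H := fun d => by
    have := d.trans (card_subgroup_dvd_card H)
    rw [m.card, show Fintype.card F * (2 * (2 * i)) * j = 4 * (Fintype.card F * i * j) by ring] at this
    have := Nat.dvd_of_mul_dvd_mul_left (k := 4) (m := 2) (by norm_num) this
    exact Nat.not_even_iff_odd.2 ((o.mul oi).mul m.toOd.odd) (even_iff_two_dvd.2 this)
  obtain ⟨w, h1, h2, h3⟩ := nc m x1 x2 e1 e2 k
  have wH : w ∈ H := by
    rcases h1 with rfl | rfl | rfl
    exacts [ha, hb, mul_mem ha hb]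
  have xw : Commute x (w ^ 2) := Commute.pow_right (by
    rcases h1 with rfl | rfl | rfl
    exacts [e1, e2, e1.mul_right e2]) 2
  have ow : Odd (orderOf (w ^ 2)) := oi.of_dvd_nat (orderOf_dvd_of_pow_eq_one (by rw [← pow_mul, h2]))
  have ox := H9.orderOf_eq_two.2 ⟨x2, x1⟩
  have og : ¬ (orderOf (x * w ^ 2) ∣ 4 ∨ orderOf (x * w ^ 2) ∣ 3 ∨ orderOf (x * w ^ 2) ∣ 5) := by
    rw [xw.orderOf_mul_eq_mul_orderOf_of_coprime (by rw [ox]; exact Nat.coprime_two_left.2 ow), ox]
    rintro (d | d | d)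
    · have := Nat.dvd_of_mul_dvd_mul_left (k := 2) (n := 2) two_pos d
      obtain f | f := (Nat.dvd_prime Nat.prime_two).1 this
      · exact h3 (sq w ▸ orderOf_eq_one_iff.1 f)
      · rw [f] at ow; exact absurd ow (by decide)
    · exact absurd (dvd_of_mul_right_dvd d) (by decide)
    · exact absurd (dvd_of_mul_right_dvd d) (by decide)
  have xm := mul_mem hx (pow_mem wH 2)
  obtain ⟨p, l⟩ | ⟨k', -, ⟨l, -⟩ | ⟨⟨l⟩⟩⟩ | ⟨⟨l⟩⟩ | ⟨⟨l⟩⟩ | ⟨⟨l⟩⟩ | ⟨R, r, l⟩ := H10.dickson_PSL H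
  · obtain ⟨g, -, rfl⟩ := H10.exists_smul_infty p
    have af : ∀ v ∈ H, ∃ s hs t, g⁻¹ * H10.ι F v * g = H10.aff s hs t := fun v hv => H10.exists_aff_of_smul_infty (by
      rw [mul_smul, mul_smul, l v hv, inv_smul_smul])
    have tc : ∀ u v : PSL(2, F), Commute (g⁻¹ * H10.ι F u * g) (g⁻¹ * H10.ι F v * g) ↔ Commute u v := fun u v =>
      ⟨fun e => Commute.of_map H10.ι_injective (by simpa [mul_assoc] using e.conj g),
        fun e => by simpa using (e.map (H10.ι F)).conj g⁻¹⟩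
    obtain ⟨s1, u1, t1, f1⟩ := af x hx
    obtain ⟨s2, u2, t2, f2⟩ := af a ha
    obtain ⟨s3, u3, t3, f3⟩ := af b hb
    have f4 : ¬ (s1 = 1 ∧ t1 = 0) := fun e => x1 (H10.ι_injective (by
      rw [H10.aff_eq_one_iff.2 e] at f1; simpa [mul_assoc, inv_mul_eq_one] using f1))
    rw [← tc] at e1 e2 k
    simp only [f1, f2, f3, commute_iff_eq, H10.aff_mul, H10.aff_inj] at e1 e2 k
    refine k ⟨mul_comm _ _, ?_⟩
    by_cases e : s1 = 1
    · subst e
      have := mul_left_cancel₀ (a := t1) (b := s2) (c := 1) (fun l => f4 ⟨rfl, l⟩) (by linear_combination -e1.2)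
      have := mul_left_cancel₀ (a := t1) (b := s3) (c := 1) (fun l => f4 ⟨rfl, l⟩) (by linear_combination -e2.2)
      simp [*, add_comm]
    · exact mul_left_cancel₀ (sub_ne_zero.2 e) (by linear_combination (s2 - 1) * e2.2 - (s3 - 1) * e1.2)
  · exact k (comm_of_cent (Cyc.abel l) ha hb)
  · exact k ((ca_dih k').of_equiv l x hx y hy a ha b hb n e1 e2)
  · refine tr xm og l fun g => ?_
    simp only [← Subgroup.orderOf_coe g, orderOf_dvd_iff_pow_eq_one]
    exact (ord_s4 g).imp_right .inl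
  · exact tr xm og l fun g => by simpa only [orderOf_dvd_iff_pow_eq_one] using (ord_s4 g).imp_right .inl
  · refine tr xm og l fun g => ?_
    simp only [← Subgroup.orderOf_coe g, orderOf_dvd_iff_pow_eq_one]
    exact ord_a5 g g.2
  have := Fintype.ofFinite R
  have cR := hR R fun e => hH (r e)
  rw [Nat.card_eq_fintype_card] at cR
  obtain ⟨⟨l⟩⟩ | ⟨⟨l⟩⟩ := l
  · refine tr xm og l fun g => ?_
    rw [← orderOf_injective _ H10.ι_injective g]
    obtain e | e := cR
    · have := Fact.mk Nat.prime_three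
      have := charP_of_card_eq_prime e
      have := H10.orderOf_PSL2_dvd 3 (H10.ι_mem g)
      rw [e] at this
      obtain f | f | f := this
      exacts [.inr (.inl f), .inl (f.trans (by decide)), .inl (f.trans (by decide))]
    · have := Fact.mk Nat.prime_five
      have := charP_of_card_eq_prime e
      have := H10.orderOf_PSL2_dvd 5 (H10.ι_mem g)
      rw [e] at this
      obtain f | f | f := this
      exacts [.inr (.inr f), .inr (.inl (f.trans (by decide))), .inl (f.trans (by decide))]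
  · refine n8 ?_
    rw [Nat.card_congr l.toEquiv, H10.card_PGL2]
    obtain e | e := cR <;> rw [e] <;> decide

theorem num (h3 : 3 < Fintype.card F) (n : ¬ CAs (⊤ : Subgroup PSL(2, F)))
    (h : ∀ H : Subgroup PSL(2, F), H ≠ ⊤ → CAs H) :
    ((Fintype.card F).Prime ∧ 5 < Fintype.card F ∧ ¬ 16 ∣ Fintype.card F ^ 2 - 1) ∨
      ∃ p : ℕ, p.Prime ∧ p ≠ 2 ∧ (Fintype.card F = 3 ^ p ∨ Fintype.card F = 5 ^ p) := by
  obtain ⟨o, h5⟩ | ⟨j, -, e⟩ := H326.card_cases h3
  swap
  · exact (n (ca_even e)).elim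
  have h6 : 5 < Fintype.card F := lt_of_le_of_ne h5 fun e => n (ca_five e.symm)
  have c2 : ringChar F ≠ 2 := fun e => Nat.not_even_iff_odd.2 o (Nat.even_iff.2 (FiniteField.even_card_of_char_two e))
  have h8 : Fintype.card F % 8 = 3 ∨ Fintype.card F % 8 = 5 := by
    by_contra! m
    obtain ⟨τ, e⟩ := FiniteField.isSquare_two_iff.2 m
    have h2 := Ring.two_ne_zero c2
    obtain ⟨a, c, l⟩ := H10.exists_root_of_odd h2 τ
    obtain ⟨H, ⟨φ⟩⟩ := H10.exists_S4_of_root h2 (by rw [e, sq]) l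
    refine not_ca_s4 ((h H ?_).equiv φ)
    rintro rfl
    have := H27.simple_PSL (F := F) (by omega)
    have := (topEquiv.symm.trans φ).symm.isSimpleGroup
    obtain l | l := (inferInstance : (alternatingGroup (Fin 4)).Normal).eq_bot_or_eq_top
    · exact absurd (l.le (show Equiv.swap 0 1 * Equiv.swap 2 3 ∈ alternatingGroup (Fin 4) from
        Equiv.Perm.mem_alternatingGroup.2 (by decide))) (by rw [mem_bot]; decide)
    · exact absurd (Equiv.Perm.mem_alternatingGroup.1 (l.ge (mem_top (Equiv.swap 0 1)))) (by decide)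
  obtain ⟨p, _, ⟨k, k0⟩, hp, e⟩ := FiniteField.card' F
  simp only [PNat.mk_coe] at e
  by_cases k1 : k = 1
  · refine .inl ⟨by rw [e, k1, pow_one]; exact hp, h6, fun d => ?_⟩
    obtain ⟨i, hi⟩ : ∃ i, Fintype.card F = 8 * i + 3 ∨ Fintype.card F = 8 * i + 5 := ⟨Fintype.card F / 8, by omega⟩
    obtain hi | hi := hi <;> rw [hi] at d
    · rw [show (8 * i + 3) ^ 2 - 1 = 16 * (4 * i ^ 2 + 3 * i) + 8 from Nat.sub_eq_of_eq_add (by ring)] at d; omega
    · rw [show (8 * i + 5) ^ 2 - 1 = 16 * (4 * i ^ 2 + 5 * i + 1) + 8 from Nat.sub_eq_of_eq_add (by ring)] at d; omega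
  obtain ⟨l, hl, i, rfl⟩ := Nat.exists_prime_and_dvd k1
  have i0 : i ≠ 0 := by rintro rfl; simp at k0
  have l2 : l ≠ 2 := by
    rintro rfl
    rw [e, mul_comm, pow_mul] at h8 o
    obtain ⟨j, hj⟩ := (Nat.odd_pow_iff two_ne_zero).1 o
    rw [hj, show (2 * j + 1) ^ 2 = 4 * (j * (j + 1)) + 1 by ring] at h8
    obtain ⟨m, hm⟩ := Nat.even_mul_succ_self j
    omega
  have := Fact.mk hp
  have := Fintype.ofFinite (GaloisField p i)
  have cK : Fintype.card (GaloisField p i) = p ^ i := by rw [← Nat.card_eq_fintype_card, GaloisField.card p i i0]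
  have e' : Fintype.card (GaloisField p i) ^ l = Fintype.card F := by rw [cK, e, ← pow_mul, mul_comm]
  obtain ⟨φ⟩ := H10.exists_ringHom_of_card (K := GaloisField p i) (L := F) (m := l) (by simpa using e')
  obtain ⟨ψ, inj, -⟩ := H10.exists_PSL_map φ
  have lt := H10.card_PSL2_lt (K := GaloisField p i) (F := F)
    (e' ▸ Nat.pow_le_pow_right Fintype.card_pos hl.two_le)
  have ca := (h ψ.range fun m => lt.ne (by
    rw [Nat.card_congr (ψ.ofInjective inj).toEquiv, m, card_top])).equiv (ψ.ofInjective inj).symm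
  have oK : Odd (Fintype.card (GaloisField p i)) := (Nat.odd_pow_iff hl.ne_zero).1 (e' ▸ o)
  have le : Fintype.card (GaloisField p i) ≤ 5 := not_lt.1 fun m => not_ca oK m ca
  have := Fintype.one_lt_card (α := GaloisField p i)
  obtain ⟨j, hj⟩ := oK
  refine .inr ⟨l, hl, l2, ?_⟩
  rw [← e']
  obtain m | m : Fintype.card (GaloisField p i) = 3 ∨ Fintype.card (GaloisField p i) = 5 := by omega
  exacts [.inl (by rw [m]), .inr (by rw [m])]

end H5.CA
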