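import Cfsg.Agent.H16.Jordan

/-! Jordan sets: `Fl` (Jordan complement), `MT` (multiple transitivity), Marggraf's theorems
`mt_three` and `mt_succ_card`, and the passage from quasiprimitive groups to a primitive
quotient action (`Fl.qp_setup`, `Fl.sat`, `Fl.qp_prim`). -/

set_option autoImplicit false

namespace H5

open MulAction Finset
open scoped Pointwise

section
variable (G : Type*) {Ω : Type*} [Group G] [MulAction G Ω] [Fintype Ω] [DecidableEq Ω]

/-- Jordan complement. -/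
def Fl (F : Finset Ω) : Prop :=
  2 ≤ Fᶜ.card ∧ ∀ x ∉ F, ∀ y ∉ F, ∃ g : G, (∀ z ∈ F, g • z = z) ∧ g • x = y

variable (Ω) in
/-- `t`-fold transitivity. -/
def MT (t : ℕ) : Prop :=
  ∀ (A : Finset Ω) (f : Ω → Ω), A.card = t → Set.InjOn f A → ∃ g : G, ∀ a ∈ A, g • a = f a

variable {G}

theorem Fl.smul {F : Finset Ω} (h : Fl G F) (g : G) : Fl G (g • F) := by
  refine ⟨?_, fun x hx y hy => ?_⟩
  · have := h.1
    rw [card_compl] at this ⊢
    rwa [card_smul_finset]
  · rw [← inv_smul_mem_iff] at hx hy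
    obtain ⟨k, k1, k2⟩ := h.2 _ hx _ hy
    refine ⟨g * k * g⁻¹, fun z hz => ?_, ?_⟩
    · rw [← inv_smul_mem_iff] at hz
      rw [mul_smul, mul_smul, k1 _ hz, smul_inv_smul]
    · rw [mul_smul, mul_smul, k2, smul_inv_smul]

theorem Fl.inter {F F' : Finset Ω} (h : Fl G F) (h' : Fl G F') {w : Ω} (w1 : w ∉ F)
    (w2 : w ∉ F') : Fl G (F ∩ F') := by
  refine ⟨h.1.trans (card_le_card (compl_subset_compl.2 inter_subset_left)), ?_⟩
  have key : ∀ x ∉ F ∩ F', ∃ g : G, (∀ z ∈ F ∩ F', g • z = z) ∧ g • x = w := by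
    intro x hx
    rw [mem_inter, not_and_or] at hx
    rcases hx with hx | hx
    · obtain ⟨g, g1, g2⟩ := h.2 x hx w w1
      exact ⟨g, fun z hz => g1 z (mem_inter.1 hz).1, g2⟩
    · obtain ⟨g, g1, g2⟩ := h'.2 x hx w w2
      exact ⟨g, fun z hz => g1 z (mem_inter.1 hz).2, g2⟩
  intro x hx y hy
  obtain ⟨a, a1, a2⟩ := key x hx
  obtain ⟨b, b1, b2⟩ := key y hy
  refine ⟨b⁻¹ * a, fun z hz => ?_, ?_⟩
  · rw [mul_smul, a1 z hz, inv_smul_eq_iff, b1 z hz]
  · rw [mul_smul, a2, inv_smul_eq_iff, b2]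

theorem Fl.two {F : Finset Ω} (h : Fl G F) : ∃ x y, x ≠ y ∧ x ∉ F ∧ y ∉ F := by
  obtain ⟨x, hx, y, hy, e⟩ := one_lt_card.1 (show 1 < Fᶜ.card from h.1)
  exact ⟨x, y, e, mem_compl.1 hx, mem_compl.1 hy⟩

theorem MT.set {t : ℕ} (h : MT G Ω t) {A B : Finset Ω} (hA : A.card = t) (hB : B.card = t) :
    ∃ g : G, g • A = B := by
  let e := equivOfCardEq (hA.trans hB.symm)
  obtain ⟨g, hg⟩ := h A (fun a => if ha : a ∈ A then (e ⟨a, ha⟩ : Ω) else a) hA (by
    intro a ha b hb k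
    have ha' : a ∈ A := ha
    have hb' : b ∈ A := hb
    simp only [ha', hb', dif_pos] at k
    exact congrArg Subtype.val (e.injective (Subtype.ext k)))
  refine ⟨g, eq_of_subset_of_card_le (fun x hx => ?_) (by rw [card_smul_finset, hA, hB])⟩
  obtain ⟨a, ha, rfl⟩ := mem_smul_finset.1 hx
  rw [hg a ha, dif_pos ha]
  exact (e ⟨a, ha⟩).2

theorem MT.succ {t : ℕ} (h : MT G Ω t) {Y : Finset Ω} (hY : Fl G Y) (c : Y.card = t) :
    MT G Ω (t + 1) := by
  intro A f hA hf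
  obtain ⟨a0, h0⟩ : A.Nonempty := card_pos.1 (by omega)
  obtain ⟨g1, e1⟩ := h.set (A := A.erase a0) (B := Y) (by rw [card_erase_of_mem h0]; omega) c
  have m1 : ∀ y, y ∈ Y ↔ g1⁻¹ • y ∈ A.erase a0 := fun y => by rw [inv_smul_mem_iff, e1]
  obtain ⟨g2, e2⟩ := h Y (fun y => f (g1⁻¹ • y)) c (by
    intro a ha b hb k
    have := hf (mem_of_mem_erase ((m1 a).1 ha)) (mem_of_mem_erase ((m1 b).1 hb)) k
    exact (smul_left_cancel_iff _).1 this)
  have hx : g1 • a0 ∉ Y := by rw [m1, inv_smul_smul]; exact notMem_erase _ _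
  have hy : g2⁻¹ • f a0 ∉ Y := by
    intro k
    have k1 := e2 _ k
    rw [smul_inv_smul] at k1
    have k2 := (m1 _).1 k
    exact ne_of_mem_erase k2 (hf (mem_of_mem_erase k2) h0 k1.symm)
  obtain ⟨k, k1, k2⟩ := hY.2 _ hx _ hy
  refine ⟨g2 * k * g1, fun a ha => ?_⟩
  by_cases e : a = a0
  · rw [e, mul_smul, mul_smul, k2, smul_inv_smul]
  · have : g1 • a ∈ Y := by rw [m1, inv_smul_smul]; exact mem_erase.2 ⟨e, ha⟩
    rw [mul_smul, mul_smul, k1 _ this, e2 _ this, inv_smul_smul]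

theorem MT.pair (h : MT G Ω 2) {x y u v : Ω} (e : x ≠ y) (e' : u ≠ v) :
    ∃ g : G, g • x = u ∧ g • y = v := by
  obtain ⟨g, hg⟩ := h {x, y} (fun a => if a = x then u else v) (card_pair e) (by
    intro a ha b hb k
    simp only [coe_insert, coe_singleton, Set.mem_insert_iff, Set.mem_singleton_iff] at ha hb
    rcases ha with rfl | rfl <;> rcases hb with rfl | rfl <;> simp_all [eq_comm])
  refine ⟨g, ?_, ?_⟩
  · simpa using hg x (by simp)
  · simpa [e.symm] using hg y (by simp)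

theorem MT.multiply {t : ℕ} (h : MT G Ω t) : IsMultiplyPretransitive G Ω t := by
  rw [isMultiplyPretransitive_iff]
  intro x y
  obtain ⟨g, hg⟩ := h (univ.map x) (Function.extend x y id) (by simp) (by
    intro a ha b hb k
    obtain ⟨i, -, rfl⟩ := mem_map.1 ha
    obtain ⟨j, -, rfl⟩ := mem_map.1 hb
    rw [x.injective.extend_apply, x.injective.extend_apply] at k
    rw [y.injective k])
  refine ⟨g, Function.Embedding.ext fun i => ?_⟩
  rw [Function.Embedding.smul_apply, hg _ (mem_map_of_mem _ (mem_univ i)),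
    x.injective.extend_apply]

theorem MT.of_two (h : IsMultiplyPretransitive G Ω 2) : MT G Ω 2 := by
  rw [is_two_pretransitive_iff] at h
  intro A f hA hf
  obtain ⟨x, y, e, rfl⟩ := card_eq_two.1 hA
  obtain ⟨g, g1, g2⟩ := h e (fun k => e (hf (by simp) (by simp) k))
  refine ⟨g, fun a ha => ?_⟩
  rcases mem_insert.1 ha with rfl | ha
  · exact g1
  · rw [mem_singleton.1 ha]; exact g2

variable (G Ω) in
/-- `τ`-transitive group whose smallest Jordan complements with at least `τ` points have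
`κ > τ` points. -/
structure JS (τ κ : ℕ) : Prop where
  two : MT G Ω 2
  mt : MT G Ω τ
  t2 : 2 ≤ τ
  lt : τ < κ
  ex : ∃ B : Finset Ω, Fl G B ∧ B.card = κ
  min : ∀ F : Finset Ω, Fl G F → τ ≤ F.card → κ ≤ F.card

variable (G) in
/-- Closed under blocks. -/
def Clo (τ κ : ℕ) (Z : Finset Ω) : Prop :=
  ∀ B : Finset Ω, Fl G B → B.card = κ → τ ≤ (B ∩ Z).card → B ⊆ Z

theorem exists_JS {τ : ℕ} (h2 : MT G Ω 2) (h : MT G Ω τ) (t2 : 2 ≤ τ) (hn : ¬ MT G Ω (τ + 1))
    {F : Finset Ω} (hF : Fl G F) (c : τ ≤ F.card) : ∃ κ, JS G Ω τ κ := by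
  classical
  obtain ⟨B, hB, m⟩ := exists_min_image (univ.filter fun X : Finset Ω => Fl G X ∧ τ ≤ X.card)
    card ⟨F, by simp [hF, c]⟩
  simp only [mem_filter, mem_univ, true_and] at hB m
  refine ⟨B.card, h2, h, t2, lt_of_le_of_ne hB.2 fun e => hn (h.succ hB.1 e.symm), ⟨B, hB.1, rfl⟩,
    fun X h1 h2 => m X ⟨h1, h2⟩⟩

namespace JS
variable {τ κ : ℕ} (h : JS G Ω τ κ)
include h

theorem exB {A : Finset Ω} (c : A.card = τ) :
    ∃ B : Finset Ω, Fl G B ∧ B.card = κ ∧ A ⊆ B ∧ ∃ w ∈ B, w ∉ A := by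
  obtain ⟨B, hB, cB⟩ := h.ex
  have := h.lt
  obtain ⟨Y, hY, cY⟩ := exists_subset_card_eq (s := B) (n := τ) (by omega)
  obtain ⟨g, hg⟩ := h.mt.set cY c
  refine ⟨g • B, hB.smul g, by rw [card_smul_finset, cB], hg ▸ smul_finset_subset_smul_finset hY,
    exists_mem_notMem_of_card_lt_card (by rw [card_smul_finset]; omega)⟩

theorem sub_of {B F : Finset Ω} (hB : Fl G B) (cB : B.card = κ) (hF : Fl G F)
    (c : τ ≤ (B ∩ F).card) {w : Ω} (w1 : w ∉ B) (w2 : w ∉ F) : B ⊆ F := by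
  have := h.min _ (hB.inter hF w1 w2) c
  exact inter_eq_left.1 (eq_of_subset_of_card_le inter_subset_left (by omega))

theorem bound : 2 * κ + 2 ≤ Fintype.card Ω + τ := by
  obtain ⟨B, hB, cB⟩ := h.ex
  have := h.lt
  have := h.t2
  obtain ⟨x, y, e, hx, hy⟩ := hB.two
  obtain ⟨z, hz⟩ : B.Nonempty := card_pos.1 (by omega)
  obtain ⟨g, g1, g2⟩ := h.two.pair e (show x ≠ z from fun k => hx (k ▸ hz))
  have x' : x ∉ g • B := by rw [← g1, smul_mem_smul_finset_iff]; exact hx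
  have z' : z ∉ g • B := by rw [← g2, smul_mem_smul_finset_iff]; exact hy
  have k1 : (B ∩ g • B).card < τ := by
    by_contra k
    exact z' (h.sub_of hB cB (hB.smul g) (not_lt.1 k) hx x' hz)
  have k2 : (B ∪ g • B).card < Fintype.card Ω :=
    card_lt_univ_of_notMem (by simp [hx, x'] : x ∉ B ∪ g • B)
  have k3 := card_union_add_card_inter B (g • B)
  rw [card_smul_finset] at k3
  omega

theorem uniq {B B' : Finset Ω} (hB : Fl G B) (cB : B.card = κ) (hB' : Fl G B') (cB' : B'.card = κ)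
    (c : τ ≤ (B ∩ B').card) : B = B' := by
  have k3 := card_union_add_card_inter B B'
  have := h.bound
  obtain ⟨w, -, hw⟩ := exists_mem_notMem_of_card_lt_card (s := B ∪ B') (t := univ)
    (by rw [card_univ]; omega)
  rw [mem_union, not_or] at hw
  exact eq_of_subset_of_card_le (h.sub_of hB cB hB' c hw.1 hw.2) (by omega)

theorem clo {F : Finset Ω} (hF : Fl G F) : Clo G τ κ F := by
  intro B hB cB c
  by_cases k : ∃ w, w ∉ B ∧ w ∉ F
  · obtain ⟨w, w1, w2⟩ := k
    exact h.sub_of hB cB hF c w1 w2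
  exfalso
  have k' : ∀ w, w ∉ B → w ∈ F := fun w hw => by_contra fun e => k ⟨w, hw, e⟩
  have k'' : ∀ w, w ∉ F → w ∈ B := fun w hw => by_contra fun e => k ⟨w, e, hw⟩
  have t2 := h.t2
  obtain ⟨z, -, -, hz, -⟩ := hB.two
  obtain ⟨x, y, e, hx, hy⟩ := hF.two
  obtain ⟨A, hA, cA⟩ := exists_subset_card_eq (s := B ∩ F) (n := τ - 2) (by omega)
  have AB : ∀ a ∈ A, a ∈ B := fun a ha => (mem_inter.1 (hA ha)).1
  have AF : ∀ a ∈ A, a ∈ F := fun a ha => (mem_inter.1 (hA ha)).2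
  have xA : x ∉ A := fun e => hx (AF _ e)
  have zA : z ∉ A := fun e => hz (AB _ e)
  have zx : z ≠ x := fun e => hz (e ▸ k'' x hx)
  obtain ⟨B', hB', cB', s, w, w1, w2⟩ := h.exB (A := insert z (insert x A)) (by
    rw [card_insert_of_notMem (by simp [zx, zA]), card_insert_of_notMem xA]; omega)
  simp only [mem_insert, not_or] at w2
  have nB : ∀ u ∈ B', u ∈ B → u ≠ x → u ∉ A → False := by
    intro u u1 u2 u3 u4
    have : B' = B := h.uniq hB' cB' hB cB (by
      refine le_trans ?_ (card_le_card (s := insert u (insert x A)) ?_)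
      · rw [card_insert_of_notMem (by simp [u3, u4]), card_insert_of_notMem xA]; omega
      · intro a ha
        simp only [mem_insert] at ha
        rcases ha with rfl | rfl | ha
        · exact mem_inter.2 ⟨u1, u2⟩
        · exact mem_inter.2 ⟨s (by simp), k'' _ hx⟩
        · exact mem_inter.2 ⟨s (by simp [ha]), AB _ ha⟩)
    exact hz (this ▸ s (by simp))
  have wF : w ∈ F := k' w fun e => nB w w1 e w2.2.1 w2.2.2
  have yB : y ∉ B' := fun u => nB y u (k'' y hy) e.symm fun v => hy (AF _ v)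
  refine hx (h.sub_of hB' cB' hF ?_ yB hy (s (by simp)))
  refine le_trans ?_ (card_le_card (s := insert w (insert z A)) ?_)
  · rw [card_insert_of_notMem (by simp [w2.1, w2.2.2]), card_insert_of_notMem zA]; omega
  · intro a ha
    simp only [mem_insert] at ha
    rcases ha with rfl | rfl | ha
    · exact mem_inter.2 ⟨w1, wF⟩
    · exact mem_inter.2 ⟨s (by simp), k' _ hz⟩
    · exact mem_inter.2 ⟨s (by simp [ha]), AF _ ha⟩

theorem clo' {Z : Finset Ω} (hZ : Fl G Z ∨ Z = univ) : Clo G τ κ Z := by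
  rcases hZ with hZ | rfl
  · exact h.clo hZ
  · exact fun B _ _ _ => subset_univ _

theorem third {X Y Z : Finset Ω} (hX : Clo G τ κ X) (hY : Clo G τ κ Y) (hZ : Clo G τ κ Z)
    (XZ : X ⊆ Z) (YZ : Y ⊆ Z) (c : τ ≤ (X ∩ Y).card + 2) {a b : Ω} (a1 : a ∈ X) (a2 : a ∉ Y)
    (b1 : b ∈ Y) (b2 : b ∉ X) : ∃ w ∈ Z, w ∉ X ∧ w ∉ Y := by
  have t2 := h.t2
  obtain ⟨A, hA, cA⟩ := exists_subset_card_eq (s := X ∩ Y) (n := τ - 2) (by omega)
  have AX : ∀ a ∈ A, a ∈ X := fun a ha => (mem_inter.1 (hA ha)).1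
  have AY : ∀ a ∈ A, a ∈ Y := fun a ha => (mem_inter.1 (hA ha)).2
  have aA : a ∉ A := fun e => a2 (AY _ e)
  have bA : b ∉ A := fun e => b2 (AX _ e)
  have ab : a ≠ b := fun e => a2 (e ▸ b1)
  have c0 : (insert a (insert b A)).card = τ := by
    rw [card_insert_of_notMem (by simp [ab, aA]), card_insert_of_notMem bA]; omega
  obtain ⟨B, hB, cB, s, w, w1, w2⟩ := h.exB c0
  simp only [mem_insert, not_or] at w2
  have key : ∀ (W : Finset Ω) (u : Ω), Clo G τ κ W → (∀ a ∈ A, a ∈ W) → u ∈ W → u ∈ B → u ∉ A →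
      w ≠ u → w ∈ W → B ⊆ W := by
    intro W u hW AW u1 u2 u3 u4 u5
    refine hW B hB cB (le_trans ?_ (card_le_card (s := insert w (insert u A)) ?_))
    · rw [card_insert_of_notMem (by simp [u4, w2.2.2]), card_insert_of_notMem u3]; omega
    · intro a ha
      simp only [mem_insert] at ha
      rcases ha with rfl | rfl | ha
      · exact mem_inter.2 ⟨w1, u5⟩
      · exact mem_inter.2 ⟨u2, u1⟩
      · exact mem_inter.2 ⟨s (by simp [ha]), AW _ ha⟩
  refine ⟨w, hZ B hB cB (c0 ▸ card_le_card (subset_inter s fun u hu => ?_)) w1,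
    fun k => b2 (key X a hX AX a1 (s (by simp)) aA w2.1 k (s (by simp))),
    fun k => a2 (key Y b hY AY b1 (s (by simp)) bA w2.2.1 k (s (by simp)))⟩
  simp only [mem_insert] at hu
  rcases hu with rfl | rfl | hu
  · exact XZ a1
  · exact YZ b1
  · exact XZ (AX _ hu)

theorem count {F Z : Finset Ω} (hF : Clo G τ κ F) (hZ : Clo G τ κ Z) (FZ : F ⊆ Z) {b : Ω}
    (b1 : b ∈ Z) (b2 : b ∉ F) (𝒜 : Finset (Finset Ω)) (hA : ∀ A ∈ 𝒜, A ⊆ F ∧ A.card = τ - 1)
    (hI : ∀ A ∈ 𝒜, ∀ A' ∈ 𝒜, τ ≤ (A ∩ A').card + 2) :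
    F.card + 1 + 𝒜.card * (κ - τ) ≤ Z.card := by
  have t2 := h.t2
  have c0 : ∀ A ∈ 𝒜, (insert b A).card = τ := fun A m => by
    rw [card_insert_of_notMem (fun e => b2 ((hA A m).1 e)), (hA A m).2]; omega
  have ex : ∀ A : Finset Ω, ∃ B : Finset Ω, A ∈ 𝒜 → Fl G B ∧ B.card = κ ∧ insert b A ⊆ B := by
    intro A
    by_cases m : A ∈ 𝒜
    · obtain ⟨B, h1, h2, h3, -⟩ := h.exB (c0 A m)
      exact ⟨B, fun _ => ⟨h1, h2, h3⟩⟩
    · exact ⟨∅, fun k => absurd k m⟩
  choose B hB using ex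
  have nF : ∀ A ∈ 𝒜, ¬ τ ≤ (B A ∩ F).card := fun A m k =>
    b2 (hF _ (hB A m).1 (hB A m).2.1 k ((hB A m).2.2 (mem_insert_self _ _)))
  have cE : ∀ A ∈ 𝒜, (B A \ insert b A).card = κ - τ := fun A m => by
    rw [card_sdiff_of_subset (hB A m).2.2, (hB A m).2.1, c0 A m]
  have dis : (𝒜 : Set (Finset Ω)).PairwiseDisjoint fun A => B A \ insert b A := by
    intro A m A' m' ne
    rw [Function.onFun, disjoint_left]
    intro w w1 w2
    simp only [mem_sdiff, mem_insert, not_or] at w1 w2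
    have e : B A = B A' := h.uniq (hB A m).1 (hB A m).2.1 (hB A' m').1 (hB A' m').2.1 (by
      refine le_trans ?_ (card_le_card (s := insert w (insert b (A ∩ A'))) ?_)
      · rw [card_insert_of_notMem (by simp [w1.2.1, w1.2.2]),
          card_insert_of_notMem (fun e => b2 ((hA A m).1 (mem_inter.1 e).1))]
        exact hI A m A' m'
      · intro a ha
        simp only [mem_insert, mem_inter] at ha
        rcases ha with rfl | rfl | ha
        · exact mem_inter.2 ⟨w1.1, w2.1⟩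
        · exact mem_inter.2 ⟨(hB A m).2.2 (by simp), (hB A' m').2.2 (by simp)⟩
        · exact mem_inter.2 ⟨(hB A m).2.2 (by simp [ha.1]), (hB A' m').2.2 (by simp [ha.2])⟩)
    obtain ⟨u, u1, u2⟩ : ∃ u ∈ A', u ∉ A := by
      by_contra k
      push Not at k
      exact ne (eq_of_subset_of_card_le k (by rw [(hA A m).2, (hA A' m').2])).symm
    refine nF A m (le_trans ?_ (card_le_card (s := insert u A) ?_))
    · rw [card_insert_of_notMem u2, (hA A m).2]; omega
    · intro a ha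
      rcases mem_insert.1 ha with rfl | ha
      · exact mem_inter.2 ⟨e ▸ (hB A' m').2.2 (by simp [u1]), (hA A' m').1 u1⟩
      · exact mem_inter.2 ⟨(hB A m).2.2 (by simp [ha]), (hA A m).1 ha⟩
  have sub : (𝒜.biUnion fun A => B A \ insert b A) ⊆ Z \ insert b F := by
    intro w hw
    obtain ⟨A, m, w1⟩ := mem_biUnion.1 hw
    simp only [mem_sdiff, mem_insert, not_or] at w1 ⊢
    refine ⟨hZ _ (hB A m).1 (hB A m).2.1 ((c0 A m) ▸ card_le_card (subset_inter (hB A m).2.2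
      (insert_subset b1 ((hA A m).1.trans FZ)))) w1.1, w1.2.1, fun k => nF A m ?_⟩
    refine le_trans ?_ (card_le_card (s := insert w A) ?_)
    · rw [card_insert_of_notMem w1.2.2, (hA A m).2]; omega
    · intro a ha
      rcases mem_insert.1 ha with rfl | ha
      · exact mem_inter.2 ⟨w1.1, k⟩
      · exact mem_inter.2 ⟨(hB A m).2.2 (by simp [ha]), (hA A m).1 ha⟩
  have k1 := card_le_card sub
  rw [card_biUnion dis, sum_congr rfl cE, sum_const, smul_eq_mul,
    card_sdiff_of_subset (insert_subset b1 FZ), card_insert_of_notMem b2] at k1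
  have k2 := card_le_card (insert_subset b1 FZ)
  rw [card_insert_of_notMem b2] at k2
  omega

theorem main (m : ℕ) : ∀ F : Finset Ω, F.card = m → Fl G F → τ ≤ m → ∀ Z : Finset Ω,
    (Fl G Z ∨ Z = univ) → F ⊆ Z → ∀ b ∈ Z, b ∉ F → 2 * m ≤ Z.card := by
  classical
  induction m using Nat.strong_induction_on with
  | _ m ih =>
  intro F cF hF tm Z hZ FZ b b1 b2
  have t2 := h.t2
  have lt := h.lt
  have km := h.min F hF (by omega)
  obtain ⟨Y, hY, cY⟩ := exists_subset_card_eq (s := F) (n := τ) (by omega)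
  rcases eq_or_lt_of_le km with e | e
  · have k := h.count (h.clo hF) (h.clo' hZ) FZ b1 b2 (powersetCard (τ - 1) Y)
      (fun A m => ⟨(mem_powersetCard.1 m).1.trans hY, (mem_powersetCard.1 m).2⟩)
      (fun A m A' m' => by
        have k1 := card_union_add_card_inter A A'
        have k2 := card_le_card (union_subset (mem_powersetCard.1 m).1 (mem_powersetCard.1 m').1)
        rw [(mem_powersetCard.1 m).2, (mem_powersetCard.1 m').2] at k1
        omega)
    rw [card_powersetCard, cY, Nat.choose_symm (by omega : 1 ≤ τ), Nat.choose_one_right] at k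
    obtain ⟨d, rfl⟩ : ∃ d, κ = τ + 1 + d := ⟨κ - τ - 1, by omega⟩
    rw [show τ + 1 + d - τ = d + 1 by omega] at k
    nlinarith
  obtain ⟨B, hB, cB, sB, -⟩ := h.exB cY
  have BF : B ⊆ F := h.clo hF B hB cB (cY ▸ card_le_card (subset_inter sB hY))
  obtain ⟨F1, hF1, mx⟩ := exists_max_image (univ.filter fun X : Finset Ω => Fl G X ∧ X ⊂ F)
    card ⟨B, by
      simp only [mem_filter, mem_univ, true_and]
      exact ⟨hB, Finset.ssubset_iff_subset_ne.2 ⟨BF, fun k => by rw [k] at cB; omega⟩⟩⟩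
  simp only [mem_filter, mem_univ, true_and] at hF1 mx
  have k1 : κ ≤ F1.card :=
    cB ▸ mx B ⟨hB, Finset.ssubset_iff_subset_ne.2 ⟨BF, fun k => by rw [k] at cB; omega⟩⟩
  obtain ⟨a, a1, a2⟩ := exists_of_ssubset hF1.2
  have l1 := card_lt_card hF1.2
  have I := ih F1.card (by omega) F1 rfl hF1.1 (by omega) F (Or.inl hF) hF1.2.1 a a1 a2
  have T : ∀ u, u ∉ F1 → ∃ W : Finset Ω, Fl G W ∧ W.card = m ∧ F1 ⊆ W ∧ u ∈ W ∧
      ∀ Z' : Finset Ω, (Fl G Z' ∨ Z' = univ) → F1 ⊆ Z' → ∀ v ∈ W, v ∈ Z' → v ∉ F1 → W ⊆ Z' := by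
    intro u hu
    obtain ⟨g, g1, g2⟩ := hF1.1.2 a a2 u hu
    have s1 : F1 ⊆ g • F := fun z hz => by
      rw [← g1 z hz, smul_mem_smul_finset_iff]; exact hF1.2.1 hz
    refine ⟨g • F, hF.smul g, by rw [card_smul_finset, cF], s1,
      by rw [← g2, smul_mem_smul_finset_iff]; exact a1, ?_⟩
    intro Z' hZ' s2 v v1 v2 v3
    rcases hZ' with hZ' | rfl
    swap
    · exact subset_univ _
    by_contra ns
    have mx' : ∀ X : Finset Ω, Fl G X → X ⊆ g • F → X ≠ g • F → F1 ⊆ X → v ∈ X → False := by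
      intro X x1 x2 x3 x4 x5
      have := mx (g⁻¹ • X) ⟨x1.smul _, Finset.ssubset_iff_subset_ne.2 ⟨fun z hz => ?_, fun k => x3 ?_⟩⟩
      · rw [card_smul_finset] at this
        have := card_lt_card (ssubset_iff_of_subset x4 |>.2 ⟨v, x5, v3⟩)
        omega
      · rw [← smul_mem_smul_finset_iff g]
        exact x2 (mem_inv_smul_finset_iff.1 hz)
      · rw [← k, smul_inv_smul]
    obtain ⟨p, p1, p2⟩ := not_subset.1 ns
    by_cases zs : Z' ⊆ g • F
    · exact mx' Z' hZ' zs (fun k => p2 (k ▸ p1)) s2 v2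
    obtain ⟨q, q1, q2⟩ := not_subset.1 zs
    obtain ⟨w, -, w1, w2⟩ := h.third (h.clo (hF.smul g)) (h.clo hZ') (h.clo' (Or.inr rfl))
      (subset_univ _) (subset_univ _)
      (by have := card_le_card (subset_inter s1 s2); omega) p1 p2 q1 q2
    exact mx' _ ((hF.smul g).inter hZ' w1 w2) inter_subset_left
      (fun k => p2 (mem_inter.1 (k ▸ p1)).2) (subset_inter s1 s2) (mem_inter.2 ⟨v1, v2⟩)
  have F1Z : F1 ⊆ Z := hF1.2.1.trans FZ
  have b3 : b ∉ F1 := fun k => b2 (hF1.2.1 k)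
  obtain ⟨W2, f2, c2, s2, m2, t2'⟩ := T b b3
  have W2Z := t2' Z hZ F1Z b m2 b1 b3
  have i2 : F ∩ W2 = F1 := by
    refine Subset.antisymm (fun v hv => by_contra fun k => b2 ?_) (subset_inter hF1.2.1 s2)
    exact t2' F (Or.inl hF) hF1.2.1 v (mem_inter.1 hv).2 (mem_inter.1 hv).1 k m2
  obtain ⟨w, w0, w1, w2⟩ := h.third (h.clo hF) (h.clo f2) (h.clo' hZ) FZ W2Z
    (by rw [i2]; omega) a1 (fun k => a2 (i2 ▸ mem_inter.2 ⟨a1, k⟩)) m2 b2
  have w3 : w ∉ F1 := fun k => w1 (hF1.2.1 k)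
  obtain ⟨W3, f3, c3, s3, m3, t3⟩ := T w w3
  have W3Z := t3 Z hZ F1Z w m3 w0 w3
  have i3 : (F ∪ W2) ∩ W3 ⊆ F1 := by
    intro v hv
    by_contra k
    rcases mem_union.1 (mem_inter.1 hv).1 with u | u
    · exact w1 (t3 F (Or.inl hF) hF1.2.1 v (mem_inter.1 hv).2 u k m3)
    · exact w2 (t3 W2 (Or.inl f2) s2 v (mem_inter.1 hv).2 u k m3)
  have e1 := card_union_add_card_inter F W2
  have e2 := card_union_add_card_inter (F ∪ W2) W3
  have e3 := card_le_card i3
  have e4 := card_le_card (union_subset (union_subset FZ W2Z) W3Z)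
  rw [i2] at e1
  omega

end JS

theorem mt_three (h2 : MT G Ω 2) {F : Finset Ω} (hF : Fl G F)
    (c : Fintype.card Ω ≤ 2 * F.card) : MT G Ω 3 := by
  by_contra hn
  have c1 := hF.1
  rw [card_compl] at c1
  obtain ⟨κ, h⟩ := exists_JS h2 h2 le_rfl hn hF (by omega)
  obtain ⟨b, -, -, b2, -⟩ := hF.two
  have k := h.count (h.clo hF) (h.clo' (Or.inr rfl)) (subset_univ _) (mem_univ b) b2
    (powersetCard 1 F) (fun A m => mem_powersetCard.1 m) (fun _ _ _ _ => by omega)
  rw [card_powersetCard, Nat.choose_one_right, card_univ] at k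
  have := h.lt
  have : F.card * 1 ≤ F.card * (κ - 2) := Nat.mul_le_mul_left _ (by omega)
  omega

theorem mt_succ_card (h2 : MT G Ω 2) {F : Finset Ω} (hF : Fl G F)
    (c : Fintype.card Ω < 2 * F.card) : MT G Ω (F.card + 1) := by
  have c1 := hF.1
  rw [card_compl] at c1
  have key : ∀ t, t + 1 ≤ F.card → MT G Ω (t + 2) := by
    intro t
    induction t with
    | zero => exact fun _ => h2
    | succ t ih =>
      intro ht
      by_contra hn
      obtain ⟨κ, h⟩ := exists_JS h2 (ih (by omega)) (by omega) hn hF (by omega)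
      obtain ⟨b, -, -, b2, -⟩ := hF.two
      have := h.main _ F rfl hF (by omega) univ (Or.inr rfl) (subset_univ _) b (mem_univ _) b2
      rw [card_univ] at this
      omega
  have := key (F.card - 1) (by omega)
  rwa [show F.card - 1 + 2 = F.card + 1 by omega] at this

theorem Fl.mt_two (hG : IsPreprimitive G Ω) {F : Finset Ω} (hF : Fl G F) (c : 0 < F.card) :
    MT G Ω 2 := by
  have c1 := hF.1
  rw [card_compl] at c1
  refine MT.of_two (hG.is_two_pretransitive (s := (F : Set Ω)) (n := F.card - 1)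
    (by rw [Set.ncard_coe_finset]; omega) (by rw [Nat.card_eq_fintype_card]; omega) ⟨?_⟩)
  rintro ⟨x, hx⟩ ⟨y, hy⟩
  obtain ⟨g, g1, g2⟩ := hF.2 x hx y hy
  exact ⟨⟨g, (mem_fixingSubgroup_iff G).2 g1⟩, Subtype.ext g2⟩

/-- Marggraf's theorem. -/
theorem Fl.alt (hG : IsPreprimitive G Ω) {F : Finset Ω} (hF : Fl G F)
    (c : Fintype.card Ω < 2 * F.card) (σ : Equiv.Perm Ω) (hσ : Equiv.Perm.sign σ = 1) :
    ∃ x : G, (MulAction.toPerm x : Equiv.Perm Ω) = σ := by
  have c1 := hF.1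
  rw [card_compl] at c1
  have h := mt_succ_card (hF.mt_two hG (by omega)) hF c
  have h' : MT (toPermHom G Ω).range Ω (F.card + 1) := fun A f h1 h2 => by
    obtain ⟨g, hg⟩ := h A f h1 h2
    exact ⟨⟨_, g, rfl⟩, hg⟩
  obtain ⟨x, y, e, hx, hy⟩ := hF.two
  obtain ⟨g, g1, g2⟩ := hF.2 x hx y hy
  have := (H16.alternating_le_of_small_support (k := F.card + 1) (by omega) (by omega) h'.multiply
    (toPermHom G Ω g) ⟨g, rfl⟩ (fun k => e (by
      rw [← g2]; exact (congrArg (fun p : Equiv.Perm Ω => p x) k).symm)) (by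
      have : (toPermHom G Ω g).support ⊆ Fᶜ := fun z hz =>
        mem_compl.2 fun k => Equiv.Perm.mem_support.1 hz (g1 z k)
      have := card_le_card this
      rw [card_compl] at this
      omega)).2
  exact this (Equiv.Perm.mem_alternatingGroup.2 hσ)

end

section
variable {G Ω : Type*} [Group G] [MulAction G Ω]

/-- A transitive action on at least two points has a primitive quotient action. -/
theorem exists_prim_quot [Finite G] [IsPretransitive G Ω] [Nontrivial Ω] :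
    ∃ (M : Subgroup G) (π : Ω → G ⧸ M), IsPreprimitive G (G ⧸ M) ∧ Nontrivial (G ⧸ M) ∧
      ∀ (g : G) (x : Ω), π (g • x) = g • π x := by
  obtain ⟨a, b, ab⟩ := exists_pair_ne Ω
  have hne : stabilizer G a ≠ ⊤ := fun k => by
    obtain ⟨g, hg⟩ := exists_smul_eq G a b
    have : g ∈ stabilizer G a := k ▸ Subgroup.mem_top g
    exact ab (by rw [← hg]; exact this.symm)
  obtain ⟨M, hM, le⟩ := (eq_top_or_exists_le_coatom (stabilizer G a)).resolve_left hne
  have nt : Nontrivial (G ⧸ M) := by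
    obtain ⟨g, hg⟩ : ∃ g, g ∉ M := by
      by_contra k
      push Not at k
      exact hM.1 ((Subgroup.eq_top_iff' _).2 k)
    exact ⟨⟨(1 : G), g, fun k => hg (by simpa using QuotientGroup.eq.1 k)⟩⟩
  choose r hr using fun x : Ω => exists_smul_eq G a x
  refine ⟨M, fun x => (r x : G ⧸ M), ?_, nt, fun g x => ?_⟩
  · rw [← isCoatom_stabilizer_iff_preprimitive G ((1 : G) : G ⧸ M), stabilizer_quotient]
    exact hM
  · change _ = ((g * r x : G) : G ⧸ M)
    refine QuotientGroup.eq.2 (le ?_)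
    rw [mem_stabilizer_iff, mul_smul, mul_smul, hr, inv_smul_eq_iff, hr]

variable {S : Type*} [MulAction G S] {π : Ω → S}

theorem qp_faithful (hqp : ∀ N : Subgroup G, N.Normal → N ≠ ⊥ → IsPretransitive N Ω)
    [Nontrivial S] [IsPretransitive G S] [Nonempty Ω] (hπ : ∀ (g : G) (x : Ω), π (g • x) = g • π x)
    {g : G} (hg : ∀ s : S, g • s = s) : g = 1 := by
  by_contra ne
  have := hqp (toPermHom G S).ker inferInstance fun k =>
    ne (by rw [← Subgroup.mem_bot, ← k]; exact Equiv.ext hg)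
  obtain ⟨x⟩ := ‹Nonempty Ω›
  obtain ⟨s, hs⟩ := exists_ne (π x)
  obtain ⟨k, hk⟩ := exists_smul_eq G (π x) s
  obtain ⟨⟨n, hn⟩, e⟩ := exists_smul_eq (toPermHom G S).ker x (k • x)
  have e' : n • x = k • x := e
  apply hs
  rw [← hk, ← hπ, ← e', hπ]
  exact congrArg (fun p : Equiv.Perm S => p (π x)) hn

theorem pi_surj [IsPretransitive G S] [Nonempty Ω] (hπ : ∀ (g : G) (x : Ω), π (g • x) = g • π x) :
    Function.Surjective π := fun s => by
  obtain ⟨x⟩ := ‹Nonempty Ω›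
  obtain ⟨k, hk⟩ := exists_smul_eq G (π x) s
  exact ⟨k • x, by rw [hπ, hk]⟩

variable [Fintype Ω] [DecidableEq Ω]

theorem Fl.not_const {F : Finset Ω} (hF : Fl G F) (hπ : ∀ (g : G) (x : Ω), π (g • x) = g • π x)
    (hs : Function.Surjective π) (hf : ∀ g : G, (∀ s : S, g • s = s) → g = 1) {s : S}
    (k : ∀ x ∉ F, π x = s) : False := by
  obtain ⟨x, y, e, hx, hy⟩ := hF.two
  obtain ⟨g, g1, g2⟩ := hF.2 x hx y hy
  have : g = 1 := hf g fun t => by
    obtain ⟨z, rfl⟩ := hs t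
    by_cases hz : z ∈ F
    · rw [← hπ, g1 z hz]
    · rw [k z hz, ← k x hx, ← hπ, g2, k x hx, k y hy]
  exact e (by rw [← g2, this, one_smul])

theorem Fl.sat {F : Finset Ω} (hF : Fl G F) (hπ : ∀ (g : G) (x : Ω), π (g • x) = g • π x)
    (hs : Function.Surjective π) (hf : ∀ g : G, (∀ s : S, g • s = s) → g = 1) {x y : Ω}
    (hx : x ∉ F) (hy : y ∈ F) : π x ≠ π y := fun e =>
  hF.not_const hπ hs hf (s := π y) fun z hz => by
    obtain ⟨g, g1, g2⟩ := hF.2 x hx z hz
    rw [← g2, hπ, e, ← hπ, g1 y hy]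

theorem Fl.qp_setup [Finite G] {F : Finset Ω} (hF : Fl G F)
    (hqp : ∀ N : Subgroup G, N.Normal → N ≠ ⊥ → IsPretransitive N Ω) :
    ∃ (M : Subgroup G) (π : Ω → G ⧸ M), IsPretransitive G Ω ∧ IsPreprimitive G (G ⧸ M) ∧
      (∀ (g : G) (x : Ω), π (g • x) = g • π x) ∧ Function.Surjective π ∧
      ∀ g : G, (∀ s : G ⧸ M, g • s = s) → g = 1 := by
  obtain ⟨x, y, e, hx, hy⟩ := hF.two
  obtain ⟨g, -, g2⟩ := hF.2 x hx y hy
  have : Nontrivial Ω := ⟨⟨x, y, e⟩⟩
  have t := hqp ⊤ inferInstance fun k => e (by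
    have : g ∈ (⊥ : Subgroup G) := k ▸ Subgroup.mem_top g
    rw [← g2, Subgroup.mem_bot.1 this, one_smul])
  have : IsPretransitive G Ω := ⟨fun a b => by
    obtain ⟨k, hk⟩ := exists_smul_eq (⊤ : Subgroup G) a b
    exact ⟨k.1, hk⟩⟩
  obtain ⟨M, π, h1, h2, h3⟩ := exists_prim_quot (G := G) (Ω := Ω)
  exact ⟨M, π, this, h1, h3, pi_surj h3, fun g hg => qp_faithful hqp h3 hg⟩

omit [Fintype Ω] [DecidableEq Ω] in
theorem prim_of_inj [IsPreprimitive G S] (hπ : ∀ (g : G) (x : Ω), π (g • x) = g • π x)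
    (hs : Function.Surjective π) (hi : Function.Injective π) : IsPreprimitive G Ω :=
  (isPreprimitive_congr (φ := (id : G → G)) (f := (⟨π, hπ⟩ : Ω →ₑ[(id : G → G)] S))
    Function.surjective_id ⟨hi, hs⟩).2 ‹_›

theorem Fl.pair [IsPretransitive G Ω] {F : Finset Ω} (hF : Fl G F)
    (hπ : ∀ (g : G) (x : Ω), π (g • x) = g • π x) (hs : Function.Surjective π)
    (hf : ∀ g : G, (∀ s : S, g • s = s) → g = 1) (hi : ¬ Function.Injective π) :
    ∃ x y, x ∉ F ∧ y ∉ F ∧ x ≠ y ∧ π x = π y := by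
  obtain ⟨x, y, e, ne⟩ := Function.not_injective_iff.1 hi
  obtain ⟨z, -, -, hz, -⟩ := hF.two
  obtain ⟨g, rfl⟩ := exists_smul_eq G x z
  have e' : π (g • x) = π (g • y) := by rw [hπ, hπ, e]
  exact ⟨g • x, g • y, hz, fun k => hF.sat hπ hs hf hz k e',
    fun k => ne ((smul_left_cancel_iff _).1 k), e'⟩

theorem Fl.qp_prim [Finite G] {F : Finset Ω} (hF : Fl G F)
    (hqp : ∀ N : Subgroup G, N.Normal → N ≠ ⊥ → IsPretransitive N Ω)
    (c : Fintype.card Ω < 2 * F.card) : IsPreprimitive G Ω := by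
  classical
  obtain ⟨M, π, t, pr, hπ, hs, hf⟩ := hF.qp_setup hqp
  by_contra hn
  obtain ⟨x, y, hx, hy, ne, e⟩ := hF.pair hπ hs hf fun k => hn (prim_of_inj hπ hs k)
  letI := Fintype.ofFinite (G ⧸ M)
  have mem : ∀ z, π z ∈ F.image π ↔ z ∈ F := fun z => ⟨fun k => by
    obtain ⟨w, w1, w2⟩ := mem_image.1 k
    by_contra u
    exact hF.sat hπ hs hf u w1 w2.symm, mem_image_of_mem _⟩
  have cm : (F.image π)ᶜ = Fᶜ.image π := by
    ext s
    obtain ⟨z, rfl⟩ := hs s
    rw [mem_compl, mem]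
    refine ⟨fun k => mem_image_of_mem _ (mem_compl.2 k), fun k u => ?_⟩
    obtain ⟨w, w1, w2⟩ := mem_image.1 k
    exact hF.sat hπ hs hf (mem_compl.1 w1) u w2
  have hF' : Fl G (F.image π) := by
    refine ⟨?_, fun s h1 t h2 => ?_⟩
    · by_contra k
      refine hF.not_const hπ hs hf (s := π x) fun z hz => ?_
      exact card_le_one.1 (show (F.image π)ᶜ.card ≤ 1 by omega) _
        (by rw [mem_compl, mem]; exact hz) _ (by rw [mem_compl, mem]; exact hx)
    · obtain ⟨a, rfl⟩ := hs s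
      obtain ⟨b, rfl⟩ := hs t
      obtain ⟨g, g1, g2⟩ := hF.2 a (by rwa [← mem]) b (by rwa [← mem])
      refine ⟨g, fun u hu => ?_, by rw [← hπ, g2]⟩
      obtain ⟨w, w1, rfl⟩ := mem_image.1 hu
      rw [← hπ, g1 w w1]
  have fib : ∀ s, (univ.filter fun z => π z = s).card = (univ.filter fun z => π z = π x).card := by
    intro s
    obtain ⟨g, rfl⟩ := exists_smul_eq G (π x) s
    rw [← card_smul_finset g (univ.filter fun z => π z = π x)]
    congr 1
    ext z
    rw [← inv_smul_mem_iff]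
    simp [hπ, inv_smul_eq_iff]
  have c1 := card_le_mul_card_image (f := π) F (univ.filter fun z => π z = π x).card
    fun s _ => fib s ▸ card_le_card (filter_subset_filter _ (subset_univ _))
  have c2 := mul_card_image_le_card (f := π) Fᶜ (univ.filter fun z => π z = π x).card
    fun s k => fib s ▸ card_le_card fun z hz => by
      rw [← cm, mem_compl] at k
      simp only [mem_filter, mem_univ, true_and, mem_compl] at hz ⊢
      exact ⟨by rw [← mem, hz]; exact k, hz⟩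
  rw [← cm, card_compl F] at c2
  have c3 : (F.image π)ᶜ.card < (F.image π).card :=
    lt_of_mul_lt_mul_left (a := (univ.filter fun z => π z = π x).card) (by omega) (Nat.zero_le _)
  have c4 := hF'.1
  obtain ⟨s0, h0, s1, h1, n01⟩ := one_lt_card.1 (show 1 < (F.image π).card by omega)
  have c5 := card_le_univ (F.image π)
  rw [card_compl] at c3
  have xc : π x ∉ F.image π := by rw [mem]; exact hx
  have n0 : π x ≠ s0 := fun k => xc (k ▸ h0)
  have n1 : π x ≠ s1 := fun k => xc (k ▸ h1)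
  obtain ⟨g, hg⟩ := hF'.alt pr (by omega) (Equiv.swap (π x) s1 * Equiv.swap (π x) s0)
    (by simp [Equiv.Perm.sign_swap n0, Equiv.Perm.sign_swap n1])
  obtain ⟨h, k1, k2⟩ := hF.2 x hx y hy
  have fx : ∀ s ∈ F.image π, toPermHom G (G ⧸ M) h s = s := fun s k => by
    obtain ⟨w, w1, rfl⟩ := mem_image.1 k
    exact (hπ h w).symm.trans (by rw [k1 w w1])
  have fc : toPermHom G (G ⧸ M) h (π x) = π x := (hπ h x).symm.trans (by rw [k2, e])
  have cm : toPermHom G (G ⧸ M) (h * g) = toPermHom G (G ⧸ M) (g * h) := by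
    rw [map_mul, map_mul, show toPermHom G (G ⧸ M) g = _ from hg, ← mul_assoc,
      Equiv.mul_swap_eq_swap_mul _ (π x) s1, mul_assoc, Equiv.mul_swap_eq_swap_mul _ (π x) s0, fc,
      fx _ h0, fx _ h1, mul_assoc]
  have hg' : h * g = g * h := by
    rw [← mul_inv_eq_one]
    refine hf _ fun s => ?_
    have : toPermHom G (G ⧸ M) (h * g * (g * h)⁻¹) = 1 := by
      rw [map_mul, map_inv, cm, mul_inv_cancel]
    exact congrArg (fun p : Equiv.Perm (G ⧸ M) => p s) this
  have gx : g • x ∈ F := by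
    rw [← mem, hπ, show g • π x = _ from congrArg (fun p : Equiv.Perm (G ⧸ M) => p (π x)) hg]
    simpa [Equiv.swap_apply_of_ne_of_ne n0.symm n01] using h0
  have := k1 _ gx
  rw [← mul_smul, hg', mul_smul, k2, smul_left_cancel_iff] at this
  exact ne this.symm

end

end H5
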