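import Cfsg.Agent.H5.KZ1
import Cfsg.Agent.H2.Supersolvable
import Cfsg.Agent.H21.Kazarin
import Cfsg.Agent.S0732
import Cfsg.Agent.S3559
import Cfsg.Agent.S3972

/-! A non-solvable primitive group with a regular cyclic subgroup and Z-group point stabiliser is
`PGL(2,p)` on the projective line (`KZ.prim`); `KZ.solvS`: a product of an odd order group and a Z-group
is solvable. -/

set_option autoImplicit false
set_option linter.unusedSectionVars false

open Cfsg Subgroup MulAction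
namespace H5.KZ
open scoped commutatorElement

theorem solvS {G : Type*} [Group G] [Finite G] {L E Y : Subgroup G} (hE : E ≤ L) (hY : Y ≤ L)
    (ho : ¬ 2 ∣ Nat.card E) [IsZGroup Y] (h : ∀ l ∈ L, ∃ e ∈ E, ∃ y ∈ Y, l = e * y) : Group.IsSolvable L := by
  haveI : Fact (Nat.Prime 2) := ⟨Nat.prime_two⟩
  have orb : orbit (E.subgroupOf L) ((1 : L) : L ⧸ Y.subgroupOf L) = Set.univ := by
    refine Set.eq_univ_of_forall fun q => ?_
    obtain ⟨l, rfl⟩ := QuotientGroup.mk_surjective q
    obtain ⟨e, he, y, hy, e1⟩ := h l l.2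
    refine ⟨⟨⟨e, hE he⟩, he⟩, ?_⟩
    show (((⟨e, hE he⟩ : L) * 1 : L) : L ⧸ Y.subgroupOf L) = l
    rw [QuotientGroup.eq, mem_subgroupOf]
    simpa [e1] using hy
  have d : Y.relIndex L ∣ Nat.card E := by
    have := index_dvd_card (stabilizer (E.subgroupOf L) ((1 : L) : L ⧸ Y.subgroupOf L))
    rw [index_stabilizer, orb, Set.ncard_univ, Nat.card_congr (subgroupOfEquivOfLe hE).toEquiv] at this
    exact this
  obtain ⟨T, hT⟩ := H18.exists_sylow Nat.prime_two Y
  refine H21.solv_of_cyc_two (hT.of_idx hY ((H18.piNat_compl_iff Nat.prime_two).2 fun c => ho (c.trans d))) ?_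
  haveI : IsZGroup T := IsZGroup.of_injective (inclusion_injective hT.le)
  have : IsPGroup 2 T := by
    rw [IsPGroup.iff_card]
    exact ⟨_, Nat.eq_prime_pow_of_unique_prime_dvd Nat.card_pos.ne' fun hq hd => hT.pi _ hq hd⟩
  exact isCyclic_of_surjective _ (topEquiv (G := T)).surjective (hH := 
    (IsPGroup.to_subgroup this ⊤).isCyclic_of_isZGroup)

theorem solvT {G : Type*} [Group G] (h : Group.IsSolvable (⊤ : Subgroup G)) : Group.IsSolvable G :=
  Group.isSolvable_of_surjective (f := (⊤ : Subgroup G).subtype) fun g => ⟨⟨g, trivial⟩, rfl⟩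

theorem solv23 {G : Type*} [Group G] [Finite G] (h : Nat.card G ∣ 24) : Group.IsSolvable G := by
  refine solvT (H21.solv_paqb Nat.prime_two Nat.prime_three fun q hq hd => ?_)
  rw [card_top] at hd
  have := hd.trans h
  have h1 := Nat.le_of_dvd (by norm_num) this
  interval_cases q <;> simp_all (config := {decide := true})

theorem prim {Ω : Type*} [Fintype Ω] [DecidableEq Ω] (G : Subgroup (Equiv.Perm Ω)) (hp : IsPreprimitive G Ω)
    (A : Subgroup G) [IsCyclic A] (α : Ω) (tr : ∀ b, ∃ x ∈ A, x • α = b) [IsZGroup (stabilizer G α)]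
    (hs : ¬ Group.IsSolvable G) :
    ∃ p : ℕ, p.Prime ∧ 3 < p ∧ 2 ∣ Nat.card A ∧ ¬ p ^ 2 ∣ Nat.card G ∧
      Nonempty (G ≃* Matrix.ProjGenLinGroup (Fin 2) (ZMod p)) ∧ ∃ Z : Subgroup G, Nat.card Z = p ∧
      stabilizer G α ≤ normalizer (Z : Set G) ∧ ∀ N : Subgroup G, N.Normal → N ⊓ stabilizer G α ≠ ⊥ → Z ≤ N := by
  haveI : Fact (Nat.Prime 2) := ⟨Nat.prime_two⟩
  have com : ∀ x ∈ A, ∀ y ∈ A, x * y = y * x := fun x hx y hy =>
    congrArg Subtype.val ((IsCyclic.commGroup (α := A)).mul_comm ⟨x, hx⟩ ⟨y, hy⟩)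
  have fac : ∀ g : G, ∃ a ∈ A, ∃ b ∈ stabilizer G α, g = a * b := fun g => by
    obtain ⟨a, ha, e⟩ := tr (g • α)
    exact ⟨a, ha, a⁻¹ * g, by show (a⁻¹ * g) • α = α; rw [mul_smul, ← e, inv_smul_smul], by group⟩
  have A2 : 2 ∣ Nat.card A := by_contra fun c => hs (solvT (solvS le_top le_top c fun g _ => fac g))
  have B2 : 2 ∣ Nat.card (stabilizer G α) := by_contra fun c => hs (solvT (solvS (Y := A) le_top le_top c
    fun g _ => by
      obtain ⟨a, ha, b, hb, e⟩ := fac g⁻¹
      exact ⟨b⁻¹, inv_mem hb, a⁻¹, inv_mem ha, by rw [← mul_inv_rev, ← e, inv_inv]⟩))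
  have stA : ∀ a : Ω, stabilizer A a = ⊥ := fun a => (eq_bot_iff_forall _).2 fun x hx =>
    Subtype.ext (sreg com tr x.2 hx)
  have cA : Nat.card A = Fintype.card Ω := by
    rw [← index_bot, ← stA α, index_stabilizer, Set.eq_univ_of_forall (s := orbit A α) fun b => by
      obtain ⟨x, hx, e⟩ := tr b
      exact ⟨⟨x, hx⟩, e⟩, Set.ncard_univ, Nat.card_eq_fintype_card]
  have trA : IsPretransitive A Ω := ⟨fun a b => by
    obtain ⟨x, hx, rfl⟩ := tr a
    obtain ⟨y, hy, rfl⟩ := tr b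
    exact ⟨⟨y * x⁻¹, mul_mem hy (inv_mem hx)⟩, by show (y * x⁻¹) • x • α = y • α; simp [mul_smul]⟩⟩
  have n2 : 2 ≤ Fintype.card Ω := cA ▸ Nat.le_of_dvd Nat.card_pos A2
  have h2 : IsMultiplyPretransitive G Ω 2 := by
    by_contra c
    by_cases hq : IsPrimePow (Nat.card Ω)
    · obtain ⟨q, m, hq, hm, e⟩ := (isPrimePow_nat_iff _).1 hq
      rw [Nat.card_eq_fintype_card] at e
      by_cases m2 : 2 ≤ m
      · obtain ⟨g, hg⟩ := IsCyclic.exists_ofOrder_eq_natCard (α := A)
        exact (Cfsg.Agent.S3972.result q m hq m2 e.symm G hp.toIsPretransitive c (g : G)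
          (by rw [orderOf_coe, hg, cA, e])).1 hp
      · obtain rfl : m = 1 := by omega
        have : q = 2 := ((Nat.prime_dvd_prime_iff_eq Nat.prime_two hq).1 (by rw [cA, ← e, pow_one] at A2; exact A2)).symm
        refine hs (solv23 ((card_subgroup_dvd_card G).trans ?_))
        rw [Nat.card_eq_fintype_card, Fintype.card_perm, ← e, this]; decide
    · rcases Cfsg.Agent.S3559.result hp.toIsPretransitive (by rwa [Nat.card_eq_fintype_card]) hq A inferInstance
        ⟨trA, stA⟩ with e | e <;> contradiction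
  have two : ∀ a b c d : Ω, a ≠ b → c ≠ d → ∃ g : G, g • a = c ∧ g • b = d := fun a b c d e e' =>
    is_two_pretransitive_iff.1 h2 e e'
  obtain ⟨z, hz⟩ := exists_prime_orderOf_dvd_card' 2 A2
  have z2 : z * z = 1 := by rw [← pow_two, ← hz, pow_orderOf_eq_one]
  have z1 : z ≠ 1 := fun e => by simp [e] at hz
  have ab : (z : G) • α ≠ α := fun e => z1 (Subtype.ext (sreg com tr z.2 e))
  set β := (z : G) • α with hβ
  have fixall : ∀ x : G, x • α = α → (∀ g : G, g • α = α → (g⁻¹ * x * g) • β = β) → x = 1 := by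
    intro x xa hx
    refine one_of_fix (Ω := Ω) fun γ => ?_
    by_cases e : γ = α
    · rw [e, xa]
    obtain ⟨g, g1, g2⟩ := two α β α γ ab.symm (Ne.symm e)
    have := hx g g1
    rwa [mul_smul, mul_smul, g2, inv_smul_eq_iff, g2] at this
  haveI := IsZGroup.isCyclic_commutator (G := stabilizer G α)
  have nrm : ∀ x ∈ commutator (stabilizer G α), (zpowers x).Normal := fun x hx =>
    H2.normal_of_le_cyclic (N := commutator (stabilizer G α)) (by rwa [zpowers_le])
  have nfix : ∀ x : stabilizer G α, (zpowers x).Normal → (x : G) • β = β → x = 1 := by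
    intro x hx xb
    refine Subtype.ext (fixall x x.2 fun g hg => ?_)
    have : zpowers x ≤ stabilizer (stabilizer G α) β := by rw [zpowers_le]; exact xb
    exact this (hx.conj_mem' x (mem_zpowers x) ⟨g, hg⟩)
  have cyc : IsCyclic (stabilizer G α ⊓ stabilizer G β : Subgroup G) := by
    refine isCyclic_of_injective ((Abelianization.of (G := stabilizer G α)).comp (inclusion inf_le_left))
      ((injective_iff_map_eq_one _).2 fun x hx => ?_)
    have : inclusion inf_le_left x ∈ commutator (stabilizer G α) := by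
      rw [← Abelianization.ker_of]; exact hx
    exact inclusion_injective inf_le_left ((nfix _ (nrm _ this) x.2.2).trans (map_one _).symm)
  have cc : ({α}ᶜ : Set Ω).ncard = Fintype.card Ω - 1 := by
    rw [Set.ncard_compl, Set.ncard_singleton, Nat.card_eq_fintype_card]
  have cB : Nat.card (stabilizer G α) = (Fintype.card Ω - 1) * Nat.card (stabilizer (stabilizer G α) β) := by
    rw [← (stabilizer (stabilizer G α) β).index_mul_card, index_stabilizer, ← cc]
    congr 2
    ext γ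
    constructor
    · rintro ⟨g, rfl⟩ e
      exact ab (smul_left_cancel g (e.trans (g.2 : (g : G) • α = α).symm))
    · intro e
      obtain ⟨g, g1, g2⟩ := two α β α γ ab.symm (Ne.symm e)
      exact ⟨⟨g, g1⟩, g2⟩
  obtain ⟨t, ht⟩ := exists_prime_orderOf_dvd_card' (G := stabilizer (stabilizer G α) β) 2 (by
    rw [cB] at B2
    refine ((Nat.Prime.dvd_mul Nat.prime_two).1 B2).resolve_left ?_
    rw [cA] at A2; omega)
  have h : Cf A α (z : G) (t : G) :=
    { two := two, com := com, tr := tr, zA := z.2, z1 := fun e => z1 (Subtype.ext e)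
      z2 := congrArg Subtype.val z2
      uz := fun c hc c2 => by
        rcases cyc_inv (s := ⟨c, hc⟩) (Subtype.ext c2) z2 z1 with e | e
        · exact Or.inl (congrArg Subtype.val e)
        · exact Or.inr (congrArg Subtype.val e)
      cyc := cyc, ta := t.1.2, tb := t.2
      t1 := fun e => by
        have : t = 1 := Subtype.ext (Subtype.ext e)
        simp [this] at ht
      t2 := by
        have : t * t = 1 := by rw [← pow_two, ← ht, pow_orderOf_eq_one]
        exact congrArg (fun x : stabilizer (stabilizer G α) β => ((x : stabilizer G α) : G)) this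
      zg := inferInstance }
  obtain ⟨γ, hγ⟩ : ∃ γ : Ω, (t : G) • γ ≠ γ := by
    by_contra c; push Not at c; exact h.t1 (one_of_fix c)
  have ga : γ ≠ α := fun e => hγ (by rw [e, h.ta])
  have gb : γ ≠ β := fun e => hγ (by rw [e, h.tb])
  have cH : Nat.card (stabilizer (stabilizer G α) β) = Fintype.card Ω - 2 := by
    have st : stabilizer (stabilizer (stabilizer G α) β) γ = ⊥ := (eq_bot_iff_forall _).2 fun x hx => by
      refine Subtype.ext (Subtype.ext (one_of_fix (Ω := Ω) fun δ => ?_))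
      by_cases da : δ = α
      · rw [da]; exact x.1.2
      by_cases db : δ = β
      · rw [db]; exact x.2
      obtain ⟨k, k1, k2, k3⟩ := h.three ga gb da db
      rw [← k3, ← mul_smul, h.hcom x.1.2 x.2 k1 k2, mul_smul]
      congr 1
    rw [← index_bot, ← st, index_stabilizer, ← Nat.card_eq_fintype_card, ← Set.ncard_pair ab.symm,
      ← Set.ncard_compl]
    congr 1
    ext δ
    simp only [Set.mem_compl_iff, Set.mem_insert_iff, Set.mem_singleton_iff, not_or]
    constructor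
    · rintro ⟨g, rfl⟩
      exact ⟨fun e => ga (smul_left_cancel g (e.trans (g.1.2 : (g : G) • α = α).symm)),
        fun e => gb (smul_left_cancel g (e.trans (g.2 : (g : G) • β = β).symm))⟩
    · rintro ⟨da, db⟩
      obtain ⟨k, k1, k2, k3⟩ := h.three ga gb da db
      exact ⟨⟨⟨k, k1⟩, k2⟩, k3⟩
  have nb : commutator (stabilizer G α) ≠ ⊥ := fun e => h.t1 (fixall _ h.ta fun g hg => by
    have : ⁅(⟨g, hg⟩ : stabilizer G α)⁻¹, t.1⁆ ∈ commutator (stabilizer G α) :=
      commutator_mem_commutator trivial trivial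
    rw [e, mem_bot, commutatorElement_def, mul_inv_eq_one] at this
    have e2 : g⁻¹ * t * g⁻¹⁻¹ = t := congrArg Subtype.val this
    rw [inv_inv] at e2
    rw [e2, h.tb])
  obtain ⟨p, hpp, hd⟩ := Nat.exists_prime_and_dvd (mt card_eq_one.1 nb)
  haveI := Fact.mk hpp
  obtain ⟨x, hx⟩ := exists_prime_orderOf_dvd_card' p hd
  have xn := nrm x x.2
  have x1 : (x : stabilizer G α) ≠ 1 := fun e => by
    rw [show x = 1 from Subtype.ext e, orderOf_one] at hx; exact hpp.one_lt.ne hx
  let Z : Subgroup G := (zpowers (x : stabilizer G α)).map (stabilizer G α).subtype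
  have cZ : Nat.card Z = p := by
    rw [card_map_of_injective (subtype_injective _), Nat.card_zpowers, orderOf_coe, hx]
  have ZB : Z ≤ stabilizer G α := map_subtype_le _
  have nZ : ∀ g ∈ stabilizer G α, ∀ y ∈ Z, g * y * g⁻¹ ∈ Z := by
    rintro g hg _ ⟨y, hy, rfl⟩
    exact ⟨_, xn.conj_mem y hy ⟨g, hg⟩, rfl⟩
  have xZ : ((x : stabilizer G α) : G) ∈ Z := ⟨_, mem_zpowers _, rfl⟩
  have orb : orbit Z β = {α}ᶜ := by
    ext δ
    constructor
    · rintro ⟨g, rfl⟩ e
      exact ab (smul_left_cancel g (e.trans (ZB g.2 : (g : G) • α = α).symm))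
    · intro da
      by_cases db : δ = β
      · rw [db]; exact mem_orbit_self β
      obtain ⟨k, k1, k2, k3⟩ := h.three (γ := ((x : stabilizer G α) : G) • β)
        (fun e => ab (smul_left_cancel ((x : stabilizer G α) : G) (e.trans x.1.2.symm)))
        (fun e => x1 (nfix _ xn e)) da db
      refine ⟨⟨_, nZ k k1 _ xZ⟩, ?_⟩
      show (k * ((x : stabilizer G α) : G) * k⁻¹) • β = δ
      rw [mul_smul, mul_smul, inv_smul_eq_iff.2 k2.symm, k3]
  have n3 : 3 ≤ Fintype.card Ω := by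
    have := Nat.card_pos (α := stabilizer (stabilizer G α) β)
    omega
  have np : Fintype.card Ω = p + 1 := by
    have := index_dvd_card (stabilizer Z β)
    rw [index_stabilizer, orb, cc, cZ] at this
    rcases (Nat.dvd_prime hpp).1 this with e | e <;> omega
  haveI := hp.toIsPretransitive
  have cG : Nat.card G = (p + 1) * p * (p - 1) := by
    rw [← (stabilizer G α).index_mul_card, index_stabilizer_of_transitive, cB, cH, Nat.card_eq_fintype_card, np,
      mul_assoc]
    rfl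
  have p3 : 3 < p := by
    by_contra c
    have := hpp.two_le
    refine hs (solv23 ?_)
    rw [cG]
    have : p ≤ 3 := by omega
    interval_cases p <;> decide
  refine ⟨p, hpp, p3, A2, ?_, ?_, Z, cZ, fun g hg => mem_normalizer_fintype (nZ g hg), fun N hN ne => ?_⟩
  · rw [cG, mul_comm (p + 1), mul_assoc, pow_two, Nat.mul_dvd_mul_iff_left hpp.pos, hpp.dvd_mul]
    rintro (c | c)
    · exact hpp.one_lt.ne' (Nat.dvd_one.1 ((Nat.dvd_add_right dvd_rfl).1 c))
    · have := Nat.le_of_dvd (by omega) c; omega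
  · rcases Cfsg.Agent.S0732.result hpp np G cG (by omega) with ⟨-, e⟩ | ⟨e, -⟩ | ⟨q, -, e, e' | e', -⟩
    · exact e
    · omega
    · omega
    · exfalso
      obtain ⟨r, rfl⟩ : ∃ r, q = r + 2 := ⟨q - 2, by omega⟩
      have := Nat.lt_two_pow_self (n := r)
      rw [pow_add] at e; omega
  · haveI : Fact (Nat.card Z).Prime := ⟨cZ ▸ hpp⟩
    rcases (N.subgroupOf Z).eq_bot_or_eq_top_of_prime_card with e | e
    · exfalso
      rw [subgroupOf_eq_bot, disjoint_iff] at e
      obtain ⟨⟨y, hy⟩, y1⟩ := ne_bot_iff_exists_ne_one.1 ne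
      have cm : ∀ w ∈ Z, y * w = w * y := fun w hw => by
        have : y * w * y⁻¹ * w⁻¹ ∈ N ⊓ Z := ⟨by
          rw [mul_assoc, mul_assoc]; exact N.mul_mem hy.1 (by rw [← mul_assoc]; exact hN.conj_mem _ (N.inv_mem hy.1) w),
          Z.mul_mem (nZ y hy.2 w hw) (Z.inv_mem hw)⟩
        rw [e, mem_bot, mul_inv_eq_one, mul_inv_eq_iff_eq_mul] at this
        exact this
      obtain ⟨w, hw⟩ : y • β ∈ orbit Z β := by
        rw [orb]; exact fun e => ab (smul_left_cancel y (e.trans (hy.2 : y • α = α).symm))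
      have hw' : (w : G) • β = y • β := hw
      have : (w : G)⁻¹ * y = 1 := one_of_fix (Ω := Ω) fun δ => by
        by_cases da : δ = α
        · rw [da, mul_smul, show y • α = α from hy.2]; exact ZB (inv_mem w.2)
        obtain ⟨v, hv⟩ : δ ∈ orbit Z β := by rw [orb]; exact da
        have hv' : (v : G) • β = δ := hv
        haveI : IsCyclic Z := isCyclic_of_prime_card cZ
        have c2 : (v : G) * w = w * v := congrArg Subtype.val ((IsCyclic.commGroup (α := Z)).mul_comm v w)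
        rw [← hv', mul_smul, ← mul_smul y, cm v v.2, mul_smul, ← hw', ← mul_smul (v : G), c2, mul_smul,
          inv_smul_smul]
      rw [inv_mul_eq_one] at this
      have : y ∈ N ⊓ Z := ⟨hy.1, this ▸ w.2⟩
      rw [e, mem_bot] at this
      exact y1 (Subtype.ext this)
    · exact subgroupOf_eq_top.1 e

theorem coat {M : Type*} [Group M] [Finite M] {B D K : Subgroup M} (hB : IsCoatom B) [IsCyclic D] [IsZGroup B]
    (hDB : ∀ g, ∃ a ∈ D, ∃ b ∈ B, g = a * b) [hK : K.Normal] (hKB : K ⊓ B.normalCore = ⊥) (hD : D ≤ K)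
    (hs : ¬ Group.IsSolvable K) :
    ∃ p : ℕ, p.Prime ∧ 3 < p ∧ 2 ∣ Nat.card D ∧ ¬ p ^ 2 ∣ Nat.card K ∧
      (B.normalCore = ⊥ → Nonempty (M ≃* Matrix.ProjGenLinGroup (Fin 2) (ZMod p))) ∧
      ∃ Q : Subgroup M, Q ≤ K ∧ Nat.card Q = p ∧ B ≤ normalizer (Q : Set M) := by
  classical
  haveI := Fintype.ofFinite (M ⧸ B)
  let f := (toPermHom M (M ⧸ B)).rangeRestrict
  have fs : Function.Surjective f := MonoidHom.rangeRestrict_surjective _
  have fk : f.ker = B.normalCore := by rw [MonoidHom.ker_rangeRestrict, normalCore_eq_ker]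
  have fa : ∀ (g : M) (x : M ⧸ B), f g • x = g • x := fun _ _ => rfl
  haveI : Nontrivial (M ⧸ B) := by
    obtain ⟨g, hg⟩ : ∃ g, g ∉ B := by
      by_contra c; push Not at c; exact hB.1 ((eq_top_iff' B).2 c)
    exact ⟨⟨(g : M), (1 : M), fun e => hg (by simpa [QuotientGroup.eq] using e)⟩⟩
  have pM : IsPreprimitive M (M ⧸ B) :=
    (isCoatom_stabilizer_iff_preprimitive M ((1 : M) : M ⧸ B)).1 (by rwa [stabilizer_quotient])
  have pG : IsPreprimitive (toPermHom M (M ⧸ B)).range (M ⧸ B) :=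
    IsPreprimitive.of_surjective (φ := f) (f := ⟨id, fun _ _ => rfl⟩) Function.surjective_id
  have st : ∀ g : M, f g ∈ stabilizer (toPermHom M (M ⧸ B)).range ((1 : M) : M ⧸ B) ↔ g ∈ B := fun g => by
    rw [mem_stabilizer_iff, fa, ← mem_stabilizer_iff, stabilizer_quotient]
  haveI : IsCyclic (D.map f) := isCyclic_of_surjective _ (f.subgroupMap_surjective D)
  haveI : IsZGroup (stabilizer (toPermHom M (M ⧸ B)).range ((1 : M) : M ⧸ B)) := by
    have : stabilizer (toPermHom M (M ⧸ B)).range ((1 : M) : M ⧸ B) = B.map f := by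
      ext x
      obtain ⟨g, rfl⟩ := fs x
      exact ⟨fun e => mem_map_of_mem f ((st g).1 e), by rintro ⟨b, hb, e⟩; exact e ▸ (st b).2 hb⟩
    rw [this]; exact IsZGroup.of_surjective (f.subgroupMap_surjective B)
  have inj : ∀ x ∈ K, ∀ y ∈ K, f x = f y → x = y := fun x hx y hy e => by
    have : x⁻¹ * y ∈ K ⊓ B.normalCore := ⟨K.mul_mem (K.inv_mem hx) hy, by
      rw [← fk]; show f (x⁻¹ * y) = 1; rw [map_mul, map_inv, e, inv_mul_cancel]⟩
    rwa [hKB, mem_bot, inv_mul_eq_one] at this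
  have inj' : Function.Injective (f.comp K.subtype) := fun x y e => Subtype.ext (inj _ x.2 _ y.2 e)
  obtain ⟨p, hp, p3, d2, p2, iso, Z, cZ, nZ, hZ⟩ := prim _ pG (D.map f) ((1 : M) : M ⧸ B) (fun b => by
      obtain ⟨g, rfl⟩ := QuotientGroup.mk_surjective b
      obtain ⟨a, ha, b, hb, rfl⟩ := hDB g
      refine ⟨f a, mem_map_of_mem f ha, ?_⟩
      show ((a * 1 : M) : M ⧸ B) = (a * b : M)
      rw [QuotientGroup.eq]; simpa using hb)
    (fun c => hs (Group.isSolvable_of_isSolvable_injective inj'))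
  have ZK : Z ≤ K.map f := hZ _ (hK.map f fs) fun e => hs (by
    have : K ≤ D := fun k hk => by
      obtain ⟨a, ha, b, hb, rfl⟩ := hDB k
      have bK : b ∈ K := by simpa using K.mul_mem (K.inv_mem (hD ha)) hk
      have : f b ∈ K.map f ⊓ stabilizer (toPermHom M (M ⧸ B)).range ((1 : M) : M ⧸ B) :=
        ⟨mem_map_of_mem f bK, (st b).2 hb⟩
      rw [e, mem_bot] at this
      rw [inj b bK 1 K.one_mem (this.trans (map_one f).symm), mul_one]; exact ha
    haveI : IsCyclic K := isCyclic_of_injective _ (inclusion_injective this)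
    infer_instance)
  refine ⟨p, hp, p3, d2.trans (card_map_dvd D f), fun c => p2 (c.trans (card_dvd_of_injective _ inj')),
    fun e => ?_, K ⊓ Z.comap f, inf_le_left, ?_, fun b hb => mem_normalizer_fintype fun x hx =>
      ⟨hK.conj_mem x hx.1 b, ?_⟩⟩
  · obtain ⟨i⟩ := iso
    exact ⟨(MulEquiv.ofBijective f ⟨(MonoidHom.ker_eq_bot_iff f).1 (fk.trans e), fs⟩).trans i⟩
  · rw [← cZ]
    refine Nat.card_congr (Equiv.ofBijective (fun x => ⟨f x, x.2.2⟩) ⟨fun x y e => Subtype.ext
      (inj _ x.2.1 _ y.2.1 (congrArg Subtype.val e)), fun z => ?_⟩)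
    obtain ⟨k, hk, e⟩ := ZK z.2
    exact ⟨⟨k, hk, by show f k ∈ Z; rw [e]; exact z.2⟩, Subtype.ext e⟩
  · show f (b * x * b⁻¹) ∈ Z
    rw [map_mul, map_mul, map_inv]
    exact (mem_normalizer_iff.1 (nZ ((st b).2 hb)) _).1 hx.2

theorem maxl {G : Type*} [Group G] [Finite G] {A B : Subgroup G} [IsCyclic A] [IsZGroup B]
    (hAB : ∀ g, ∃ a ∈ A, ∃ b ∈ B, g = a * b) (hs : ¬ Group.IsSolvable G)
    (hR : ∀ N : Subgroup G, N.Normal → Group.IsSolvable N → N = ⊥) : IsCoatom B := by
  haveI : Fact (Nat.Prime 2) := ⟨Nat.prime_two⟩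
  have com : ∀ x ∈ A, ∀ y ∈ A, x * y = y * x := fun x hx y hy =>
    congrArg Subtype.val ((IsCyclic.commGroup (α := A)).mul_comm ⟨x, hx⟩ ⟨y, hy⟩)
  have sB : ∀ N : Subgroup G, N ≤ B → Group.IsSolvable N := fun N h =>
    Group.isSolvable_of_isSolvable_injective (inclusion_injective h)
  have Bt : B < ⊤ := lt_top_iff_ne_top.2 fun e => hs (solvT (sB _ e.ge))
  obtain ⟨M, hM, -⟩ := exists_covBy_le_of_lt Bt
  have BM : B ≤ M := hM.le
  have dec : ∀ g ∈ M, ∃ a ∈ A ⊓ M, ∃ b ∈ B, g = a * b := fun g hg => by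
    obtain ⟨a, ha, b, hb, rfl⟩ := hAB g
    exact ⟨a, ⟨ha, by simpa using M.mul_mem hg (M.inv_mem (BM hb))⟩, b, hb, rfl⟩
  let K := M.normalCore
  have KM : K ≤ M := normalCore_le M
  have DK : A ⊓ M ≤ K := fun d hd g => by
    obtain ⟨a, ha, b, hb, e⟩ := hAB g⁻¹
    rw [← inv_inv g, e, inv_inv, show (a * b)⁻¹ * d * (a * b) = b⁻¹ * (a⁻¹ * (d * a)) * b by group,
      com d hd.1 a ha, inv_mul_cancel_left]
    exact M.mul_mem (M.mul_mem (M.inv_mem (BM hb)) hd.2) (BM hb)
  have Kn : K ≠ ⊥ := fun e => hM.lt.not_ge fun g hg => by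
    obtain ⟨a, ha, b, hb, rfl⟩ := dec g hg
    have := DK ha
    rw [e, mem_bot] at this
    rw [this, one_mul]; exact hb
  have Ks : ¬ Group.IsSolvable K := fun c => Kn (hR K inferInstance c)
  haveI : IsCyclic ((A ⊓ M).subgroupOf M) := isCyclic_of_injective
    ((inclusion (inf_le_left : A ⊓ M ≤ A)).comp (subgroupOfEquivOfLe (inf_le_right : A ⊓ M ≤ M)).toMonoidHom)
    ((inclusion_injective (inf_le_left : A ⊓ M ≤ A)).comp (MulEquiv.injective _))
  haveI : IsZGroup (B.subgroupOf M) := IsZGroup.of_injective (f := (subgroupOfEquivOfLe BM).toMonoidHom)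
    (MulEquiv.injective _)
  obtain ⟨p, hp, -, d2, p2, -, Q0, QK, cQ, nQ⟩ := coat (B := B.subgroupOf M) (D := (A ⊓ M).subgroupOf M)
    (K := K.subgroupOf M) ⟨fun e => hM.lt.not_ge (subgroupOf_eq_top.1 e), fun X hX => by
      have h1 : B ≤ X.map M.subtype := fun b hb => ⟨⟨b, BM hb⟩, hX.le hb, rfl⟩
      rcases hM.eq_or_eq h1 (map_subtype_le X) with e | e
      · refine absurd (fun x hx => ?_) hX.not_ge
        show (x : G) ∈ B
        rw [← e]; exact mem_map_of_mem M.subtype hx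
      · refine (eq_top_iff' X).2 fun x => ?_
        obtain ⟨y, hy, e'⟩ : (x : G) ∈ X.map M.subtype := e.symm ▸ x.2
        rwa [← show y = x from Subtype.ext e']⟩
    (fun g => by
      obtain ⟨a, ha, b, hb, e⟩ := dec g g.2
      exact ⟨⟨a, ha.2⟩, ha, ⟨b, BM hb⟩, hb, Subtype.ext e⟩)
    (by
      obtain ⟨S, S1, S2, S3⟩ := H21.exists_solv_radical K
      have Sn : S.Normal := ⟨fun s hs g => S3 (H18.cj g S) (by
        have := S1.cj g
        rwa [H18.cj_eq_self (H := K) (by rw [normalizer_eq_top]; trivial)] at this) (S2.cj g) (H18.conj_mem_cj hs)⟩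
      have := S3 ((K.subgroupOf M ⊓ (B.subgroupOf M).normalCore).map M.subtype)
        ⟨by rintro _ ⟨x, hx, rfl⟩; exact hx.1, fun k hk => mem_normalizer_fintype (by
          rintro _ ⟨x, hx, rfl⟩
          exact ⟨_, (inferInstance : (K.subgroupOf M ⊓ (B.subgroupOf M).normalCore).Normal).conj_mem x hx
            ⟨k, KM hk⟩, rfl⟩)⟩
        (sB _ (by rintro _ ⟨x, hx, rfl⟩; exact normalCore_le (B.subgroupOf M) hx.2))
      rw [hR S Sn S2, le_bot_iff] at this
      exact (map_eq_bot_iff_of_injective _ M.subtype_injective).1 this)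
    (fun x hx => DK hx) (fun c => Ks (Group.isSolvable_of_surjective (subgroupOfEquivOfLe KM).surjective
      (f := (subgroupOfEquivOfLe KM).toMonoidHom)))
  haveI := Fact.mk hp
  let Q := Q0.map M.subtype
  have cQ' : Nat.card Q = p := by rw [card_map_of_injective M.subtype_injective, cQ]
  have QK' : Q ≤ K := by rintro _ ⟨x, hx, rfl⟩; exact QK hx
  have nQ' : B ≤ normalizer (Q : Set G) := fun b hb => mem_normalizer_fintype (by
    rintro _ ⟨x, hx, rfl⟩
    exact ⟨_, (mem_normalizer_iff.1 (nQ (x := ⟨b, BM hb⟩) hb) x).1 hx, rfl⟩)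
  have cQ2 : Nat.card (Q.subgroupOf K) = p := by rw [Nat.card_congr (subgroupOfEquivOfLe QK').toEquiv, cQ']
  let P : Sylow p K := (IsPGroup.of_card (n := 1) (by rw [cQ2, pow_one])).toSylow (P := Q.subgroupOf K) fun c => p2 (by
    rw [Nat.card_congr (subgroupOfEquivOfLe KM).toEquiv, ← (Q.subgroupOf K).card_mul_index, cQ2, pow_two]
    exact Nat.mul_dvd_mul_left p c)
  have fr : ∀ g : G, ∃ d ∈ A ⊓ M, ∃ n ∈ normalizer (Q : Set G), g = d * n := fun g => by
    have h := P.normalizer_sup_eq_top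
    rw [show (P : Subgroup K).map K.subtype = Q by
      show (Q.subgroupOf K).map K.subtype = Q
      rw [subgroupOf_map_subtype, inf_of_le_left QK'], sup_comm] at h
    obtain ⟨k, hk, n, hn, e⟩ := mem_sup_of_normal_left.1 (h.symm ▸ mem_top g)
    obtain ⟨a, ha, b, hb, rfl⟩ := dec k (KM hk)
    exact ⟨a, ha, b * n, mul_mem (nQ' hb) hn, by rw [← e, mul_assoc]⟩
  let L := (normalizer (Q : Set G)).normalCore
  have AL : ∀ a ∈ A, ∃ d ∈ A ⊓ M, ∃ e ∈ A ⊓ L, a = e * d := fun a ha => by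
    obtain ⟨d, hd, n, hn, rfl⟩ := fr a
    have nA : n ∈ A := by simpa using A.mul_mem (A.inv_mem hd.1) ha
    refine ⟨d, hd, n, ⟨nA, fun g => ?_⟩, com d hd.1 n nA⟩
    obtain ⟨d', hd', n', hn', e⟩ := fr g⁻¹
    rw [← inv_inv g, e, inv_inv, show (d' * n')⁻¹ * n * (d' * n') = n'⁻¹ * (d'⁻¹ * (n * d')) * n' by group,
      com n nA d' hd'.1, inv_mul_cancel_left]
    exact mul_mem (mul_mem (inv_mem hn') hn) hn'
  have NM : normalizer (Q : Set G) ⊓ M = B := by
    refine (hM.eq_or_eq (le_inf nQ' BM) inf_le_right).resolve_right fun e => ?_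
    have nt : normalizer (Q : Set G) = ⊤ := (eq_top_iff' _).2 fun g => by
      obtain ⟨d, hd, n, hn, rfl⟩ := fr g
      exact mul_mem ((e.ge.trans inf_le_left) hd.2) hn
    haveI : IsCyclic Q := isCyclic_of_prime_card cQ'
    rw [hR Q (normalizer_eq_top_iff.1 nt) inferInstance, card_bot] at cQ'
    exact hp.one_lt.ne cQ'
  have LK : L ⊓ K = ⊥ := hR _ inferInstance (sB _ (NM ▸ inf_le_inf (normalCore_le _) KM))
  have od : ¬ 2 ∣ Nat.card (A ⊓ L : Subgroup G) := fun c => by
    obtain ⟨x, hx⟩ := exists_prime_orderOf_dvd_card' 2 c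
    obtain ⟨y, hy⟩ := exists_prime_orderOf_dvd_card' 2 d2
    have x1 : x ≠ 1 := fun e => by simp [e] at hx
    have y1 : y ≠ 1 := fun e => by simp [e] at hy
    have x2 : x * x = 1 := by rw [← pow_two, ← hx, pow_orderOf_eq_one]
    have y2 : y * y = 1 := by rw [← pow_two, ← hy, pow_orderOf_eq_one]
    rcases cyc_inv (H := A) (s := ⟨x, x.2.1⟩) (t := ⟨y.1, y.2.1⟩) 
      (Subtype.ext (congrArg (fun a : (A ⊓ L : Subgroup G) => (a : G)) x2))
      (Subtype.ext (congrArg (fun a : (A ⊓ M).subgroupOf M => ((a : M) : G)) y2))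
      (fun e => y1 (Subtype.ext (Subtype.ext (congrArg (fun a : A => (a : G)) e)))) with e | e
    · exact x1 (Subtype.ext (congrArg (fun a : A => (a : G)) e))
    · have e' : (x : G) = y.1 := congrArg Subtype.val e
      have : (x : G) ∈ L ⊓ K := ⟨x.2.2, e' ▸ DK y.2⟩
      rw [LK, mem_bot] at this
      exact x1 (Subtype.ext this)
  haveI : IsZGroup (B.map (QuotientGroup.mk' K)) :=
    IsZGroup.of_surjective ((QuotientGroup.mk' K).subgroupMap_surjective B)
  haveI : IsZGroup (L ⊓ M : Subgroup G) := IsZGroup.of_injective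
    (f := ((QuotientGroup.mk' K).comp (L ⊓ M).subtype).codRestrict (B.map (QuotientGroup.mk' K)) fun x => by
      obtain ⟨a, ha, b, hb, e⟩ := dec x x.2.2
      refine ⟨b, hb, ?_⟩
      show ((b : G) : G ⧸ K) = ((x : G) : G ⧸ K)
      rw [e, QuotientGroup.mk_mul, (QuotientGroup.eq_one_iff a).2 (DK ha), one_mul])
    ((injective_iff_map_eq_one _).2 fun x hx => by
      have : (x : G) ∈ L ⊓ K := ⟨x.2.1, (QuotientGroup.eq_one_iff _).1 (congrArg Subtype.val hx)⟩
      rw [LK, mem_bot] at this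
      exact Subtype.ext this)
  have L0 : L = ⊥ := hR L inferInstance (solvS (E := A ⊓ L) (Y := L ⊓ M) inf_le_right inf_le_left od fun l hl => by
    obtain ⟨a, ha, b, hb, rfl⟩ := hAB l
    obtain ⟨d, hd, e, he, rfl⟩ := AL a ha
    exact ⟨e, he, d * b, ⟨by simpa [mul_assoc] using L.mul_mem (L.inv_mem he.2) hl, M.mul_mem hd.2 (BM hb)⟩,
      mul_assoc _ _ _⟩)
  have : M = ⊤ := (eq_top_iff' M).2 fun g => by
    obtain ⟨a, ha, b, hb, rfl⟩ := hAB g
    obtain ⟨d, hd, e, he, rfl⟩ := AL a ha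
    have := he.2
    rw [L0] at this
    rw [mem_bot.1 this, one_mul]; exact M.mul_mem hd.2 (BM hb)
  exact covBy_top_iff.1 (this ▸ hM)

theorem kazarin {G : Type*} [Group G] [Finite G] {A B : Subgroup G} [IsCyclic A] [IsZGroup B]
    (hAB : ∀ g, ∃ a ∈ A, ∃ b ∈ B, g = a * b) (hs : ¬ Group.IsSolvable G)
    (hR : ∀ N : Subgroup G, N.Normal → Group.IsSolvable N → N = ⊥) :
    ∃ p : ℕ, p.Prime ∧ 3 < p ∧ Nonempty (G ≃* Matrix.ProjGenLinGroup (Fin 2) (ZMod p)) := by
  have c : B.normalCore = ⊥ := hR _ inferInstance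
    (Group.isSolvable_of_isSolvable_injective (inclusion_injective (normalCore_le B)))
  obtain ⟨p, hp, p3, -, -, e, -⟩ := coat (K := ⊤) (maxl hAB hs hR) hAB (by rw [c, inf_bot_eq]) le_top
    (fun h => hs (solvT h))
  exact ⟨p, hp, p3, e c⟩

end H5.KZ
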