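import Cfsg.Agent.H7.Sect
import Cfsg.Agent.H15.Kl0

/-! Piece PA for S4606: if `k(B) = l(B) + 1`, all nontrivial subsections of `B` are conjugate and
have rank one. -/

set_option autoImplicit false

open H5 H7 Cfsg
namespace H5.KlA
universe u

theorem rank_mono {G : Type*} [Group G] [Finite G] {p : ℕ} {A B : Set (IrrCharacter G)}
    (h : A ⊆ B) : blockRank p A ≤ blockRank p B :=
  Submodule.finrank_mono (Submodule.span_mono (Set.image_mono h))

theorem pA : H15.Kl.PA.{u} := by
  intro G _ _ p _ M hM B hB hk x y hx1 hy1 hx hy b b' hb hb'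
  classical
  haveI : PM p M := ⟨hM⟩
  have := Fintype.ofFinite G
  have hs : IsSat M B := isSat_of_isPBlock hB
  let r : G → G := fun g => Quotient.out (ConjClasses.mk g)
  have hr : ∀ g, IsConj g (r g) := fun g =>
    ConjClasses.mk_eq_mk_iff_isConj.1 (Quotient.out_eq (ConjClasses.mk g)).symm
  have hr2 : ∀ g h, IsConj g h → r g = r h := fun g h e => by
    simp only [r, ConjClasses.mk_eq_mk_iff_isConj.2 e]
  have hpe : ∀ g, IsPE p g → IsPE p (r g) := fun g hg => by
    obtain ⟨c, hc⟩ := isConj_iff.1 (hr g)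
    exact hc ▸ hg.conj c
  let X : Finset G := (Finset.univ.filter fun g => IsPE p g).image r
  have hmem : ∀ g, IsPE p g → r g ∈ X := fun g hg =>
    Finset.mem_image_of_mem r (Finset.mem_filter.2 ⟨Finset.mem_univ _, hg⟩)
  have hsum := card_eq_sum_lr (p := p) hs X
    (fun z hz => by
      obtain ⟨g, hg, rfl⟩ := Finset.mem_image.1 hz
      exact hpe g (Finset.mem_filter.1 hg).2)
    (fun g hg _ => ⟨r g, hmem g hg, hr g⟩)
    (fun z hz w hw e => by
      obtain ⟨g, -, rfl⟩ := Finset.mem_image.1 hz
      obtain ⟨h, -, rfl⟩ := Finset.mem_image.1 hw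
      exact hr2 _ _ (((hr g).trans e).trans (hr h).symm))
  have l1 : lr M p B (r 1) = blockRank p B := by
    rw [← lr_conj hs isPE_one (hr 1), lr_one hs]
  have lx : blockRank p b ≤ lr M p B (r x) := by
    rw [← lr_conj hs hx (hr x)]
    exact rank_mono (isInducedBlock_iff_indB.1 hb).subset_indSet
  have ly : blockRank p b' ≤ lr M p B (r y) := by
    rw [← lr_conj hs hy (hr y)]
    exact rank_mono (isInducedBlock_iff_indB.1 hb').subset_indSet
  have px : 0 < blockRank p b := blockRank_pos (isSat_of_isPBlock hb.1) (block_nonempty hb.1)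
  have py : 0 < blockRank p b' := blockRank_pos (isSat_of_isPBlock hb'.1) (block_nonempty hb'.1)
  have hne : ∀ g, g ≠ 1 → r 1 ≠ r g := fun g hg e =>
    hg (isConj_one_right.1 (((hr 1).trans (e ▸ IsConj.refl _)).trans (hr g).symm))
  constructor
  · by_contra hc
    have hxy : r x ≠ r y := fun e => hc (((hr x).trans (e ▸ IsConj.refl _)).trans (hr y).symm)
    have hle : ∑ z ∈ ({r 1, r x, r y} : Finset G), lr M p B z ≤ ∑ z ∈ X, lr M p B z :=
      Finset.sum_le_sum_of_subset (by
        intro z hz
        simp only [Finset.mem_insert, Finset.mem_singleton] at hz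
        rcases hz with rfl | rfl | rfl
        exacts [hmem _ isPE_one, hmem _ hx, hmem _ hy])
    rw [Finset.sum_insert (by simp [hne x hx1, hne y hy1]), Finset.sum_pair hxy] at hle
    omega
  · have hle : ∑ z ∈ ({r 1, r x} : Finset G), lr M p B z ≤ ∑ z ∈ X, lr M p B z :=
      Finset.sum_le_sum_of_subset (by
        intro z hz
        simp only [Finset.mem_insert, Finset.mem_singleton] at hz
        rcases hz with rfl | rfl
        exacts [hmem _ isPE_one, hmem _ hx])
    rw [Finset.sum_pair (hne x hx1)] at hle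
    omega

end H5.KlA
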