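import Mathlib

/-! Graded Lie rings (a biadditive bracket `b` on an abelian group): Kreknin's theorem `kreknin`,
the Kreknin-Kostrikin class bound `nil_of_der`, `Hig p h` (class bound for `ZMod p`-graded rings with
trivial zero component), `hig_gen`, `hig_three`, and the eigenspace form `hig_eigen`. -/

set_option autoImplicit false

namespace H5.Lie
open scoped Pointwise

universe u
variable {M : Type u} [AddCommGroup M] (b : M →+ M →+ M)

structure IsLie : Prop where
  anti : ∀ x y, b x y + b y x = 0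
  jac : ∀ x y z, b (b x y) z + b (b y z) x + b (b z x) y = 0

def br (A B : AddSubgroup M) : AddSubgroup M := AddSubgroup.closure {z | ∃ x ∈ A, ∃ y ∈ B, z = b x y}

def gam (S : AddSubgroup M) : ℕ → AddSubgroup M
  | 0 => S
  | n + 1 => br b (gam S n) S

variable {b} {A B C D : AddSubgroup M} {x y z : M}

theorem IsLie.anti' (h : IsLie b) (x y : M) : b x y = - b y x := eq_neg_of_add_eq_zero_left (h.anti x y)
theorem IsLie.leib (h : IsLie b) (x y z : M) : b x (b y z) = b (b x y) z - b (b x z) y := by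
  have := h.jac x y z
  rw [h.anti' (b y z) x, h.anti' z x, map_neg, AddMonoidHom.neg_apply] at this
  rw [← sub_eq_zero, ← neg_eq_zero, ← this]; abel

theorem mem_br (hx : x ∈ A) (hy : y ∈ B) : b x y ∈ br b A B := AddSubgroup.subset_closure ⟨x, hx, y, hy, rfl⟩
theorem br_le : br b A B ≤ C ↔ ∀ x ∈ A, ∀ y ∈ B, b x y ∈ C :=
  ⟨fun h _ hx _ hy => h (mem_br hx hy), fun h => (AddSubgroup.closure_le _).2 (by
    rintro _ ⟨x, hx, y, hy, rfl⟩; exact h x hx y hy)⟩
theorem br_mono (h1 : A ≤ C) (h2 : B ≤ D) : br b A B ≤ br b C D := br_le.2 fun _ hx _ hy => mem_br (h1 hx) (h2 hy)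

def lq (b : M →+ M →+ M) (B C : AddSubgroup M) : AddSubgroup M := ⨅ y ∈ B, C.comap (b.flip y)
def rq (b : M →+ M →+ M) (A C : AddSubgroup M) : AddSubgroup M := ⨅ x ∈ A, C.comap (b x)
theorem mem_lq : x ∈ lq b B C ↔ ∀ y ∈ B, b x y ∈ C := by simp [lq, AddSubgroup.mem_iInf]
theorem mem_rq : y ∈ rq b A C ↔ ∀ x ∈ A, b x y ∈ C := by simp [rq, AddSubgroup.mem_iInf]
theorem br_le_l : br b A B ≤ C ↔ A ≤ lq b B C := by
  rw [br_le]; exact ⟨fun h x hx => mem_lq.2 (h x hx), fun h x hx => mem_lq.1 (h hx)⟩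
theorem br_le_r : br b A B ≤ C ↔ B ≤ rq b A C := by
  rw [br_le]; exact ⟨fun h y hy => mem_rq.2 fun x hx => h x hx y hy, fun h x hx y hy => mem_rq.1 (h hy) x hx⟩
theorem br_iSup_le {ι κ : Sort*} {f : ι → AddSubgroup M} {g : κ → AddSubgroup M} (h : ∀ i j, br b (f i) (g j) ≤ C) :
    br b (⨆ i, f i) (⨆ j, g j) ≤ C :=
  br_le_l.2 (iSup_le fun i => br_le_l.1 (br_le_r.2 (iSup_le fun j => br_le_r.1 (h i j))))
theorem br_bot_l : br b ⊥ B = ⊥ := le_bot_iff.1 (br_le_l.2 bot_le)
theorem br_bot_r : br b A ⊥ = ⊥ := le_bot_iff.1 (br_le_r.2 bot_le)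
theorem br_br_le (h : IsLie b) (hA : br b A C ≤ A) (hB : br b B C ≤ B) : br b (br b A B) C ≤ br b A B :=
  br_le_l.2 (br_le.2 fun x hx y hy => mem_lq.2 fun z hz => by
    have : b (b x y) z = b x (b y z) + b (b x z) y := by rw [h.leib]; abel
    rw [this]; exact add_mem (mem_br hx (hB (mem_br hy hz))) (mem_br (hA (mem_br hx hz)) hy))

theorem gam_mono (h : A ≤ B) (n : ℕ) : gam b A n ≤ gam b B n := by
  induction n with
  | zero => exact h
  | succ n ih => exact br_mono ih h
theorem gam_inv (h : IsLie b) (hA : br b A C ≤ A) (n : ℕ) : br b (gam b A n) C ≤ gam b A n := by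
  induction n with
  | zero => exact hA
  | succ n ih => exact br_br_le h ih hA
theorem gam_le (hA : br b A A ≤ A) (n : ℕ) : gam b A n ≤ A := by
  induction n with
  | zero => exact le_rfl
  | succ n ih => exact (br_mono ih le_rfl).trans hA
theorem gam_add (n m : ℕ) : gam b A (n + m) = (fun V => br b V A)^[m] (gam b A n) := by
  induction m with
  | zero => rfl
  | succ m ih => rw [Function.iterate_succ_apply', ← ih]; rfl

section graded
variable {p : ℕ} {E N : ZMod p → AddSubgroup M}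

def Gr (b : M →+ M →+ M) (E : ZMod p → AddSubgroup M) : Prop := ∀ s t, br b (E s) (E t) ≤ E (s + t)

def dr (b : M →+ M →+ M) (E : ZMod p → AddSubgroup M) : ZMod p → AddSubgroup M :=
  fun u => ⨆ t, br b (E (u - t)) (E t)

theorem br_le_dr (s t : ZMod p) : br b (E s) (E t) ≤ dr b E (s + t) :=
  le_iSup_of_le t (by rw [add_sub_cancel_right])
theorem Gr.dr_le (h : Gr b E) (u : ZMod p) : dr b E u ≤ E u :=
  iSup_le fun t => (h _ _).trans (by rw [sub_add_cancel])
theorem Gr.dr (h : Gr b E) : Gr b (dr b E) := fun s t => (br_mono (h.dr_le s) (h.dr_le t)).trans (br_le_dr s t)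
theorem Gr.iter (h : Gr b E) (n : ℕ) : Gr b ((Lie.dr b)^[n] E) ∧ ∀ u, (Lie.dr b)^[n] E u ≤ E u := by
  induction n with
  | zero => exact ⟨h, fun _ => le_rfl⟩
  | succ n ih => rw [Function.iterate_succ_apply']; exact ⟨ih.1.dr, fun u => (ih.1.dr_le u).trans (ih.2 u)⟩

/-- the graded subring generated by the components of index `> k` -/
def gn (b : M →+ M →+ M) (k : ℕ) (E : ZMod p → AddSubgroup M) : ZMod p → AddSubgroup M :=
  fun u => ⨅ C : {C : ZMod p → AddSubgroup M // Gr b C ∧ ∀ t : ZMod p, k < t.val → E t ≤ C t}, C.1 u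

theorem gn_le {k : ℕ} (h1 : Gr b N) (h2 : ∀ t : ZMod p, k < t.val → E t ≤ N t) (u : ZMod p) : gn b k E u ≤ N u :=
  iInf_le_of_le ⟨N, h1, h2⟩ le_rfl
theorem le_gn {k : ℕ} {t : ZMod p} (h : k < t.val) : E t ≤ gn b k E t := le_iInf fun C => C.2.2 t h
theorem gr_gn {k : ℕ} : Gr b (gn b k E) := fun s t => le_iInf fun C =>
  (br_mono (iInf_le _ C) (iInf_le _ C)).trans (C.2.1 s t)

theorem br_gn_le (hL : IsLie b) (h : Gr b E) (k : ℕ) (s t : ZMod p) :
    br b (E s) (gn b k E t) ≤ ⨆ r : {r : ZMod p // k < r.val}, br b (E (s + t - r)) (E r) := by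
  set W : ZMod p → AddSubgroup M := fun u => ⨆ r : {r : ZMod p // k < r.val}, br b (E (u - r)) (E r) with hW
  have key : ∀ t, gn b k E t ≤ E t ⊓ ⨅ s, rq b (E s) (W (s + t)) := by
    refine gn_le (N := fun t => E t ⊓ ⨅ s, rq b (E s) (W (s + t))) (fun t u => br_le.2 fun y hy z hz => ?_)
      (fun t ht => le_inf le_rfl (le_iInf fun s => br_le_r.1 (le_iSup_of_le ⟨t, ht⟩ (by simp))))
    refine ⟨h _ _ (mem_br hy.1 hz.1), AddSubgroup.mem_iInf.2 fun s => mem_rq.2 fun x hx => ?_⟩
    have h1 := mem_rq.1 (AddSubgroup.mem_iInf.1 hz.2 (s + t)) _ (h _ _ (mem_br hx hy.1))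
    have h2 := mem_rq.1 (AddSubgroup.mem_iInf.1 hy.2 (s + u)) _ (h _ _ (mem_br hx hz.1))
    rw [hL.leib]
    refine sub_mem (by rwa [← add_assoc]) (by rwa [add_comm t, ← add_assoc])
  exact br_le_r.2 ((key t).trans (inf_le_right.trans (iInf_le _ s)))

theorem kre [NeZero p] (hL : IsLie b) (k : ℕ) : ∀ E : ZMod p → AddSubgroup M, Gr b E → E 0 = ⊥ →
    ∀ t, (dr b)^[2 ^ k - 1] E t ≤ gn b k E t := by
  induction k with
  | zero =>
    intro E _ h0 t
    rcases eq_or_ne t 0 with rfl | ht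
    · simp [h0]
    · exact le_gn (ZMod.val_pos.2 ht)
  | succ k ih =>
    intro E h h0 t
    have e : 2 ^ (k + 1) - 1 = (2 ^ k - 1) + ((2 ^ k - 1) + 1) := by have := Nat.one_le_two_pow (n := k); omega
    rw [e, Function.iterate_add_apply]
    have hM := h.iter (2 ^ k - 1 + 1)
    refine (ih _ hM.1 (le_bot_iff.1 ((hM.2 0).trans h0.le)) t).trans (gn_le gr_gn (fun t ht => ?_) t)
    rcases (Nat.succ_le_of_lt ht).lt_or_eq with ht | ht
    · exact (hM.2 t).trans (le_gn ht)
    rw [Function.iterate_succ_apply']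
    refine iSup_le fun s => (br_mono ((h.iter _).2 _) (ih E h h0 s)).trans ((br_gn_le hL h k _ _).trans (iSup_le ?_))
    rintro ⟨r, hr⟩
    rw [sub_add_cancel]
    rcases (Nat.succ_le_of_lt hr).lt_or_eq with hr' | hr'
    · have : k + 1 < (t - r).val := by
        have h1 := ZMod.val_add (t - r) r
        have h2 := ZMod.val_lt r
        have h3 := ZMod.val_lt (t - r)
        rw [sub_add_cancel, ← ht] at h1
        rcases lt_or_ge ((t - r).val + r.val) p with h4 | h4
        · rw [Nat.mod_eq_of_lt h4] at h1; omega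
        · rw [Nat.mod_eq_sub_mod h4, Nat.mod_eq_of_lt (by omega)] at h1; omega
      exact (br_mono (le_gn this) (le_gn hr')).trans ((gr_gn _ _).trans (by rw [sub_add_cancel]))
    · have : t = r := ZMod.val_injective _ (ht.symm.trans hr')
      simp [this, h0, br_bot_l]

theorem kreknin [NeZero p] (hL : IsLie b) (h : Gr b E) (h0 : E 0 = ⊥) (t : ZMod p) : (dr b)^[2 ^ (p - 1) - 1] E t = ⊥ :=
  le_bot_iff.1 ((kre hL _ E h h0 t).trans (gn_le (N := fun _ => ⊥) (fun _ _ => br_bot_l.le)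
    (fun t ht => by have := ZMod.val_lt t; omega) t))

theorem der_le_dr (n : ℕ) : (fun A => br b A A)^[n] (⨆ t, E t) ≤ ⨆ t, (dr b)^[n] E t := by
  induction n with
  | zero => exact le_rfl
  | succ n ih =>
    rw [Function.iterate_succ_apply', Function.iterate_succ_apply']
    exact (br_mono ih ih).trans (br_iSup_le fun s t => le_iSup_of_le (s + t) (br_le_dr s t))

def Hom (E : ZMod p → AddSubgroup M) (A : AddSubgroup M) : Prop := A ≤ ⨆ u, A ⊓ E u

theorem Hom.br (h : Gr b E) (hA : Hom E A) (hB : Hom E B) : Hom E (br b A B) :=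
  (br_mono hA hB).trans (br_iSup_le fun s t => le_iSup_of_le (s + t)
    (le_inf (br_mono inf_le_left inf_le_left) ((br_mono inf_le_right inf_le_right).trans (h s t))))
theorem Hom.gam (h : Gr b E) (hA : Hom E A) (n : ℕ) : Hom E (gam b A n) := by
  induction n with
  | zero => exact hA
  | succ n ih => exact ih.br h hA

def ev (b : M →+ M →+ M) : List (ZMod p × M) → M →+ M
  | [] => AddMonoidHom.id M
  | q :: l => (ev b l).comp (b.flip q.2)

theorem ev_cons (q : ZMod p × M) (l : List (ZMod p × M)) (x : M) : ev b (q :: l) x = ev b l (b x q.2) := rfl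

def sums : List (ZMod p × M) → Finset (ZMod p)
  | [] => {0}
  | q :: l => {0, q.1} + sums l

theorem sums_card (hp : p.Prime) (l : List (ZMod p × M)) (h : ∀ q ∈ l, q.1 ≠ 0) :
    min p (l.length + 1) ≤ (sums l).card := by
  induction l with
  | nil => simp [sums]
  | cons q l ih =>
    have h1 := ih fun r hr => h r (List.mem_cons_of_mem _ hr)
    have h2 := ZMod.cauchy_davenport hp (s := {0, q.1}) (t := sums l) (by simp)
      (Finset.card_pos.1 (by have := hp.pos; omega))
    rw [Finset.card_pair (h q List.mem_cons_self).symm] at h2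
    simp only [sums, List.length_cons]
    omega

section metab
variable {V W : AddSubgroup M} {l : List (ZMod p × M)}

theorem ev_mem (hW : br b W A ≤ W) (hl : ∀ q ∈ l, q.2 ∈ A ⊓ E q.1) (hx : x ∈ W) : ev b l x ∈ W := by
  induction l generalizing x with
  | nil => exact hx
  | cons q l ih =>
    exact ih (fun r hr => hl r (List.mem_cons_of_mem _ hr)) (hW (mem_br hx (hl q List.mem_cons_self).1))

theorem ev_swap (hL : IsLie b) (hV : br b V A ≤ V) (hW : br b W A ≤ W) (hVW : br b V (br b A A) ≤ W)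
    (hl : ∀ q ∈ l, q.2 ∈ A ⊓ E q.1) (hx : x ∈ V) (hy : y ∈ A) : ev b l (b x y) - b (ev b l x) y ∈ W := by
  induction l generalizing x with
  | nil => simp [ev]
  | cons q l ih =>
    have hq := (hl q List.mem_cons_self).1
    have hl' := fun r hr => hl r (List.mem_cons_of_mem _ hr)
    have h1 := ih hl' (hV (mem_br hx hq))
    have h2 := ev_mem hW hl' (hVW (mem_br hx (mem_br hy hq)))
    rw [hL.leib, map_sub] at h2
    rw [ev_cons, ev_cons]
    simpa using add_mem h2 h1

theorem ev_of_sums (hL : IsLie b) (h : Gr b E) (h0 : E 0 = ⊥) (hV : br b V A ≤ V) (hW : br b W A ≤ W)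
    (hVW : br b V (br b A A) ≤ W) (hl : ∀ q ∈ l, q.2 ∈ A ⊓ E q.1) {u : ZMod p} (hx : x ∈ V ⊓ E u)
    (hu : -u ∈ sums l) : ev b l x ∈ W := by
  induction l generalizing x u with
  | nil =>
    have : u = 0 := by simpa [sums] using hu
    have h1 := hx.2
    rw [this, h0] at h1
    rw [AddSubgroup.mem_bot.1 h1, map_zero]; exact zero_mem _
  | cons q l ih =>
    have hq := hl q List.mem_cons_self
    have hl' := fun r hr => hl r (List.mem_cons_of_mem _ hr)
    obtain ⟨c, hc, d, hd, e⟩ := Finset.mem_add.1 hu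
    rw [ev_cons]
    rcases Finset.mem_insert.1 hc with rfl | hc
    · have h1 := ih hl' hx (by rw [← e, zero_add]; exact hd)
      simpa using add_mem (ev_swap hL hV hW hVW hl' hx.1 hq.1) (hW (mem_br h1 hq.1))
    · refine ih hl' (u := u + q.1) ⟨hV (mem_br hx.1 hq.1), h _ _ (mem_br hx.2 hq.2)⟩ ?_
      rw [Finset.mem_singleton.1 hc] at e
      rw [neg_add, ← e]; simpa using hd

theorem ev_zero (h0 : E 0 = ⊥) (hl : ∀ q ∈ l, q.2 ∈ A ⊓ E q.1) (h : ∃ q ∈ l, q.1 = 0) : ev b l x = 0 := by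
  induction l generalizing x with
  | nil => simp at h
  | cons q l ih =>
    obtain ⟨r, hr, e⟩ := h
    rw [ev_cons]
    rcases List.mem_cons.1 hr with rfl | hr
    · have := (hl r List.mem_cons_self).2
      rw [e, h0] at this
      rw [AddSubgroup.mem_bot.1 this, map_zero, map_zero]
    · exact ih (fun r hr => hl r (List.mem_cons_of_mem _ hr)) ⟨r, hr, e⟩

theorem iter_le (hA : Hom E A) (m : ℕ) : ∀ V : AddSubgroup M,
    (∀ l : List (ZMod p × M), l.length = m → (∀ q ∈ l, q.2 ∈ A ⊓ E q.1) → V ≤ W.comap (ev b l)) →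
    (fun V => br b V A)^[m] V ≤ W := by
  induction m with
  | zero => exact fun V h => h [] rfl (by simp)
  | succ m ih =>
    intro V h
    refine ih _ fun l hl hq => (br_mono le_rfl hA).trans (br_le_r.2 (iSup_le fun t => br_le_r.1 (br_le.2 fun x hx y hy => ?_)))
    exact h ((t, y) :: l) (by simp [hl]) (by simpa using ⟨hy, by simpa using hq⟩) hx

theorem meta_step (hp : p.Prime) (hL : IsLie b) (h : Gr b E) (h0 : E 0 = ⊥) (hA : Hom E A) (hVh : Hom E V)
    (hV : br b V A ≤ V) (hW : br b W A ≤ W) (hVW : br b V (br b A A) ≤ W) : (fun V => br b V A)^[p - 1] V ≤ W := by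
  haveI : NeZero p := ⟨hp.ne_zero⟩
  refine iter_le hA _ _ fun l hl hq => hVh.trans (iSup_le fun u x hx => ?_)
  by_cases h1 : ∃ q ∈ l, q.1 = 0
  · show ev b l x ∈ W
    rw [ev_zero h0 hq h1]; exact zero_mem _
  push Not at h1
  have h2 := sums_card hp l h1
  have : sums l = Finset.univ := Finset.eq_univ_of_card _ (le_antisymm (Finset.card_le_univ _) (by
    rw [ZMod.card]; have := hp.pos; omega))
  exact ev_of_sums hL h h0 hV hW hVW hq hx (by simp [this])

end metab

theorem iter_mono {V W : AddSubgroup M} (h : V ≤ W) (m : ℕ) : (fun V => br b V A)^[m] V ≤ (fun V => br b V A)^[m] W :=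
  Monotone.iterate (f := fun V => br b V A) (fun _ _ h => br_mono h le_rfl) m h

theorem nil_of_der (hp : p.Prime) (hL : IsLie b) (h : Gr b E) (h0 : E 0 = ⊥) (s : ℕ) : ∀ A : AddSubgroup M, Hom E A →
    br b A A ≤ A → (fun A => br b A A)^[s] A = ⊥ → gam b A (∑ i ∈ Finset.range s, (p - 1) ^ i) = ⊥ := by
  induction s with
  | zero => exact fun A _ _ h => h
  | succ s ih =>
    intro A hA hc hd
    have h1 := ih _ (hA.br h hA) (br_mono hc hc) hd
    have hi : br b (br b A A) A ≤ br b A A := br_mono hc le_rfl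
    have key : ∀ i, gam b A (1 + (p - 1) * i) ≤ gam b (br b A A) i := by
      intro i
      induction i with
      | zero => exact le_rfl
      | succ i ih =>
        rw [mul_add_one, ← add_assoc, gam_add]
        exact (iter_mono ih _).trans (meta_step hp hL h h0 hA ((hA.br h hA).gam h i) (gam_inv hL hi i)
          (gam_inv hL hi (i + 1)) le_rfl)
    rw [Finset.sum_range_succ', pow_zero, add_comm]
    simp_rw [pow_succ']
    rw [← Finset.mul_sum]
    exact le_bot_iff.1 ((key _).trans h1.le)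

end graded

/-- `h` bounds the class of every `ZMod p`-graded Lie ring with trivial zero component -/
def Hig (p h : ℕ) : Prop := ∀ (M : Type u) [AddCommGroup M] (b : M →+ M →+ M) (E : ZMod p → AddSubgroup M),
  IsLie b → Gr b E → E 0 = ⊥ → gam b (⨆ t, E t) h = ⊥

theorem hig_gen {p : ℕ} (hp : p.Prime) : Hig.{u} p (∑ i ∈ Finset.range (2 ^ (p - 1) - 1), (p - 1) ^ i) := by
  intro M _ b E hL h h0
  haveI : NeZero p := ⟨hp.ne_zero⟩
  refine nil_of_der hp hL h h0 _ _ (iSup_le fun t => le_iSup_of_le t (le_inf (le_iSup E t) le_rfl))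
    (br_iSup_le fun s t => le_iSup_of_le (s + t) (h s t)) (le_bot_iff.1 ((der_le_dr _).trans ?_))
  exact iSup_le fun t => (kreknin hL h h0 t).le

theorem hig_three : Hig.{u} 3 2 := by
  intro M _ b E hL h h0
  have z : ∀ {s t x y}, x ∈ E s → y ∈ E t → s = 0 ∨ t = 0 ∨ s + t = 0 → b x y = 0 := by
    intro s t x y hx hy e
    rcases e with rfl | rfl | e
    · rw [h0] at hx; simp [AddSubgroup.mem_bot.1 hx]
    · rw [h0] at hy; simp [AddSubgroup.mem_bot.1 hy]
    · have := h _ _ (mem_br hx hy); rw [e, h0] at this; exact this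
  refine le_bot_iff.1 (br_le_l.2 (br_iSup_le fun s t => br_le.2 fun x hx y hy => ?_))
  refine mem_lq.2 fun w hw => (iSup_le fun u w hw => ?_ : (⨆ t, E t) ≤ (⊥ : AddSubgroup M).comap (b (b x y))) hw
  show b (b x y) w = 0
  have : (s = 0 ∨ t = 0 ∨ s + t = 0) ∨ (s + t = 0 ∨ u = 0 ∨ s + t + u = 0) ∨
      ((t = 0 ∨ u = 0 ∨ t + u = 0) ∧ (u = 0 ∨ s = 0 ∨ u + s = 0)) := by clear hx hy hw; revert s t u; decide
  rcases this with e | e | e
  · simp [z hx hy e]
  · exact z (h _ _ (mem_br hx hy)) hw e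
  · simpa [z hy hw e.1, z hw hx e.2] using hL.jac x y w

theorem exists_quo (J : AddSubgroup M) (anti : ∀ x y, b x y + b y x ∈ J) (hl : ∀ x ∈ J, ∀ y, b x y ∈ J) :
    ∃ c : M ⧸ J →+ M ⧸ J →+ M ⧸ J, ∀ x y : M, c x y = (b x y : M) := by
  have hr : ∀ x, ∀ y ∈ J, b x y ∈ J := fun x y hy => by simpa using sub_mem (anti x y) (hl y hy x)
  let c1 : M →+ M ⧸ J →+ M ⧸ J :=
    { toFun := fun x => QuotientAddGroup.map J J (b x) (fun y hy => hr x y hy)
      map_zero' := by ext; simp
      map_add' := fun x y => by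
        ext z
        show ((b (x + y) z : M) : M ⧸ J) = ((b x z : M) : M ⧸ J) + ((b y z : M) : M ⧸ J)
        rw [map_add, AddMonoidHom.add_apply, QuotientAddGroup.mk_add] }
  refine ⟨QuotientAddGroup.lift J c1 fun x hx => ?_, fun x y => rfl⟩
  ext y
  exact (QuotientAddGroup.eq_zero_iff _).2 (hl x hx y)

theorem gam_map_le {N : Type u} [AddCommGroup N] {c : N →+ N →+ N} (f : M →+ N) (hf : ∀ x y, f (b x y) = c (f x) (f y))
    (n : ℕ) : gam b A n ≤ (gam c (A.map f) n).comap f := by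
  induction n with
  | zero => exact AddSubgroup.le_comap_map _ _
  | succ n ih =>
    refine br_le.2 fun x hx y hy => ?_
    rw [AddSubgroup.mem_comap, hf]; exact mem_br (ih hx) (AddSubgroup.mem_map_of_mem _ hy)

theorem Hig.mod {p h : ℕ} (hH : Hig.{u} p h) (hL : IsLie b) {E : ZMod p → AddSubgroup M} (hE : Gr b E) (J : AddSubgroup M)
    (hl : ∀ x ∈ J, ∀ y, b x y ∈ J) (h0 : E 0 ≤ J) : gam b (⨆ t, E t) h ≤ J := by
  obtain ⟨c, hc⟩ := exists_quo J (fun x y => by rw [hL.anti]; exact zero_mem _) hl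
  have := hH _ c (fun t => (E t).map (QuotientAddGroup.mk' J)) ⟨fun x y => ?_, fun x y z => ?_⟩ (fun s t => br_le.2 ?_) ?_
  · refine (gam_map_le (c := c) (QuotientAddGroup.mk' J) (fun x y => (hc x y).symm) h).trans ?_
    rw [AddSubgroup.map_iSup, this, AddMonoidHom.comap_bot, QuotientAddGroup.ker_mk']
  · obtain ⟨x, rfl⟩ := QuotientAddGroup.mk_surjective x
    obtain ⟨y, rfl⟩ := QuotientAddGroup.mk_surjective y
    rw [hc, hc, ← QuotientAddGroup.mk_add, hL.anti]; rfl
  · obtain ⟨x, rfl⟩ := QuotientAddGroup.mk_surjective x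
    obtain ⟨y, rfl⟩ := QuotientAddGroup.mk_surjective y
    obtain ⟨z, rfl⟩ := QuotientAddGroup.mk_surjective z
    simp only [hc]
    rw [← QuotientAddGroup.mk_add, ← QuotientAddGroup.mk_add, hL.jac]; rfl
  · rintro _ ⟨x, hx, rfl⟩ _ ⟨y, hy, rfl⟩
    exact ⟨b x y, hE _ _ (mem_br hx hy), (hc x y).symm⟩
  · rw [AddSubgroup.map_eq_bot_iff, QuotientAddGroup.ker_mk']; exact h0

/-- eigenspace form: `W` is multiplication by powers of a root of unity, `T` an action of `ZMod p` -/
theorem hig_eigen {p h e : ℕ} [Fact p.Prime] (hH : Hig.{u} p h) (hL : IsLie b) (W T : ZMod p → M →+ M)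
    (W0 : ∀ x, W 0 x = x) (Wa : ∀ s t x, W (s + t) x = W s (W t x)) (Ws : ∀ x, ∑ s, W s x = 0)
    (T0 : ∀ x, T 0 x = x) (Ta : ∀ s t x, T (s + t) x = T s (T t x)) (TW : ∀ s t x, T s (W t x) = W t (T s x))
    (bW : ∀ s t x y, b (W s x) (W t y) = W (s + t) (b x y)) (bT : ∀ s x y, b (T s x) (T s y) = T s (b x y))
    (he : ∀ x, e • ∑ s, T s x = 0) : ∀ x ∈ gam b ⊤ h, (p ^ (h + 2) * e) • x = 0 := by
  let E : ZMod p → AddSubgroup M := fun t => ⨅ k, (T k - W (t * k)).ker
  have mE : ∀ {t x}, x ∈ E t ↔ ∀ k, T k x = W (t * k) x := by simp [E, AddSubgroup.mem_iInf, sub_eq_zero]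
  have hE : Gr b E := fun s t => br_le.2 fun x hx y hy => mE.2 fun k => by
    rw [← bT, mE.1 hx, mE.1 hy, bW, add_mul]
  let J : AddSubgroup M := (nsmulAddMonoidHom (p * e)).ker
  have mJ : ∀ {x}, x ∈ J ↔ (p * e) • x = 0 := Iff.rfl
  have h1 := hH.mod hL hE J (fun x hx y => mJ.2 (by rw [← AddMonoidHom.nsmul_apply, ← map_nsmul, mJ.1 hx]; simp))
    (fun x hx => mJ.2 (by
      have := he x
      simp only [mE.1 hx, zero_mul, W0, Finset.sum_const, Finset.card_univ, ZMod.card] at this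
      rw [mul_comm, mul_nsmul', this]))
  have hS : ∀ x, p • x ∈ ⨆ t, E t := by
    intro x
    have e1 : p • x = ∑ t, ∑ k, W (-(t * k)) (T k x) := by
      rw [Finset.sum_comm, Finset.sum_eq_single 0]
      · simp [W0, T0]
      · intro k _ hk
        rw [← Ws (T k x)]
        exact Fintype.sum_equiv ((Equiv.mulRight₀ k hk).trans (Equiv.neg _)) _ _ fun _ => rfl
      · simp
    rw [e1]
    refine sum_mem fun t _ => le_iSup E t (mE.2 fun l => ?_)
    rw [map_sum, map_sum]
    refine Fintype.sum_equiv (Equiv.addLeft l) _ _ fun k => ?_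
    rw [TW, ← Ta, ← Wa]
    simp only [Equiv.coe_addLeft]
    congr 2; ring
  have key : ∀ n, gam b ⊤ n ≤ (gam b (⨆ t, E t) n).comap (nsmulAddMonoidHom (p ^ (n + 1))) := by
    intro n
    induction n with
    | zero => intro x _; simpa [gam] using hS x
    | succ n ih =>
      refine br_le.2 fun x hx y _ => ?_
      have := mem_br (b := b) (AddSubgroup.mem_comap.1 (ih hx)) (hS y)
      simp only [nsmulAddMonoidHom_apply, map_nsmul, AddMonoidHom.nsmul_apply, ← mul_nsmul] at this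
      rw [AddSubgroup.mem_comap, nsmulAddMonoidHom_apply, pow_succ]
      exact this
  intro x hx
  have := mJ.1 (h1 (key h hx))
  rw [nsmulAddMonoidHom_apply, ← mul_nsmul] at this
  rw [← this]; congr 1; ring

end H5.Lie
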