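import Cfsg.Agent.H5.Lie1
import Cfsg.Agent.H3.Petrescu

/-! The Lie ring of the lower central series of a subgroup `H`, with scalars extended by a `p`-th root of unity,
and the transfer theorem `H5.Lie.pow_mem_lcs`: a Higman bound `Hig p h` bounds the exponent of the
lower central factors of `H` from `h` on in terms of the exponent of the fixed points of an action of `ZMod p`. -/

set_option autoImplicit false

namespace H5.Lie
open Subgroup
open scoped commutatorElement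

universe u
variable {G : Type u} [Group G] {p : ℕ} [Fact p.Prime] {H : Subgroup G}

local notation "γ" => Subgroup.lowerCentralSeries H

theorem cm {i j n : ℕ} {g u : G} (hg : g ∈ γ i) (hu : u ∈ γ j) (h : n ≤ i + j + 1) : ⁅g, u⁆ ∈ γ n :=
  H.lowerCentralSeries_antitone h (H3.comm_lcs_le j i (commutator_mem_commutator hg hu))
theorem dn {i : ℕ} {g : G} (hg : g ∈ γ (i + 1)) : g ∈ γ i := H.lowerCentralSeries_antitone i.le_succ hg

abbrev FF (p : ℕ) (H : Subgroup G) := FreeAbelianGroup {q : ZMod p × ℕ × G // q.2.2 ∈ H.lowerCentralSeries q.2.1}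

open Classical in
noncomputable def o' (H : Subgroup G) (k : ZMod p) (i : ℕ) (g : G) : FF p H :=
  if h : g ∈ H.lowerCentralSeries i then FreeAbelianGroup.of ⟨(k, i, g), h⟩ else 0

def II (p : ℕ) [Fact p.Prime] (H : Subgroup G) : AddSubgroup (FF p H) := AddSubgroup.closure
  {z | (∃ k i g h, g ∈ H.lowerCentralSeries i ∧ h ∈ H.lowerCentralSeries i ∧ z = o' H k i (g * h) - (o' H k i g + o' H k i h)) ∨
    (∃ k i g, g ∈ H.lowerCentralSeries (i + 1) ∧ z = o' H k i g) ∨
    (∃ i g, g ∈ H.lowerCentralSeries i ∧ z = ∑ k, o' H k i g)}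

abbrev LL (p : ℕ) [Fact p.Prime] (H : Subgroup G) := FF p H ⧸ II p H

noncomputable def o (H : Subgroup G) (k : ZMod p) (i : ℕ) (g : G) : LL p H := QuotientAddGroup.mk' (II p H) (o' H k i g)

variable {k l : ZMod p} {i j : ℕ} {g h u : G}

theorem o_mul (hg : g ∈ γ i) (hh : h ∈ γ i) : o H k i (g * h) = o H k i g + o H k i h := by
  rw [o, o, o, ← map_add, ← sub_eq_zero, ← map_sub]
  exact (QuotientAddGroup.eq_zero_iff _).2 (AddSubgroup.subset_closure (Or.inl ⟨k, i, g, h, hg, hh, rfl⟩))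
theorem o_zero (hg : g ∈ γ (i + 1)) : o H k i g = 0 :=
  (QuotientAddGroup.eq_zero_iff _).2 (AddSubgroup.subset_closure (Or.inr (Or.inl ⟨k, i, g, hg, rfl⟩)))
theorem o_sum (hg : g ∈ γ i) : ∑ k : ZMod p, o H k i g = 0 := by
  simp only [o]
  rw [← map_sum]
  exact (QuotientAddGroup.eq_zero_iff _).2 (AddSubgroup.subset_closure (Or.inr (Or.inr ⟨i, g, hg, rfl⟩)))
theorem o_one : o H k i 1 = 0 := o_zero (one_mem _)
theorem o_inv (hg : g ∈ γ i) : o H k i g⁻¹ = - o H k i g :=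
  eq_neg_of_add_eq_zero_left (by rw [← o_mul (inv_mem hg) hg, inv_mul_cancel, o_one])
theorem o_pow (hg : g ∈ γ i) (n : ℕ) : o H k i (g ^ n) = n • o H k i g := by
  induction n with
  | zero => simp [o_one]
  | succ n ih => rw [pow_succ, o_mul (pow_mem hg n) hg, ih, succ_nsmul]

theorem o_lift {A : Type u} [AddCommGroup A] (f : ZMod p → ℕ → G → A)
    (h1 : ∀ k i g h, g ∈ γ i → h ∈ γ i → f k i (g * h) = f k i g + f k i h) (h2 : ∀ k i g, g ∈ γ (i + 1) → f k i g = 0)
    (h3 : ∀ i g, g ∈ γ i → ∑ k, f k i g = 0) : ∃ φ : LL p H →+ A, ∀ k i g, g ∈ γ i → φ (o H k i g) = f k i g := by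
  let ψ : FF p H →+ A := FreeAbelianGroup.lift fun q => f q.1.1 q.1.2.1 q.1.2.2
  have e : ∀ k i g, g ∈ γ i → ψ (o' H k i g) = f k i g := fun k i g hg => by simp [o', hg, ψ]
  refine ⟨QuotientAddGroup.lift _ ψ ((AddSubgroup.closure_le ψ.ker).2 ?_), e⟩
  rintro _ (⟨k, i, g, h, hg, hh, rfl⟩ | ⟨k, i, g, hg, rfl⟩ | ⟨i, g, hg, rfl⟩) <;> refine AddMonoidHom.mem_ker.2 ?_
  · rw [map_sub, map_add, e _ _ _ hg, e _ _ _ hh, e _ _ _ (mul_mem hg hh), h1 _ _ _ _ hg hh, sub_self]
  · rw [e _ _ _ (dn hg), h2 _ _ _ hg]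
  · rw [map_sum]; simp only [e _ _ _ hg, h3 _ _ hg]

theorem o_ext {A : Type u} [AddCommGroup A] {φ ψ : LL p H →+ A} (h : ∀ k i g, g ∈ γ i → φ (o H k i g) = ψ (o H k i g)) :
    φ = ψ := by
  ext ⟨⟨k, i, g⟩, hg⟩
  simpa [o, o', hg] using h k i g hg
theorem o_ind {A : Type u} [AddCommGroup A] (f : LL p H → A) (hf : ∀ x y, f (x + y) = f x + f y)
    (h : ∀ k i g, g ∈ γ i → f (o H k i g) = 0) (x : LL p H) : f x = 0 :=
  DFunLike.congr_fun (o_ext (φ := AddMonoidHom.mk' f hf) (ψ := 0) h) x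

theorem o_anti (hg : g ∈ γ i) (hu : u ∈ γ j) : o H k (i + j + 1) ⁅g, u⁆ = - o H k (j + i + 1) ⁅u, g⁆ := by
  rw [← o_inv (cm hu hg le_rfl), commutatorElement_inv, add_comm i]
theorem o_cl (hg : g ∈ γ i) (hh : h ∈ γ i) (hu : u ∈ γ j) :
    o H k (i + j + 1) ⁅g * h, u⁆ = o H k (i + j + 1) ⁅g, u⁆ + o H k (i + j + 1) ⁅h, u⁆ := by
  have e : ⁅g * h, u⁆ = ⁅g, ⁅h, u⁆⁆ * (⁅h, u⁆ * ⁅g, u⁆) := by simp only [commutatorElement_def]; group
  have h1 := cm hg (cm hh hu le_rfl) (n := i + j + 1 + 1) (by omega)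
  have h2 := cm hg hu le_rfl
  have h3 := cm hh hu le_rfl
  rw [e, o_mul (dn h1) (mul_mem h3 h2), o_zero h1, o_mul h3 h2, zero_add, add_comm]
theorem o_cr (hg : g ∈ γ i) (hh : h ∈ γ i) (hu : u ∈ γ j) :
    o H k (j + i + 1) ⁅u, g * h⁆ = o H k (j + i + 1) ⁅u, g⁆ + o H k (j + i + 1) ⁅u, h⁆ := by
  rw [o_anti hu hg, o_anti hu hh, o_anti hu (mul_mem hg hh), o_cl hg hh hu, neg_add]

theorem exists_br : ∃ b : LL p H →+ LL p H →+ LL p H, ∀ k i g l j u,
    g ∈ H.lowerCentralSeries i → u ∈ H.lowerCentralSeries j → b (o H k i g) (o H l j u) = o H (k + l) (i + j + 1) ⁅g, u⁆ := by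
  classical
  have h1 : ∀ (k : ZMod p) i g, ∃ R : LL p H →+ LL p H, g ∈ γ i → ∀ l j u, u ∈ γ j →
      R (o H l j u) = o H (k + l) (i + j + 1) ⁅g, u⁆ := by
    intro k i g
    by_cases hg : g ∈ γ i
    · obtain ⟨R, hR⟩ := o_lift (H := H) (fun l j u => o H (k + l) (i + j + 1) ⁅g, u⁆) (fun l j u v hu hv => o_cr hu hv hg)
        (fun l j u hu => o_zero (cm hg hu (by omega))) (fun j u hu => by
          rw [← o_sum (p := p) (cm hg hu le_rfl)]; exact Fintype.sum_equiv (Equiv.addLeft k) _ _ fun _ => rfl)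
      exact ⟨R, fun _ => hR⟩
    · exact ⟨0, fun h => absurd h hg⟩
  choose R hR using h1
  obtain ⟨b, hb⟩ := o_lift (H := H) R (fun k i g h hg hh => o_ext fun l j u hu => by
      rw [AddMonoidHom.add_apply, hR _ _ _ hg _ _ _ hu, hR _ _ _ hh _ _ _ hu, hR _ _ _ (mul_mem hg hh) _ _ _ hu, o_cl hg hh hu])
    (fun k i g hg => o_ext fun l j u hu => by rw [hR _ _ _ (dn hg) _ _ _ hu, o_zero (cm hg hu (by omega))]; rfl)
    (fun i g hg => o_ext fun l j u hu => by
      rw [AddMonoidHom.finsetSum_apply, AddMonoidHom.zero_apply, ← o_sum (p := p) (cm hg hu le_rfl)]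
      exact Fintype.sum_equiv (Equiv.addRight l) _ _ fun k => hR _ _ _ hg _ _ _ hu)
  exact ⟨b, fun k i g l j u hg hu => by rw [hb _ _ _ hg, hR _ _ _ hg _ _ _ hu]⟩

theorem o_jac {n : ℕ} (hg : g ∈ γ i) (hh : h ∈ γ j) (hu : u ∈ γ n) : o H k (i + j + n + 2) ⁅⁅g, h⁆, u⁆ +
    o H k (i + j + n + 2) ⁅⁅h, u⁆, g⁆ + o H k (i + j + n + 2) ⁅⁅u, g⁆, h⁆ = 0 := by
  have key : ∀ {i j n m : ℕ} {g h u : G}, g ∈ γ i → h ∈ γ j → u ∈ γ n → m = i + j + n + 2 →
      ⁅⁅g, h⁆, ⁅h, u⁆ * u⁆ ∈ γ m ∧ o H k m ⁅⁅g, h⁆, ⁅h, u⁆ * u⁆ = o H k m ⁅⁅g, h⁆, u⁆ := by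
    intro i j n m g h u hg hh hu e
    have h1 := cm hh hu (n := n + 1) (by omega)
    have h2 := cm hg hh le_rfl
    obtain rfl : m = i + j + 1 + n + 1 := by omega
    exact ⟨cm h2 (mul_mem (dn h1) hu) le_rfl, by rw [o_cr (dn h1) hu h2, o_zero (cm h2 h1 (by omega)), zero_add]⟩
  have a := key hg hh hu rfl
  have b := key hh hu hg (m := i + j + n + 2) (by omega)
  have c := key hu hg hh (m := i + j + n + 2) (by omega)
  rw [← a.2, ← b.2, ← c.2, ← o_mul a.1 b.1, ← o_mul (mul_mem a.1 b.1) c.1, ← o_one (H := H) (k := k) (i := i + j + n + 2)]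
  congr 1
  simp only [commutatorElement_def]; group

theorem exists_sec (i : ℕ) : ∃ (A : Type u) (_ : AddCommGroup A) (q : G → A),
    (∀ g h, g ∈ γ i → h ∈ γ i → q (g * h) = q g + q h) ∧ ∀ g, g ∈ γ i → (q g = 0 ↔ g ∈ γ (i + 1)) := by
  classical
  haveI : ((γ (i + 1)).subgroupOf (γ i)).Normal := ⟨fun x hx y => by
    have := mul_mem (cm y.2 (show (x : G) ∈ γ (i + 1) from hx) (n := i + 1) (by omega)) (show (x : G) ∈ γ (i + 1) from hx)
    simpa [mem_subgroupOf, commutatorElement_def] using this⟩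
  letI : CommGroup (γ i ⧸ (γ (i + 1)).subgroupOf (γ i)) :=
    { (inferInstance : Group (γ i ⧸ (γ (i + 1)).subgroupOf (γ i))) with
      mul_comm := fun a b => by
        obtain ⟨a, rfl⟩ := QuotientGroup.mk_surjective a
        obtain ⟨b, rfl⟩ := QuotientGroup.mk_surjective b
        rw [← QuotientGroup.mk_mul, ← QuotientGroup.mk_mul, QuotientGroup.eq]
        simpa [mem_subgroupOf, commutatorElement_def, mul_assoc] using cm (inv_mem b.2) (inv_mem a.2) (n := i + 1) (by omega) }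
  refine ⟨Additive (γ i ⧸ (γ (i + 1)).subgroupOf (γ i)), Additive.addCommGroup, fun g =>
    if h : g ∈ γ i then Additive.ofMul (QuotientGroup.mk ⟨g, h⟩) else 0, fun g h hg hh => ?_, fun g hg => ?_⟩
  · simp only [dif_pos hg, dif_pos hh, dif_pos (mul_mem hg hh)]; rfl
  · simp only [dif_pos hg]
    exact (QuotientGroup.eq_one_iff (N := (γ (i + 1)).subgroupOf (γ i)) ⟨g, hg⟩)

theorem mem_of_o (hg : g ∈ γ i) (h : o H (0 : ZMod p) i g = 0) : g ∈ γ (i + 1) := by
  classical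
  obtain ⟨A, _, q, q1, q2⟩ := exists_sec (H := H) i
  obtain ⟨φ, hφ⟩ := o_lift (p := p) (H := H)
    (fun k j g => if j = i then (if k = 0 then q g else 0) - (if k = 1 then q g else 0) else 0)
    (fun k j x y hx hy => by
      by_cases e : j = i
      · subst e; simp only [q1 x y hx hy, if_true]; split_ifs <;> abel
      · simp [e])
    (fun k j g hg' => by
      by_cases e : j = i
      · subst e; simp [(q2 g (dn hg')).2 hg']
      · simp [e])
    (fun j g hg => by by_cases e : j = i <;> simp [e])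
  have := hφ 0 i g hg
  rw [h, map_zero] at this
  exact (q2 g hg).1 (by simpa using this.symm)

theorem pow_mem_lcs {n e : ℕ} (hH : Hig.{u} p n) (c : ZMod p → G) (c0 : c 0 = 1) (ca : ∀ s t, c (s + t) = c s * c t)
    (cn : ∀ s, c s ∈ normalizer (H : Set G))
    (he : ∀ i, ∀ g ∈ γ i, (∀ s, ⁅c s, g⁆ ∈ γ (i + 1)) → g ^ e ∈ γ (i + 1)) (hi : n ≤ i) (hg : g ∈ γ i) :
    g ^ (p ^ (n + 2) * e) ∈ γ (i + 1) := by
  obtain ⟨b, hb⟩ := exists_br (p := p) (H := H)
  have cj : ∀ s {i g}, g ∈ γ i → c s * g * (c s)⁻¹ ∈ γ i := fun s i g hg =>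
    (mem_normalizer_iff.1 (H3.norm_lcs (K := normalizer (H : Set G)) le_rfl i (cn s)) g).1 hg
  have hL : IsLie b := by
    refine ⟨fun x y => o_ind (fun x => b x y + b y x) (fun _ _ => by simp only [map_add, AddMonoidHom.add_apply]; abel)
      (fun k i g hg => o_ind (fun y => b (o H k i g) y + b y (o H k i g))
        (fun _ _ => by simp only [map_add, AddMonoidHom.add_apply]; abel) (fun l j u hu => ?_) y) x, fun x y z => ?_⟩
    · rw [hb _ _ _ _ _ _ hg hu, hb _ _ _ _ _ _ hu hg, o_anti hg hu, add_comm k, neg_add_cancel]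
    refine o_ind (fun x => b (b x y) z + b (b y z) x + b (b z x) y)
      (fun _ _ => by simp only [map_add, AddMonoidHom.add_apply]; abel) (fun k i g hg => ?_) x
    refine o_ind (fun y => b (b (o H k i g) y) z + b (b y z) (o H k i g) + b (b z (o H k i g)) y)
      (fun _ _ => by simp only [map_add, AddMonoidHom.add_apply]; abel) (fun l j h hh => ?_) y
    refine o_ind (fun z => b (b (o H k i g) (o H l j h)) z + b (b (o H l j h) z) (o H k i g) + b (b z (o H k i g)) (o H l j h))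
      (fun _ _ => by simp only [map_add, AddMonoidHom.add_apply]; abel) (fun m n u hu => ?_) z
    rw [hb _ _ _ _ _ _ hg hh, hb _ _ _ _ _ _ hh hu, hb _ _ _ _ _ _ hu hg, hb _ _ _ _ _ _ (cm hg hh le_rfl) hu,
      hb _ _ _ _ _ _ (cm hh hu le_rfl) hg, hb _ _ _ _ _ _ (cm hu hg le_rfl) hh, ← o_jac (k := k + l + m) hg hh hu]
    congr 1
    · congr 2
      · omega
      · ring
      · omega
    · congr 1
      · ring
      · omega
  have hW : ∀ s : ZMod p, ∃ W : LL p H →+ LL p H, ∀ k i g, g ∈ γ i → W (o H k i g) = o H (s + k) i g := fun s =>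
    o_lift _ (fun k i g h hg hh => o_mul hg hh) (fun k i g hg => o_zero hg) (fun i g hg => by
      rw [← o_sum (p := p) hg]; exact Fintype.sum_equiv (Equiv.addLeft s) _ _ fun _ => rfl)
  have hT : ∀ s : ZMod p, ∃ T : LL p H →+ LL p H, ∀ k i g, g ∈ γ i → T (o H k i g) = o H k i (c s * g * (c s)⁻¹) := fun s =>
    o_lift _ (fun k i g h hg hh => by rw [← o_mul (cj s hg) (cj s hh)]; congr 1; group) (fun k i g hg => o_zero (cj s hg))
      (fun i g hg => o_sum (cj s hg))
  choose W hW using hW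
  choose T hT using hT
  have sb : ∀ (f : LL p H → LL p H) (f' : LL p H → LL p H), (∀ x y, f (x + y) = f x + f y) → (∀ x y, f' (x + y) = f' x + f' y) →
      (∀ k i g, g ∈ γ i → f (o H k i g) = f' (o H k i g)) → ∀ x, f x = f' x := fun f f' h1 h2 h3 x =>
    DFunLike.congr_fun (o_ext (φ := AddMonoidHom.mk' f h1) (ψ := AddMonoidHom.mk' f' h2) h3) x
  have Ta : ∀ s t x, T (s + t) x = T s (T t x) := fun s t => sb _ _ (by simp) (by simp) fun k i g hg => by
    rw [hT _ _ _ _ hg, hT _ _ _ _ hg, hT _ _ _ _ (cj t hg), ca]; congr 1; group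
  have TW : ∀ s t x, T s (W t x) = W t (T s x) := fun s t => sb _ _ (by simp) (by simp) fun k i g hg => by
    rw [hT _ _ _ _ hg, hW _ _ _ _ hg, hT _ _ _ _ hg, hW _ _ _ _ (cj s hg)]
  have main := hig_eigen (e := e) hH hL W T
    (sb _ _ (by simp) (by simp) fun k i g hg => by rw [hW _ _ _ _ hg, zero_add])
    (fun s t => sb _ _ (by simp) (by simp) fun k i g hg => by rw [hW _ _ _ _ hg, hW _ _ _ _ hg, hW _ _ _ _ hg, add_assoc])
    (o_ind _ (by simp [Finset.sum_add_distrib]) fun k i g hg => by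
      rw [← o_sum (p := p) hg]; exact Fintype.sum_equiv (Equiv.addRight k) _ _ fun s => hW _ _ _ _ hg)
    (sb _ _ (by simp) (by simp) fun k i g hg => by rw [hT _ _ _ _ hg, c0]; simp) Ta TW
    (fun s t x y => sb (fun x => b (W s x) (W t y)) (fun x => W (s + t) (b x y)) (by simp) (by simp) (fun k i g hg =>
      sb (fun y => b (W s (o H k i g)) (W t y)) (fun y => W (s + t) (b (o H k i g) y)) (by simp) (by simp) (fun l j u hu => by
        rw [hW _ _ _ _ hg, hW _ _ _ _ hu, hb _ _ _ _ _ _ hg hu, hb _ _ _ _ _ _ hg hu, hW _ _ _ _ (cm hg hu le_rfl)]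
        congr 1; ring) y) x)
    (fun s x y => sb (fun x => b (T s x) (T s y)) (fun x => T s (b x y)) (by simp) (by simp) (fun k i g hg =>
      sb (fun y => b (T s (o H k i g)) (T s y)) (fun y => T s (b (o H k i g) y)) (by simp) (by simp) (fun l j u hu => by
        rw [hT _ _ _ _ hg, hT _ _ _ _ hu, hb _ _ _ _ _ _ hg hu, hb _ _ _ _ _ _ (cj s hg) (cj s hu), hT _ _ _ _ (cm hg hu le_rfl)]
        congr 1; simp only [commutatorElement_def]; group) y) x)
    (o_ind _ (by simp [Finset.sum_add_distrib]) fun k i g hg => by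
      have ex : ∀ S : Finset (ZMod p), ∃ z ∈ γ i, o H (0 : ZMod p) i z = ∑ s ∈ S, T s (o H 0 i g) := by
        intro S
        induction S using Finset.induction_on with
        | empty => exact ⟨1, one_mem _, by simp [o_one]⟩
        | insert s S hs ih =>
          obtain ⟨z, hz, e⟩ := ih
          exact ⟨_, mul_mem (cj s hg) hz, by rw [o_mul (cj s hg) hz, Finset.sum_insert hs, e, hT _ _ _ _ hg]⟩
      obtain ⟨z, hz, ez⟩ := ex Finset.univ
      have h1 := he i z hz fun s => mem_of_o (p := p) (mul_mem (cj s hz) (inv_mem hz)) (by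
        rw [commutatorElement_def, o_mul (cj s hz) (inv_mem hz), o_inv hz, ← hT _ _ _ _ hz, ez, map_sum, add_neg_eq_zero]
        exact Fintype.sum_equiv (Equiv.addLeft s) _ _ fun t => (Ta _ _ _).symm)
      have : o H k i g = W k (o H 0 i g) := by rw [hW _ _ _ _ hg, add_zero]
      simp only [this, TW]
      rw [← map_sum, ← map_nsmul, ← ez, ← o_pow hz, o_zero h1, map_zero])
  have key : ∀ i, ∀ g ∈ γ i, o H (0 : ZMod p) i g ∈ gam b ⊤ i := by
    intro i
    induction i with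
    | zero => exact fun _ _ => trivial
    | succ i ih =>
      intro g hg
      induction hg using Subgroup.closure_induction with
      | mem x hx =>
        obtain ⟨a, ha, d, hd, rfl⟩ := hx
        have := mem_br (b := b) (B := ⊤) (y := o H (0 : ZMod p) 0 d) (ih a ha) trivial
        rwa [hb _ _ _ _ _ _ ha hd, add_zero] at this
      | one => rw [o_one]; exact zero_mem _
      | mul x y hx hy h1 h2 => rw [o_mul hx hy]; exact add_mem h1 h2
      | inv x hx h1 => rw [o_inv hx]; exact neg_mem h1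
  have anti : gam b ⊤ i ≤ gam b ⊤ n := by
    obtain ⟨d, rfl⟩ := Nat.exists_eq_add_of_le hi
    clear hi hg
    induction d with
    | zero => exact le_rfl
    | succ d ih => exact (gam_inv hL le_top (n + d)).trans ih
  exact mem_of_o (p := p) (pow_mem hg _) (by rw [o_pow hg, main _ (anti (key i g hg))])

end H5.Lie
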