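import Cfsg.Agent.H5.MS1
import Cfsg.Agent.H3.AI1
import Cfsg.Agent.S4385
import Cfsg.Agent.S0206

/-! Groups in which the normalizer of every nontrivial normal subgroup of a Sylow 2-subgroup `S` is `S`: `MS.Su S z a`
(`a ≠ z` a conjugate of `z ∈ Z(S)` in `S` with `D = C_S(a)` of maximal order; `N(D)/D` is a Frobenius group),
`Su.card_le_four`: if `|S| = 128` and `G` is perfect then `|C_S(a)| ≤ 4`. -/

set_option autoImplicit false
set_option linter.unusedSectionVars false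
open Cfsg Subgroup H9 H18
open scoped commutatorElement

namespace H5.MS
variable {G : Type*} [Group G] [Finite G] {S P : Subgroup G} {z a u v x y g d e k : G}

structure Su (S : Subgroup G) (z a : G) : Prop where
  syl : Hall {2} S ⊤
  nm : ∀ U ≤ S, U ≠ ⊥ → S ≤ N(U) → N(U) ≤ S
  zS : z ∈ S
  z2 : z * z = 1
  z1 : z ≠ 1
  zc : ∀ s ∈ S, Commute s z
  aS : a ∈ S
  za : IsConj z a
  az : a ≠ z
  mx : ∀ x y, IsConj z x → IsConj z y → x ≠ y → Commute x y →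
    Nat.card (C1(x) ⊓ C1(y) : Subgroup G) ≤ Nat.card (R S a)

/-- conjugates of `z` centralizing `D` -/
def Om (S : Subgroup G) (z a x : G) : Prop := IsConj z x ∧ ∀ d ∈ R S a, Commute d x

theorem mem_C1' : g ∈ C1(x) ↔ Commute g x := by simp [mem_centralizer_singleton_iff, commute_iff_eq]

theorem exists_sq (hP : IsPGroup 2 P) {M : Subgroup G} (h : M < P) : ∃ g ∈ P, g ∉ M ∧ g ∈ N(M) ∧ g * g ∈ M := by
  obtain ⟨g, h1, h2, h3⟩ := exists_mem_normalizer_of_lt hP h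
  obtain ⟨n, hn⟩ := hP ⟨g, h1⟩
  obtain ⟨j, h4, h5⟩ := exists_notMem_pow_mem (p := 2) (congrArg Subtype.val hn) h2
  exact ⟨_, pow_mem h1 _, h4, pow_mem h3 _, by rwa [pow_succ, pow_mul, pow_two] at h5⟩

namespace Su
variable (h : Su S z a)
include h

theorem two : IsPGroup 2 S := h.syl.pi.isPGroup

theorem cen (he : e ∈ S) (h1 : e ≠ 1) (hc : ∀ s ∈ S, Commute s e) (hg : Commute g e) : g ∈ S := by
  have k : ∀ g, Commute g e → g ∈ N(zpowers e) := fun g hg => by rw [mem_N_iff_cj, cj_zpowers, cj_of_comm hg]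
  exact h.nm _ (zpowers_le.2 he) (by simpa using h1) (fun s hs => k s (hc s hs)) (k g hg)

theorem cz : C1(z) = S := le_antisymm (fun _ hg => h.cen h.zS h.z1 h.zc (mem_C1'.1 hg)) fun s hs => mem_C1'.2 (h.zc s hs)

theorem cx (hx : IsConj z x) : ∃ g, g * z * g⁻¹ = x ∧ C1(x) = cj g S := by
  obtain ⟨g, rfl⟩ := isConj_iff.1 hx
  exact ⟨g, rfl, by rw [← cj_C1, h.cz]⟩

theorem sq (hg : IsConj z g) : g * g = 1 := by
  obtain ⟨c, rfl⟩ := isConj_iff.1 hg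
  exact conj_sq h.z2 c

theorem aD : a ∈ R S a := mem_R.2 ⟨h.aS, Commute.refl a⟩
theorem zD : z ∈ R S a := mem_R.2 ⟨h.zS, (h.zc a h.aS).symm⟩
theorem omz : Om S z a z := ⟨IsConj.refl z, fun d hd => h.zc d (mem_R.1 hd).1⟩
theorem oma : Om S z a a := ⟨h.za, fun _ hd => (mem_R.1 hd).2⟩
theorem omD (hx : Om S z a x) : x ∈ R S a :=
  mem_R.2 ⟨h.cz.le (mem_C1'.2 (hx.2 z h.zD).symm), (hx.2 a h.aD).symm⟩
theorem omN (hg : g ∈ N(R S a)) (hx : Om S z a x) : Om S z a (g * x * g⁻¹) :=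
  ⟨isConj_cj hx.1 g, fun d hd => by
    simpa [mul_assoc] using comm_cj (hx.2 _ (conj_mem_of_mem_normalizer' hg hd)) g⟩

theorem K1 (hx : Om S z a x) (hy : Om S z a y) (h1 : Commute g x) (h2 : Commute g y) (hg : g ∉ R S a) : x = y := by
  by_contra n
  refine hg ((eq_of_card_ge (A := R S a) (B := C1(x) ⊓ C1(y)) (fun d hd => ⟨mem_C1'.2 (hx.2 d hd), mem_C1'.2 (hy.2 d hd)⟩)
    (h.mx x y hx.1 hy.1 n (hy.2 x (h.omD hx)))).ge ⟨mem_C1'.2 h1, mem_C1'.2 h2⟩)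

theorem fix (hg : g ∈ N(R S a)) (hx : Om S z a x) (hy : Om S z a y) (h1 : Commute u x) (h2 : Commute v y)
    (hv : v ∉ R S a) (e : g * u * g⁻¹ * v⁻¹ ∈ R S a) : g * x * g⁻¹ = y := by
  have k := h.omN hg hx
  refine h.K1 k hy ?_ h2 hv
  simpa [mul_assoc] using (k.2 _ e).inv_left.mul_left (comm_cj h1 g)

theorem DS : R S a < S := lt_of_le_not_ge inf_le_left fun e => by
  obtain ⟨g, e1, e2⟩ := h.cx h.za
  have := eq_of_card_ge ((e.trans inf_le_right).trans e2.le) (by simp)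
  have := h.nm S le_rfl (fun e => h.z1 (by simpa [e] using h.zS)) le_normalizer (mem_N_iff_cj.2 this.symm)
  exact h.az (by rw [← e1, cj_of_comm (h.zc g this)])

theorem exists_v : ∃ v, Commute v a ∧ v ∉ R S a ∧ v ∈ N(R S a) ∧ v * v ∈ R S a := by
  obtain ⟨g, -, e⟩ := h.cx h.za
  obtain ⟨v, h1, h2⟩ := exists_sq (P := C1(a)) (e ▸ h.two.map _) (M := R S a) (lt_of_le_of_ne inf_le_right fun e' => by
    have := card_lt h.DS
    rw [e', e, card_cj] at this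
    omega)
  exact ⟨v, mem_C1'.1 h1, h2⟩

theorem odd (u1 : u ∈ S) (u2 : u ∉ R S a) (u3 : u ∈ N(R S a)) (u4 : u * u ∈ R S a)
    (v1 : Commute v a) (v2 : v ∉ R S a) (v3 : v ∈ N(R S a)) (v4 : v * v ∈ R S a) :
    ∃ g ∈ N(R S a), g * a * g⁻¹ = z ∧ g * v * g⁻¹ * u⁻¹ ∈ R S a := by
  let f := QuotientGroup.mk' ((R S a).subgroupOf N(R S a))
  have hf : ∀ x : N(R S a), f x = 1 ↔ (x : G) ∈ R S a := fun x => QuotientGroup.eq_one_iff x
  let U : N(R S a) := ⟨u, u3⟩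
  let V : N(R S a) := ⟨v, v3⟩
  have U2 : f U * f U = 1 := by rw [← map_mul]; exact (hf _).2 u4
  have V2 : f V * f V = 1 := by rw [← map_mul]; exact (hf _).2 v4
  have i1 : f V * (f U * f V) * (f V)⁻¹ = (f U * f V)⁻¹ := by
    rw [mul_inv_rev, inv_eq_of_mul_eq_one_right U2, inv_eq_of_mul_eq_one_right V2, mul_assoc, mul_assoc, V2, mul_one]
  have i2 : f U * (f U * f V) * (f U)⁻¹ = (f U * f V)⁻¹ := by
    rw [mul_inv_rev, ← mul_assoc, U2, one_mul, inv_eq_of_mul_eq_one_right V2]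
  have key : ∀ (j : ℤ) (A B : N(R S a)), (f U * f V) ^ j * f A * ((f U * f V) ^ j)⁻¹ = f B →
      ((U * V) ^ j : N(R S a)) * (A : G) * (((U * V) ^ j : N(R S a)) : G)⁻¹ * (B : G)⁻¹ ∈ R S a := fun j A B e =>
    (hf ((U * V) ^ j * A * ((U * V) ^ j)⁻¹ * B⁻¹)).1 (by
      simp only [map_mul, map_inv, map_zpow]; rw [e, mul_inv_cancel])
  have o := pow_orderOf_eq_one (f U * f V)
  obtain ⟨n, e | e⟩ := Nat.even_or_odd' (orderOf (f U * f V))
  · have p := orderOf_pos (f U * f V)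
    have s : ∀ A, A * (f U * f V) * A⁻¹ = (f U * f V)⁻¹ → (f U * f V) ^ (n : ℤ) * A * ((f U * f V) ^ (n : ℤ))⁻¹ = A :=
      fun A i => by
        rw [← zpow_neg, mul_assoc, dih_comm i, neg_neg, ← mul_assoc, ← zpow_add, ← two_mul]
        norm_cast; rw [← e, o, one_mul]
    have c1 := h.fix ((U * V) ^ (n : ℤ)).2 h.omz h.omz (h.zc u u1) (h.zc u u1) u2 (key n U U (s _ i2))
    have c2 := h.fix ((U * V) ^ (n : ℤ)).2 h.oma h.oma v1 v1 v2 (key n V V (s _ i1))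
    refine (h.az (h.K1 h.oma h.omz (comm_of_cj c2) (comm_of_cj c1) fun c => ?_)).elim
    have := (hf _).2 c
    rw [map_zpow, map_mul, zpow_natCast] at this
    have := Nat.le_of_dvd (by omega) (orderOf_dvd_of_pow_eq_one this)
    omega
  · have := key (n + 1) V U (by
      rw [← zpow_neg, mul_assoc, dih_comm i1, neg_neg, ← mul_assoc, ← zpow_add,
        show (n : ℤ) + 1 + (n + 1) = (2 * n + 1 : ℕ) + 1 by push_cast; ring, ← e, zpow_add_one, zpow_natCast, o, one_mul,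
        mul_assoc, V2, mul_one])
    exact ⟨_, ((U * V) ^ (n + 1 : ℤ)).2, h.fix ((U * V) ^ (n + 1 : ℤ)).2 h.oma h.omz v1 (h.zc u u1) u2 this, this⟩

theorem TS : S ⊓ N(R S a) < S := lt_of_le_not_ge inf_le_left fun e => by
  obtain ⟨v, v1, v2, v3, -⟩ := h.exists_v
  exact v2 (mem_R.2 ⟨h.nm (R S a) inf_le_left (fun e => h.z1 (by simpa [e] using h.zD)) (e.trans inf_le_right) v3, v1⟩)

theorem DT : R S a ≤ S ⊓ N(R S a) := le_inf inf_le_left le_normalizer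

theorem two_le (hP : IsPGroup 2 P) (hD : R S a ≤ P) (hv : v ∈ P) (v2 : v ∉ R S a) (hx : Om S z a x) (c : Commute v x)
    (hg : g ∈ P) : Commute g x := by
  obtain ⟨k, -, hk⟩ := sylow_le_cj' Nat.prime_two h.syl (piGrp_of_isPGroup Nat.prime_two hP) le_top
  rw [← h.cz, cj_C1] at hk
  have k1 := fun g hg => mem_C1'.1 (@hk g hg)
  exact h.K1 ⟨isConj_iff.2 ⟨k, rfl⟩, fun d hd => k1 d (hD hd)⟩ hx (k1 v hv) c v2 ▸ k1 g hg

theorem exists_u : ∃ u ∈ S, u ∉ R S a ∧ u ∈ N(R S a) ∧ u * u ∈ R S a := exists_sq h.two h.DS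

theorem card_T (hS : Nat.card S = 128) : Nat.card (S ⊓ N(R S a) : Subgroup G) ∣ 64 ∧
    Nat.card (R S a) < Nat.card (S ⊓ N(R S a) : Subgroup G) := by
  obtain ⟨u, u1, u2, u3, -⟩ := h.exists_u
  refine ⟨?_, card_lt (lt_of_le_not_ge h.DT fun e => u2 (e ⟨u1, u3⟩))⟩
  have h1 := card_lt h.TS
  obtain ⟨k, -, e⟩ := (Nat.dvd_prime_pow Nat.prime_two).1 ((card_dvd_of_le h.TS.le).trans (hS.trans (by rfl : 128 = 2 ^ 7)).dvd)
  rw [e, hS] at h1
  rw [e]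
  exact pow_dvd_pow 2 (Nat.lt_succ_iff.1 ((Nat.pow_lt_pow_iff_right one_lt_two).1 (h1 : 2 ^ k < 2 ^ 7))) (n := 6)

theorem d5 (hS : Nat.card S = 128) : Nat.card (R S a) ≠ 32 := fun hD => by
  obtain ⟨u, u1, u2, u3, u4⟩ := h.exists_u
  obtain ⟨v, v1, v2, v3, v4⟩ := h.exists_v
  set T := S ⊓ N(R S a) with hT
  have cT : Nat.card T = 64 := by
    obtain ⟨h1, h2⟩ := h.card_T hS
    obtain ⟨k, hk, e⟩ := (Nat.dvd_prime_pow Nat.prime_two).1 (h1.trans (by rfl : 64 = 2 ^ 6).dvd)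
    rw [← hT, e, hD] at h2
    interval_cases k <;> omega
  have i1 := relIndex_eq_two_of_card h.DT (by rw [cT, hD])
  have i2 := relIndex_eq_two_of_card h.TS.le (by rw [cT, hS])
  obtain ⟨x, x1, x2⟩ := exists_notMem_of_relIndex_two i2
  have uT : u ∈ T := ⟨u1, u3⟩
  have dec : ∀ g ∈ T, g ∈ R S a ∨ g * u⁻¹ ∈ R S a := fun g hg =>
    or_iff_not_imp_left.2 fun n => mul_inv_mem_of_relIndex_two i1 hg uT n u2
  let H := R S a ⊔ closure {u, v}
  have HN : H ≤ N(R S a) := sup_le le_normalizer ((closure_le _).2 (by rintro _ (rfl | rfl) <;> assumption))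
  have uH : u ∈ H := mem_sup_right (subset_closure (by simp))
  have vH : v ∈ H := mem_sup_right (subset_closure (by simp))
  have TH : T ≤ H := fun g hg => (dec g hg).elim mem_sup_left fun e => by simpa using mul_mem (mem_sup_left e) uH
  have pT := h.two.to_le h.TS.le
  have hO : pCore 2 H = (R S a).subgroupOf H := by
    refine le_antisymm (fun g hg => ?_) (H1.le_pCore (hN := (normal_subgroupOf_iff_le_normalizer le_sup_left).2 HN)
      ((h.two.to_le inf_le_left).comap_subtype))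
    have k : ∀ P ≤ H, IsPGroup 2 P → IsPGroup 2 (P ⊔ (pCore 2 H).map H.subtype : Subgroup G) := fun P h1 h2 =>
      h2.to_sup_of_normal_right' (H1.map_pCore_isPGroup 2 H) (h1.trans (H1.le_normalizer_map_pCore 2 H))
    have m : (g : G) ∈ (pCore 2 H).map H.subtype := mem_map_of_mem _ hg
    refine mem_R.2 ⟨h.cz.le (mem_C1'.2 (h.two_le (k T TH pT) (h.DT.trans le_sup_left) (mem_sup_left uT) u2 h.omz
      (h.zc u u1) (mem_sup_right m))), h.two_le (k (C1(a) ⊓ H) inf_le_right ?_)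
      ((le_inf inf_le_right le_sup_left).trans le_sup_left) (mem_sup_left ⟨mem_C1'.2 v1, vH⟩) v2 h.oma v1 (mem_sup_right m)⟩
    obtain ⟨g, -, e⟩ := h.cx h.za
    exact (e ▸ h.two.map _ : IsPGroup 2 C1(a)).to_le inf_le_left
  let f := QuotientGroup.mk' (pCore 2 H)
  have hf : ∀ x : H, f x = 1 ↔ (x : G) ∈ R S a := fun x => by
    rw [show f x = 1 ↔ x ∈ pCore 2 H from QuotientGroup.eq_one_iff x, hO, mem_subgroupOf]
  have o : ∀ x : H, (x : G) ∉ R S a → (x : G) * x ∈ R S a → orderOf (f x) = 2 := fun x h1 h2 =>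
    orderOf_eq_two.2 ⟨by rw [← map_mul]; exact (hf _).2 h2, fun e => h1 ((hf x).1 e)⟩
  have uv : u * v ∉ R S a := fun e => v2 (mem_R.2 ⟨(mul_mem_cancel_left u1).1 (mem_R.1 e).1, v1⟩)
  have ne : f ⟨u, uH⟩ ≠ f ⟨v, vH⟩ := fun e => uv ((hf (⟨u, uH⟩ * ⟨v, vH⟩)).1 (by
    rw [map_mul, e]; exact mul_self_of_orderOf (o _ v2 v4)))
  obtain ⟨e⟩ := Cfsg.Agent.S0206.result _ _ (o ⟨u, uH⟩ u2 u4) (o ⟨v, vH⟩ v2 v4) ne
  have gen : closure {f ⟨u, uH⟩, f ⟨v, vH⟩} = ⊤ := by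
    have : H ≤ ((closure {f ⟨u, uH⟩, f ⟨v, vH⟩}).comap f).map H.subtype := sup_le
      (fun d hd => ⟨⟨d, mem_sup_left hd⟩, by simp [(hf ⟨d, _⟩).2 hd], rfl⟩) ((closure_le _).2 (by
        rintro _ (rfl | rfl)
        exacts [⟨⟨_, uH⟩, subset_closure (by simp), rfl⟩, ⟨⟨_, vH⟩, subset_closure (by simp), rfl⟩]))
    refine eq_top_iff.2 fun q _ => ?_
    obtain ⟨g, rfl⟩ := QuotientGroup.mk'_surjective _ q
    obtain ⟨g', h1, h2⟩ := this g.2
    exact Subtype.ext h2 ▸ h1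
  rw [gen] at e
  obtain ⟨S', rfl⟩ := h.syl.exists_sylow_top Nat.prime_two
  have xN := mem_normalizer_of_conj_mem fun g hg => conj_mem_of_relIndex_two i2 h.TS.le x1 hg
  have := (Cfsg.Agent.S4385.result H (fun e => h.z1 (by
      have : (⟨z, mem_sup_left h.zD⟩ : H) ∈ pCore 2 H := hO ▸ h.zD
      simpa [e] using this)) _ (by
      have := orderOf_pos (f ⟨u, uH⟩ * f ⟨v, vH⟩)
      have : orderOf (f ⟨u, uH⟩ * f ⟨v, vH⟩) ≠ 1 := fun e =>
        uv ((hf (⟨u, uH⟩ * ⟨v, vH⟩)).1 (map_mul f _ _ ▸ orderOf_eq_one_iff.1 e))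
      omega) ⟨topEquiv.symm.trans e⟩ T TH pT
    ((piNat_compl_iff Nat.prime_two).1 (sylow_of_max Nat.prime_two TH (piGrp_of_isPGroup Nat.prime_two pT)
      fun Q h1 h2 h3 g hg => ⟨h.cz.le (mem_C1'.2 (h.two_le h1.isPGroup (h.DT.trans h2) (h2 uT) u2 h.omz (h.zc u u1) hg)),
        HN (h3 hg)⟩).idx) S' h.TS.le x x1 x2 (mem_sup_left (pow_two x ▸ mul_mem_of_relIndex_two i2 x1 x1 x2 x2))
    (cj_eq_self xN) fun Q h1 h2 h3 => by_contra fun n => ?_).1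
  · omega
  have k := (normal_subgroupOf_iff_le_normalizer (h1.trans TH)).1 h2
  refine v2 (mem_R.2 ⟨h.nm Q (h1.trans h.TS.le) n (fun s hs => by_contra fun c => c ?_) (k vH), v1⟩)
  simpa using mul_mem (k (TH (mul_inv_mem_of_relIndex_two i2 hs x1 (fun e => c (k (TH e))) x2))) (mem_N_iff_cj.2 h3)

theorem abel (hD : Nat.card (R S a) ≤ 16) : Abel (R S a) := by
  classical
  by_contra na
  obtain ⟨u, u1, u2, u3, -⟩ := h.exists_u
  obtain ⟨v, v1, v2, v3, -⟩ := h.exists_v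
  have o := h.omN u3 h.oma
  have n1 : u * a * u⁻¹ ≠ a := fun e => u2 (mem_R.2 ⟨u1, comm_of_cj e⟩)
  have n2 : u * a * u⁻¹ ≠ z := fun e => h.az (by rw [← cj_of_comm (h.zc _ (inv_mem u1)), ← e]; group)
  have k : ∀ x, Om S z a x → x ∈ Z(R S a) ∧ 1 ≠ x := fun x hx =>
    ⟨⟨h.omD hx, fun d hd => (hx.2 d hd).eq⟩, fun e => h.z1 (isConj_one_left.1 (e ▸ hx.1))⟩
  have sub : ({1, z, a, u * a * u⁻¹} : Set G) ⊆ SetLike.coe (Z(R S a) : Subgroup G) := by
    rintro _ (rfl | rfl | rfl | rfl)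
    exacts [one_mem _, (k _ h.omz).1, (k _ h.oma).1, (k _ o).1]
  have c4 : ({1, z, a, u * a * u⁻¹} : Set G).ncard = 4 := Set.ncard_eq_four.2
    ⟨_, _, _, _, (k _ h.omz).2, (k _ h.oma).2, (k _ o).2, h.az.symm, n2.symm, n1.symm, rfl⟩
  have c5 := Set.ncard_le_ncard sub
  have c6 := card_mul_relIndex (inf_le_left : Z(R S a) ≤ R S a)
  rw [c4, ← Nat.card_coe_set_eq, SetLike.coe_sort_coe] at c5
  obtain ⟨idx, ⟨e, he, h0⟩, -⟩ := H3.exists_tv (S := R S a) (h.two.to_le inf_le_left) na (p := 2) (by nlinarith)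
  have h1 := h0 1 (one_mem _)
  have e1 : e ≠ 1 := fun e => by simpa [e] using h1.ord
  have cm : ∀ p ∈ R S a, ∀ q ∈ R S a, p * q * p⁻¹ ≠ q → p * q * p⁻¹ = e * q := fun a ha b hb n => by
    have := (h0 b hb).mem a ha
    rw [mem_zpowers_iff_mem_range_orderOf, h1.ord] at this
    simp only [Finset.range_add_one, Finset.range_zero, Finset.image_insert, Finset.mem_insert, Finset.image_empty,
      Finset.notMem_empty, or_false, pow_one, pow_zero, inv_mul_eq_one, inv_mul_eq_iff_eq_mul] at this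
    rcases this with e | e
    exacts [e.trans (h1.cent b hb), (n (by simpa using e)).elim]
  have fx : ∀ g ∈ N(R S a), Commute g e := fun g hg => by
    obtain ⟨p, hp, q, hq, n⟩ : ∃ p ∈ R S a, ∃ q ∈ R S a, p * q * p⁻¹ ≠ q := by
      by_contra! c; exact na (cent_iff.2 fun p hp q hq => (comm_of_cj (c p hp q hq)).eq)
    have k1 : g * p * g⁻¹ * (g * q * g⁻¹) * (g * p * g⁻¹)⁻¹ = g * (p * q * p⁻¹) * g⁻¹ := by group
    have := cm _ (conj_mem_of_mem_normalizer hg hp) _ (conj_mem_of_mem_normalizer hg hq) (by rw [k1]; simpa using n)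
    rw [k1, cm p hp q hq n, ← conj_mul, mul_left_inj] at this
    exact comm_of_cj this
  have eq := Set.eq_of_subset_of_ncard_le sub (by
    rw [c4, ← Nat.card_coe_set_eq, SetLike.coe_sort_coe]; rw [idx] at c6; omega)
  have oe : Om S z a e := by
    rcases eq.ge (⟨he, h1.cent⟩ : e ∈ Z(R S a)) with e | e | e | e
    exacts [(e1 e).elim, e ▸ h.omz, e ▸ h.oma, e ▸ o]
  exact h.az ((h.K1 h.oma oe v1 (fx v v3) v2).trans (h.K1 oe h.omz (fx u u3) (h.zc u u1) u2))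

end Su

structure Ab (S : Subgroup G) (z a x u v w w' : G) : Prop extends Su S z a where
  ab : Abel (R S a)
  xS : x ∈ S
  xT : x ∉ N(R S a)
  xN : x ∈ N(S ⊓ N(R S a))
  x2 : x * x ∈ N(R S a)
  uD' : u ∈ cj x (R S a)
  uD : u ∉ R S a
  idx : (R S a ⊓ cj x (R S a)).relIndex (R S a) = 2
  ua : u * a * u⁻¹ = a * w
  wD : w ∈ R S a ⊓ cj x (R S a)
  w2 : w * w = 1
  hu : ∀ d ∈ R S a, u * d * u⁻¹ = d ∨ u * d * u⁻¹ = d * w
  vN : v ∈ N(R S a)
  va : Commute v a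
  vD : v ∉ R S a
  hv : ∀ d ∈ R S a, v * d * v⁻¹ = d ∨ v * d * v⁻¹ = d * w'
  wD' : w' ∈ R S a
  w2' : w' * w' = 1

theorem abc {A : Subgroup G} (h : Abel A) (hd : d ∈ A) (he : e ∈ A) : Commute d e := comm_of_cent h hd he

theorem Su.exists_ab (h : Su S z a) (ab : Abel (R S a)) : ∃ x u v w w', Ab S z a x u v w w' := by
  obtain ⟨x, x1, x2, x3, x4⟩ := exists_sq h.two h.TS
  set T := S ⊓ N(R S a) with hT
  have DT : cj x (R S a) ≤ T := cj_le_of_mem_N h.DT x3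
  have TN : T ≤ N(cj x (R S a)) := fun g hg => by
    rw [← cj_N, mem_cj]; exact (conj_mem_of_mem_normalizer' x3 hg).2
  have ab' := ab.cj x
  have a2 := h.sq h.za
  have stA : ∀ v ∈ cj x (R S a), v * a * v⁻¹ * a⁻¹ ∈ R S a ⊓ cj x (R S a) ∧
      v * a * v⁻¹ * a⁻¹ * (v * a * v⁻¹ * a⁻¹) = 1 := fun v hv => by
    have k := conj_mem_of_mem_normalizer (DT hv).2 h.aD
    refine ⟨mem_inf.2 ⟨mul_mem k (inv_mem h.aD), by
      simpa [mul_assoc] using mul_mem hv (conj_mem_of_mem_normalizer (TN (h.DT h.aD)) (inv_mem hv))⟩, ?_⟩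
    rw [(abc ab (inv_mem h.aD) k).mul_mul_mul_comm, conj_sq a2, ← mul_inv_rev, a2]; simp
  have sq : ∀ v ∈ cj x (R S a), v * v ∈ R S a := fun v hv => mem_R.2 ⟨mul_mem (DT hv).1 (DT hv).1, comm_of_cj (by
    obtain ⟨h1, h2⟩ := stA v hv
    calc _ = v * (v * a * v⁻¹ * a⁻¹) * v⁻¹ * (v * a * v⁻¹ * a⁻¹) * a := by group
      _ = a := by rw [cj_of_comm (abc ab' hv h1.2), h2, one_mul])⟩
  obtain ⟨u, u1, u2, u3⟩ : ∃ u ∈ cj x (R S a), u ∉ R S a ∧ ∀ g ∈ T, g * u * g⁻¹ * u⁻¹ ∈ R S a := by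
    have := (normal_subgroupOf_iff_le_normalizer h.DT).2 inf_le_right
    have := (normal_subgroupOf_iff_le_normalizer DT).2 TN
    let f := QuotientGroup.mk' ((R S a).subgroupOf T)
    have hf : ∀ x : T, f x = 1 ↔ (x : G) ∈ R S a := fun x => QuotientGroup.eq_one_iff x
    have := this.map f (QuotientGroup.mk'_surjective _)
    obtain ⟨_, ⟨u, u1, rfl⟩, u2, u3⟩ := exists_central_involution ((h.two.to_le h.TS.le).to_quotient _)
      (((cj x (R S a)).subgroupOf T).map f) fun e => x2 ⟨x1, mem_N_of_cj_le fun g hg =>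
        (hf ⟨g, DT hg⟩).1 (mem_bot.1 (e ▸ mem_map_of_mem f hg))⟩
    exact ⟨u, u1, fun e => ne_one_of_orderOf u3 ((hf u).2 e), fun g hg => (hf (⟨g, hg⟩ * u * ⟨g, hg⟩⁻¹ * u⁻¹)).1 (by
      simp only [map_mul, map_inv]; rw [mem_center_iff.1 u2]; group)⟩
  obtain ⟨v, v1, v2, v3, v4⟩ := h.exists_v
  obtain ⟨g, g1, g2, g3⟩ := h.odd (DT u1).1 u2 (DT u1).2 (sq u u1) v1 v2 v3 v4
  have i1 : (R S a ⊓ cj x (R S a)).relIndex (cj x (R S a)) = 2 := relIndex_eq_two_of u1 (fun e => u2 e.1) fun q hq =>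
    or_iff_not_imp_left.2 fun n => by
      obtain ⟨k, k1, k2, k3⟩ := h.odd (DT hq).1 (fun e => n ⟨e, hq⟩) (DT hq).2 (sq q hq) v1 v2 v3 v4
      have n1 := mul_mem k1 (inv_mem g1)
      have := mul_mem (mul_mem (inv_mem k3) (conj_mem_of_mem_normalizer n1 g3)) (u3 _ ⟨h.cz.le (mem_C1'.2
        (comm_of_cj (by nth_rw 1 [← g2]; rw [← k2]; group))), n1⟩)
      exact mem_inf.2 ⟨by simpa [mul_assoc] using this, mul_mem hq (inv_mem u1)⟩
  have i2 : (R S a ⊓ cj x (R S a)).relIndex (R S a) = 2 := relIndex_eq_two_of_card inf_le_left (by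
    rw [← card_cj (g := x), ← card_mul_relIndex (inf_le_right : R S a ⊓ cj x (R S a) ≤ _), i1, mul_comm])
  obtain ⟨w1, w2⟩ := stA u u1
  set w := u * a * u⁻¹ * a⁻¹ with hw
  have ua : u * a * u⁻¹ = a * w := by rw [(abc ab h.aD w1.1).eq, hw]; group
  have hu : ∀ d ∈ R S a, u * d * u⁻¹ = d ∨ u * d * u⁻¹ = d * w := fun d hd => by
    by_cases c : d ∈ R S a ⊓ cj x (R S a)
    · exact .inl (cj_of_comm (abc ab' u1 c.2))
    have := cj_of_comm (abc ab' u1 (mul_inv_mem_of_relIndex_two i2 hd h.aD c fun e =>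
      u2 (mem_R.2 ⟨(DT u1).1, abc ab' u1 e.2⟩)).2)
    exact .inr (by rw [← inv_mul_cancel_right d a, mul_assoc d a⁻¹ a, ← mul_assoc d a⁻¹ a, ← conj_mul, this, ua]; group)
  refine ⟨x, u, g⁻¹ * u * g, w, g⁻¹ * w * g, h, ab, x1, fun e => x2 ⟨x1, e⟩, x3, x4.2, u1, u2, i2, ua, w1, w2, hu,
    mul_mem (mul_mem (inv_mem g1) (DT u1).2) g1, ?_, fun e => u2 ?_, fun d hd => ?_,
    conj_mem_of_mem_normalizer' g1 w1.1, by simpa using conj_sq w2 g⁻¹⟩
  · simpa [← g2, mul_assoc] using comm_cj (h.zc u (DT u1).1) g⁻¹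
  · simpa [mul_assoc] using conj_mem_of_mem_normalizer g1 e
  · rw [show g⁻¹ * u * g * d * (g⁻¹ * u * g)⁻¹ = g⁻¹ * (u * (g * d * g⁻¹) * u⁻¹) * g by group]
    rcases hu _ (conj_mem_of_mem_normalizer g1 hd) with e | e <;> rw [e]
    exacts [.inl (by group), .inr (by group)]

namespace Ab
variable {w w' t : G} (h : Ab S z a x u v w w')
include h

theorem DT' : cj x (R S a) ≤ S ⊓ N(R S a) := cj_le_of_mem_N h.DT h.xN
theorem uS : u ∈ S := (h.DT' h.uD').1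
theorem uN : u ∈ N(R S a) := (h.DT' h.uD').2
theorem om' (hg : g ∈ R S a) (hz : IsConj z g) : Om S z a g := ⟨hz, fun _ hd => abc h.ab hd hg⟩
theorem fixu (hg : Om S z a g) (c : Commute u g) : g = z := h.K1 hg h.omz c (h.zc u h.uS) h.uD
theorem fixv (hg : Om S z a g) (c : Commute v g) : g = a := h.K1 hg h.oma c h.va h.vD
theorem w1 : w ≠ 1 := fun e => h.uD (mem_R.2 ⟨h.uS, comm_of_cj (by simpa [e] using h.ua)⟩)
theorem uw : Commute u w := abc (h.ab.cj x) h.uD' h.wD.2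
theorem vz : v * z * v⁻¹ = z * w' := (h.hv z h.zD).resolve_left fun e => h.az (h.fixv h.omz (comm_of_cj e)).symm
theorem w1' : w' ≠ 1 := fun e => h.az (h.fixv h.omz (comm_of_cj (by simpa [e] using h.vz))).symm
theorem vw' : Commute v w' := comm_of_cj ((h.hv _ h.wD').resolve_right fun e => h.w1' (by simpa [h.w2'] using e))
theorem vw : v * w * v⁻¹ = w * w' := by
  have := (h.hv _ (mul_mem h.aD h.wD.1)).resolve_left fun e =>
    h.w1 (by simpa using h.fixv (h.ua ▸ h.omN h.uN h.oma) (comm_of_cj e))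
  rwa [← conj_mul, cj_of_comm h.va, mul_assoc a, mul_right_inj] at this
theorem uw' : u * w' * u⁻¹ = w' * w := by
  have := (h.hu _ (mul_mem h.zD h.wD')).resolve_left fun e =>
    h.w1' (by simpa using h.fixu (h.vz ▸ h.omN h.vN h.omz) (comm_of_cj e))
  rwa [← conj_mul, cj_of_comm (h.zc u h.uS), mul_assoc z, mul_right_inj] at this
theorem ww : w' * w = w * w' := (abc h.ab h.wD' h.wD.1).eq

theorem memC : g ∈ R S a ⊓ C1(u) ⊓ C1(v) ↔ g ∈ R S a ∧ u * g * u⁻¹ = g ∧ v * g * v⁻¹ = g := by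
  simp only [mem_inf, mem_C1', and_assoc]
  exact ⟨fun e => ⟨e.1, cj_of_comm e.2.1.symm, cj_of_comm e.2.2.symm⟩,
    fun e => ⟨e.1, (comm_of_cj e.2.1).symm, (comm_of_cj e.2.2).symm⟩⟩

theorem mvw (e : v * g * v⁻¹ = g * w') : v * (g * w) * v⁻¹ = g * w := by
  rw [← conj_mul, e, h.vw, ← h.ww, mul_assoc, ← mul_assoc w', h.w2', one_mul]
theorem mvw' (e : u * g * u⁻¹ = g * w) : u * (g * w') * u⁻¹ = g * w' := by
  rw [← conj_mul, e, h.uw', h.ww, mul_assoc, ← mul_assoc w, h.w2, one_mul]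

theorem dec (hg : g ∈ R S a) : g ∈ R S a ⊓ C1(u) ⊓ C1(v) ∨ g * w ∈ R S a ⊓ C1(u) ⊓ C1(v) ∨
    g * w' ∈ R S a ⊓ C1(u) ⊓ C1(v) ∨ g * w' * w ∈ R S a ⊓ C1(u) ⊓ C1(v) := by
  simp only [h.memC]
  have k := mul_mem hg h.wD'
  rcases h.hu g hg with e | e <;> rcases h.hv g hg with e' | e'
  · exact .inl ⟨hg, e, e'⟩
  · exact .inr (.inl ⟨mul_mem hg h.wD.1, by rw [← conj_mul, e, cj_of_comm h.uw], h.mvw e'⟩)
  · exact .inr (.inr (.inl ⟨k, h.mvw' e, by rw [← conj_mul, e', cj_of_comm h.vw']⟩))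
  · exact .inr (.inr (.inr ⟨mul_mem k h.wD.1, by rw [← conj_mul, h.mvw' e, cj_of_comm h.uw],
      h.mvw (by rw [← conj_mul, e', cj_of_comm h.vw'])⟩))

theorem aw' : a * w' ∈ R S a ⊓ C1(u) ⊓ C1(v) :=
  h.memC.2 ⟨mul_mem h.aD h.wD', h.mvw' h.ua, by rw [← conj_mul, cj_of_comm h.va, cj_of_comm h.vw']⟩

theorem hD (hg : g ∈ R S a) : ∃ d ∈ R S a ⊓ C1(u) ⊓ C1(v), g = d ∨ g = d * w ∨ g = d * a ∨ g = d * a * w := by
  have k : ∀ g, g * w' * (a * w') * a = g := fun g => by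
    rw [(abc h.ab h.aD h.wD').eq, mul_assoc g, ← mul_assoc w', h.w2', one_mul, mul_assoc, h.sq h.za, mul_one]
  rcases h.dec hg with e | e | e | e
  · exact ⟨_, e, .inl rfl⟩
  · exact ⟨_, e, .inr (.inl (by rw [mul_assoc, h.w2, mul_one]))⟩
  · exact ⟨_, mul_mem e h.aw', .inr (.inr (.inl (k g).symm))⟩
  · exact ⟨_, mul_mem e h.aw', .inr (.inr (.inr (by
      rw [mul_assoc g, h.ww, ← mul_assoc g, k, mul_assoc, h.w2, mul_one])))⟩

theorem om (hg : g ∈ R S a) (hz : IsConj z g) : g = z ∨ g = a ∨ g = a * w := by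
  have o := h.om' hg hz
  rcases h.hu g hg with e | e
  · exact .inl (h.fixu o (comm_of_cj e))
  rcases h.hv g hg with e' | e'
  · exact .inr (.inl (h.fixv o (comm_of_cj e')))
  · exact .inr (.inr (by rw [← h.fixv (e ▸ h.omN h.uN o) (comm_of_cj (h.mvw e')), mul_assoc, h.w2, mul_one]))

theorem nc (hd : d ∈ R S a ⊓ C1(u) ⊓ C1(v)) (h1 : d ≠ 1) : ∃ s ∈ S, ¬ Commute s d := by
  by_contra! c
  exact h.vD (mem_R.2 ⟨h.cen (mem_R.1 hd.1.1).1 h1 c (mem_C1'.1 hd.2).symm, h.va⟩)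

theorem cy (ht : t ∈ R S a ⊓ C1(u) ⊓ C1(v)) (t1 : t ≠ 1) (t2 : t * t = 1)
    (hC : ∀ d ∈ R S a ⊓ C1(u) ⊓ C1(v), d = 1 ∨ d = t ∨ d * d = t) : Cy S (R S a ⊓ C1(u) ⊓ C1(v)) z t w a u :=
  ⟨h.two, h.zS, h.z2, h.z1, h.zc, h.aS, h.za, h.az, fun _ hd => (mem_R.1 hd.1.1).1, ht, t2, t1,
    fun e => h.az ((h.fixv (h.om' ht.1.1 e) (mem_C1'.1 ht.2).symm).symm.trans
      (h.fixu (h.om' ht.1.1 e) (mem_C1'.1 ht.1.2).symm)), h.nc ht t1, hC,
    fun _ hd _ he => abc h.ab hd.1.1 he.1.1, fun _ hd => abc h.ab hd.1.1 h.aD, fun _ hd => mem_C1'.1 hd.1.2,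
    fun _ hd => abc h.ab hd.1.1 h.wD.1, h.w2, h.w1, h.uS, h.ua, h.uw,
    fun _ h1 h2 => h.hD (mem_R.2 ⟨h1, h2⟩), fun _ h1 h2 => h.om (mem_R.2 ⟨h1, h2⟩)⟩

theorem Z0 : R S a ⊓ cj x (R S a) = R S a ⊓ C1(u) := by
  have i : (R S a ⊓ C1(u)).relIndex (R S a) = 2 :=
    relIndex_eq_two_of h.aD (fun e => h.uD (mem_R.2 ⟨h.uS, (mem_C1'.1 e.2).symm⟩)) fun g hg =>
      (h.hu g hg).imp (fun e => ⟨hg, mem_C1'.2 (comm_of_cj e).symm⟩) fun e =>
        mem_inf.2 ⟨mul_mem hg (inv_mem h.aD), mem_C1'.2 (comm_of_cj (by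
          rw [← conj_mul, e, ← conj_inv, h.ua]; group)).symm⟩
  refine eq_of_card_eq (inf_le_inf_left _ fun g hg => mem_C1'.2 (abc (h.ab.cj x) hg h.uD')) ?_
  have h1 := card_mul_relIndex (inf_le_left : R S a ⊓ cj x (R S a) ≤ _)
  have h2 := card_mul_relIndex (inf_le_left : R S a ⊓ C1(u) ≤ _)
  rw [h.idx] at h1; rw [i] at h2; omega

theorem iC : (R S a ⊓ C1(u) ⊓ C1(v)).relIndex (R S a ⊓ C1(u)) = 2 := by
  have wZ := h.Z0.le h.wD
  refine relIndex_eq_two_of wZ (fun e => h.w1' (by simpa [(h.memC.1 e).2.2] using h.vw.symm)) fun g hg =>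
    (h.hv g hg.1).imp (fun e => ⟨hg, mem_C1'.2 (comm_of_cj e).symm⟩) fun e => ?_
  rw [inv_eq_of_mul_eq_one_right h.w2]
  exact mem_inf.2 ⟨mul_mem hg wZ, mem_C1'.2 (comm_of_cj (h.mvw e)).symm⟩

theorem cardC : Nat.card (R S a) = 4 * Nat.card (R S a ⊓ C1(u) ⊓ C1(v) : Subgroup G) := by
  have h1 := card_mul_relIndex (inf_le_left : R S a ⊓ cj x (R S a) ≤ _)
  have h2 := card_mul_relIndex (inf_le_left : R S a ⊓ C1(u) ⊓ C1(v) ≤ _)
  rw [h.idx, h.Z0] at h1; rw [h.iC] at h2; omega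

theorem decT (hg : g ∈ S ⊓ N(R S a)) : g ∈ R S a ∨ g * u⁻¹ ∈ R S a := by
  have o := h.omN (inv_mem hg.2 : g⁻¹ ∈ N(R S a)) h.oma
  have gS : g ∈ S := hg.1
  rcases h.om (h.omD o) o.1 with e | e | e
  · exact (h.az (by rw [← cj_of_comm (h.zc g gS), ← e]; group)).elim
  · exact .inl (by simpa using inv_mem (mem_R.2 ⟨inv_mem gS, comm_of_cj e⟩))
  · have ua : u * (a * w) * u⁻¹ = a := by rw [← conj_mul, h.ua, cj_of_comm h.uw, mul_assoc, h.w2, mul_one]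
    exact .inr (by simpa using inv_mem (mem_R.2 ⟨mul_mem h.uS (inv_mem gS), comm_of_cj (a := a) (by
      rw [← e] at ua; nth_rw 2 [← ua]; group)⟩))

theorem e16 (hS : Nat.card S = 128) (hD : Nat.card (R S a) = 16) (h2 : ∀ d ∈ R S a ⊓ C1(u) ⊓ C1(v), d * d = 1) : False := by
  have el : ∀ g ∈ R S a, g * g = 1 := fun g hg => by
    have k : ∀ p ∈ R S a, ∀ q ∈ R S a, p * p = 1 → q * q = 1 → p * q * (p * q) = 1 := fun p hp q hq h1 h2 => by
      rw [(abc h.ab hq hp).mul_mul_mul_comm, h1, h2, one_mul]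
    have a2 := h.sq h.za
    obtain ⟨d, hd, rfl | rfl | rfl | rfl⟩ := h.hD hg
    exacts [h2 _ hd, k _ hd.1.1 _ h.wD.1 (h2 _ hd) h.w2, k _ hd.1.1 _ h.aD (h2 _ hd) a2,
      k _ (mul_mem hd.1.1 h.aD) _ h.wD.1 (k _ hd.1.1 _ h.aD (h2 _ hd) a2) h.w2]
  have el' : ∀ y, ∀ g ∈ cj y (R S a), g * g = 1 := fun y g hg => by
    obtain ⟨d, hd, rfl⟩ := mem_cj'.1 hg
    exact conj_sq (el d hd) y
  set T := S ⊓ N(R S a) with hT
  have uT : u ∈ T := h.DT' h.uD'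
  have iT : (R S a).relIndex T = 2 := relIndex_eq_two_of uT h.uD fun g => h.decT
  have inv : ∀ g ∈ T, g * g = 1 → g ∈ R S a ∨ g ∈ cj x (R S a) := fun g hg g2 => (h.decT hg).imp_right fun e => by
    have c : Commute (g * u⁻¹) u := by
      have ui := inv_eq_of_mul_eq_one_right (el' x u h.uD')
      have := inv_eq_of_mul_eq_one_right (el _ e)
      rw [ui, mul_inv_rev, ui, inv_eq_of_mul_eq_one_right g2] at this
      exact Commute.mul_left this.symm (Commute.refl u).inv_left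
    simpa using mul_mem (h.Z0.ge ⟨e, mem_C1'.2 c⟩).2 h.uD'
  have x2 : x * x ∈ T := ⟨mul_mem h.xS h.xS, h.x2⟩
  have mem := fun g => mem_ext (g := g) (fun m hm => conj_mem_of_mem_normalizer h.xN hm) x2
  set U := T ⊔ zpowers x with hU
  have xU : x ∈ U := mem_sup_right (mem_zpowers x)
  have US : U ≤ S := sup_le inf_le_left (zpowers_le.2 h.xS)
  have iU : T.relIndex U = 2 := relIndex_eq_two_of (inv_mem xU) (fun e => h.xT (inv_mem_iff.1 e).2) fun g hg => by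
    rw [inv_inv]; exact (mem g).1 hg
  have iS : U.relIndex S = 2 := relIndex_eq_two_of_card US (by
    rw [← card_mul_relIndex (le_sup_left : T ≤ U), ← card_mul_relIndex h.DT, iU, iT, hD, hS])
  obtain ⟨y, y1, y2⟩ := exists_notMem_of_relIndex_two iS
  have AU : cj y (R S a) ≤ U := fun g hg => by
    obtain ⟨d, hd, rfl⟩ := mem_cj'.1 hg
    exact conj_mem_of_relIndex_two iS US y1 (mem_sup_left (h.DT hd))
  by_cases c : cj y (R S a) ≤ T
  · refine y2 (by_contra fun _ => ?_)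
    have n1 : ¬ cj y (R S a) ≤ R S a := fun e => y2 (mem_sup_left ⟨y1, mem_N_of_cj_le e⟩)
    have n2 : ¬ cj y (R S a) ≤ cj x (R S a) := fun e => y2 (by
      simpa using mul_mem xU (mem_sup_left (mem_inf.2 ⟨mul_mem (inv_mem h.xS) y1, mem_N_of_cj_le (by
        rwa [cj_mul, ← le_cj_iff])⟩ : x⁻¹ * y ∈ T)))
    obtain ⟨p, p1, p2⟩ := SetLike.not_le_iff_exists.1 n1
    obtain ⟨q, q1, q2⟩ := SetLike.not_le_iff_exists.1 n2
    have pq := mul_mem p1 q1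
    rcases inv _ (c pq) (el' y _ pq) with e | e
    · exact p2 ((mul_mem_cancel_right ((inv _ (c q1) (el' y _ q1)).resolve_right q2)).1 e)
    · exact q2 ((mul_mem_cancel_left ((inv _ (c p1) (el' y _ p1)).resolve_left p2)).1 e)
  obtain ⟨p, p1, p2⟩ := SetLike.not_le_iff_exists.1 c
  have px : p * x ∈ T := ((mem p).1 (AU p1)).resolve_left p2
  have AZ : cj y (R S a) ⊓ T ≤ R S a ⊓ cj x (R S a) := fun g hg => by
    have c := abc (h.ab.cj y) p1 hg.1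
    have e : x⁻¹ * g * x = (p * x)⁻¹ * g * (p * x) := by nth_rw 1 [← cj_of_comm c.inv_left]; group
    have k : g ∈ R S a ↔ g ∈ cj x (R S a) := by
      rw [mem_cj, e]; exact mem_normalizer_iff''.1 px.2 g
    exact (inv g hg.2 (el' y g hg.1)).elim (fun e => ⟨e, k.1 e⟩) fun e => ⟨k.2 e, e⟩
  have iA : (cj y (R S a) ⊓ T).relIndex (cj y (R S a)) = 2 := relIndex_eq_two_of p1 (fun e => p2 e.2) fun g hg =>
    or_iff_not_imp_left.2 fun n => mem_inf.2 ⟨mul_mem hg (inv_mem p1),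
      mul_inv_mem_of_relIndex_two iU (AU hg) (AU p1) (fun e => n ⟨hg, e⟩) p2⟩
  have AZ' := eq_of_card_eq AZ (by
    have h1 := card_mul_relIndex (inf_le_left : R S a ⊓ cj x (R S a) ≤ _)
    have h2 := card_mul_relIndex (inf_le_left : cj y (R S a) ⊓ T ≤ _)
    rw [h.idx] at h1; rw [iA, card_cj] at h2; omega)
  have cU : ∀ d ∈ R S a ⊓ C1(u) ⊓ C1(v), ∀ g ∈ U, Commute g d := fun d hd g hg => by
    have k : ∀ g ∈ T, Commute g d := fun g hg => (h.decT hg).elim (fun e => abc h.ab e hd.1.1) fun e => by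
      simpa using (abc h.ab e hd.1.1).mul_left (mem_C1'.1 hd.1.2).symm
    by_cases c : g ∈ T
    · exact k g c
    simpa using (k _ (mul_inv_mem_of_relIndex_two iU hg (AU p1) c p2)).mul_left
      (abc (h.ab.cj y) p1 ((h.Z0.symm.trans AZ'.symm).le hd.1).1)
  have yU : ∀ g ∈ U, y⁻¹ * g * y ∈ U := fun g hg => by simpa using conj_mem_of_relIndex_two iS US (inv_mem y1) hg
  have cZ : ∀ d ∈ R S a ⊓ C1(u) ⊓ C1(v), y * d * y⁻¹ ∈ R S a ⊓ C1(u) := fun d hd => by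
    have k : ∀ g ∈ T, Commute (y * d * y⁻¹) g := fun g hg => by
      simpa [mul_assoc] using comm_cj (cU d hd _ (yU g (mem_sup_left hg))).symm y
    exact ⟨mem_R.2 ⟨mul_mem (mul_mem y1 (mem_R.1 hd.1.1).1) (inv_mem y1), k a (h.DT h.aD)⟩, mem_C1'.2 (k u uT)⟩
  have fin : ∀ d ∈ R S a ⊓ C1(u) ⊓ C1(v), d ≠ 1 → ¬ Commute y d := fun d hd d1 c => by
    obtain ⟨s, s1, s2⟩ := h.nc hd d1
    by_cases c' : s ∈ U
    · exact s2 (cU d hd s c')
    exact s2 (by simpa using (cU d hd _ (mul_inv_mem_of_relIndex_two iS s1 y1 c' y2)).mul_left c)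
  have fin' : ∀ d ∈ R S a ⊓ C1(u) ⊓ C1(v), d ≠ 1 → y * d * y⁻¹ ∉ R S a ⊓ C1(u) ⊓ C1(v) := fun d hd d1 c => by
    refine fin _ (mul_mem hd c) (fun e => fin d hd d1 (comm_of_cj ?_)) (comm_of_cj ?_)
    · rw [eq_inv_of_mul_eq_one_right e, inv_eq_of_mul_eq_one_right (h2 d hd)]
    · rw [← conj_mul, show y * (y * d * y⁻¹) * y⁻¹ = y * y * d * (y * y)⁻¹ by group,
        cj_of_comm (cU d hd _ (mul_mem_of_relIndex_two iS y1 y1 y2 y2)), (abc h.ab hd.1.1 c.1.1).eq]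
  have c4 := h.cardC
  have : Fintype (R S a ⊓ C1(u) ⊓ C1(v) : Subgroup G) := Fintype.ofFinite _
  obtain ⟨d, e, f, n1, n2, n3⟩ := Fintype.two_lt_card_iff.1 (show 2 < Fintype.card (R S a ⊓ C1(u) ⊓ C1(v) : Subgroup G) by
    rw [← Nat.card_eq_fintype_card]; omega)
  have k1 := (d⁻¹ * e).2
  have k2 := (f⁻¹ * d).2
  have o : ∀ p q : (R S a ⊓ C1(u) ⊓ C1(v) : Subgroup G), p ≠ q → ((p⁻¹ * q : (R S a ⊓ C1(u) ⊓ C1(v) : Subgroup G)) : G) ≠ 1 :=
    fun p q n e => n (eq_of_inv_mul_eq_one (Subtype.ext e))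
  refine fin' _ (f⁻¹ * e).2 (o _ _ n3.symm) ?_
  simpa [mul_assoc] using mul_mem_of_relIndex_two h.iC (cZ _ k2) (cZ _ k1) (fin' _ k2 (o _ _ n2.symm)) (fin' _ k1 (o _ _ n1))

end Ab

theorem Su.card_le_four (h : Su S z a) (hS : Nat.card S = 128) (hp : commutator G = ⊤) : Nat.card (R S a) ≤ 4 := by
  by_contra! c
  obtain ⟨h1, h2⟩ := h.card_T hS
  have h3 := Nat.le_of_dvd (by norm_num) h1
  obtain ⟨k, hk, e⟩ := (Nat.dvd_prime_pow Nat.prime_two).1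
    (((card_dvd_of_le h.DT).trans h1).trans (by rfl : 64 = 2 ^ 6).dvd)
  have h4 : Nat.card (R S a) = 8 ∨ Nat.card (R S a) = 16 := by
    have := h.d5 hS
    rw [e] at c h2 this ⊢
    interval_cases k <;> omega
  obtain ⟨x, u, v, w, w', A⟩ := h.exists_ab (h.abel (by omega))
  have c4 := A.cardC
  set C := R S a ⊓ C1(u) ⊓ C1(v)
  have fin : ∀ t ∈ C, t ≠ 1 → t * t = 1 → ¬ ∀ d ∈ C, d = 1 ∨ d = t ∨ d * d = t := fun t h1 h2 h3 h4 =>
    (A.cy h1 h2 h3 h4).not_mem_der (by simpa using (piNat_compl_iff Nat.prime_two).1 h.syl.idx) (hp ▸ mem_top t)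
  have pC : IsPGroup 2 C := h.two.to_le (inf_le_left.trans (inf_le_left.trans inf_le_left))
  rcases h4 with h4 | h4
  · obtain ⟨t, t1, t2⟩ := exists_involution_mem (H := C) (by rw [show Nat.card C = 2 by omega]; exact even_two)
    refine fin t t1 (ne_one_of_orderOf t2) (mul_self_of_orderOf t2) fun d hd => ?_
    rw [← eq_of_card_eq (zpowers_le.2 t1) (by rw [Nat.card_zpowers, t2]; omega)] at hd
    exact (eq_one_or_eq_of_mem_zpowers (mul_self_of_orderOf t2) hd).imp_right .inl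
  by_cases c : ∀ d ∈ C, d * d = 1
  · exact A.e16 hS h4 c
  push Not at c
  obtain ⟨c, c1, c2⟩ := c
  have o : orderOf c = 4 := by
    obtain ⟨k, hk, e⟩ := (Nat.dvd_prime_pow Nat.prime_two).1 ((orderOf_dvd_natCard C c1).trans
      (show Nat.card C = 2 ^ 2 by omega).dvd)
    interval_cases k
    · exact (c2 (by rw [orderOf_eq_one_iff.1 e, one_mul])).elim
    · exact (c2 (mul_self_of_orderOf e)).elim
    · exact e
  have p4 : c * c * (c * c) = 1 := by rw [← pow_orderOf_eq_one c, o]; simp only [pow_succ, pow_zero, one_mul, mul_assoc]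
  refine fin _ (mul_mem c1 c1) c2 p4 fun d hd => ?_
  rw [← eq_of_card_eq (zpowers_le.2 c1) (by rw [Nat.card_zpowers, o]; omega)] at hd
  obtain ⟨i, rfl⟩ := exists_pow_of_mem_zpowers hd
  rw [← pow_mod_orderOf, o]
  have := Nat.mod_lt i (show 0 < 4 by norm_num)
  generalize i % 4 = j at this
  interval_cases j
  · simp
  · simp
  · simp [pow_two]
  · exact .inr (.inr (by rw [← mul_one (c * c), ← p4]; simp only [pow_succ, pow_zero, one_mul, mul_assoc]))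

end H5.MS
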