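import Cfsg.Agent.S3501
import Cfsg.Agent.H21.Crit
import Cfsg.Agent.H18.Rank

/-! A nonabelian minimal normal subgroup `M` with a simple factor `T` (`Soc M T`); derangements in primitive groups
that are neither affine nor almost simple (`tri`). -/

set_option autoImplicit false
set_option linter.unusedSectionVars false
set_option linter.unusedVariables false

open Subgroup Cfsg H18 MulAction Cfsg.Agent.S3501

namespace H5.PA

variable {G : Type*} [Group G] [Finite G] {A B H K L M T : Subgroup G} {a b g h s t x y : G}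

/-- almost simple -/
abbrev AS (G : Type*) [Group G] : Prop :=
  ∃ T : Subgroup G, T.Normal ∧ IsSimpleGroup T ∧ ¬ IsMulCommutative T ∧ centralizer (T : Set G) = ⊥

/-- `T` is a simple factor of the nonabelian minimal normal subgroup `M` -/
structure Soc (M T : Subgroup G) : Prop where
  mn : MinNorm M ⊤
  le : T ≤ M
  mt : MinNorm T M
  nj : ∀ g, M ≤ N(cj g T)
  di : ∀ g, cj g T = T ∨ cj g T ≤ C(T)
  gen : M ≤ T ⊔ M ⊓ C(T)
  TC : T ⊓ C(T) = ⊥

theorem exists_soc (hM : MinNorm M ⊤) (hab : ¬ Abel M) : ∃ T, Soc M T := by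
  have Z0 : Z(M) = ⊥ := (hM.eq_bot_or inf_le_left (norm_Z hM.norm)).resolve_right fun e => hab (e.ge.trans inf_le_right)
  obtain ⟨T, TM, hT⟩ := exists_minNorm hM.ne_bot (le_normalizer (H := M))
  have n : ∀ g, M ≤ N(cj g T) := fun g => by
    rw [← cj_eq_self (hM.norm (mem_top g)), ← cj_N]; exact cj_mono hT.norm
  have le : ∀ g, cj g T ≤ M := fun g => (cj_mono TM).trans (cj_eq_self (hM.norm (mem_top g))).le
  have di : ∀ g : G, cj g T = T ∨ cj g T ≤ C(T) := fun g =>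
    (hT.le_or_disj (n g)).imp (fun k => (eq_of_le_of_card_ge k card_cj.le).symm) fun k =>
      cent_of_inf_eq_bot ((le g).trans hT.norm) (TM.trans (n g)) (by rwa [inf_comm])
  have gen : M ≤ T ⊔ M ⊓ C(T) := by
    have := hM.min (⨆ g, cj g T) (iSup_le le) (fun e => hT.ne_bot (eq_bot_iff.2 (e ▸ le_iSup_of_le 1 cj_one.ge)))
      fun g _ => mem_N_of_cj_le (by
        rw [cj_iSup]; exact iSup_le fun g' => le_iSup_of_le (g * g') cj_mul.ge)
    exact this.ge.trans (iSup_le fun g => (di g).elim (fun e => e.le.trans le_sup_left) fun e =>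
      (le_inf (le g) e).trans le_sup_right)
  exact ⟨T, hM, TM, hT, n, di, gen, eq_bot_iff.2 (Z0 ▸ le_inf (inf_le_left.trans TM) (cent_comm.1 (gen.trans
    (sup_le (cent_comm.1 inf_le_right) (inf_le_right.trans (C_anti inf_le_left))))))⟩

namespace Soc
variable (S : Soc M T)
include S

theorem normal : M.Normal := norm_top_iff.1 S.mn.norm

theorem one (h1 : x ∈ T) (h2 : x ∈ C(T)) : x = 1 := mem_bot.1 (S.TC.le ⟨h1, h2⟩)

theorem simple (h1 : K ≤ T) (h2 : T ≤ N(K)) : K = ⊥ ∨ K = T :=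
  S.mt.eq_bot_or h1 (S.gen.trans (sup_le h2 (cent_norm (inf_le_right.trans (C_anti h1)))))

theorem na : ¬ Abel T := fun e => S.mt.ne_bot (eq_bot_iff.2 fun x hx => S.one hx (e hx))

theorem ns : ¬ Solv T := fun e => S.na (S.mt.abel e)

theorem dec (m : x ∈ M) : ∃ t ∈ T, ∃ c ∈ M ⊓ C(T), x = t * c :=
  (mem_sup_of_cent (cent_comm.1 inf_le_right)).1 (S.gen m)

theorem cj_le (g : G) : cj g T ≤ M := (cj_mono S.le).trans (cj_eq_self (S.mn.norm (mem_top g))).le

theorem eq (n : ∀ g, cj g T = T) : T = M := S.mn.min T S.le S.mt.ne_bot fun g _ => mem_N_iff_cj.2 (n g)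

theorem as (n : ∀ g, cj g T = T) (c : C(T) = ⊥) : AS G := by
  refine ⟨T, norm_top_iff.1 fun g _ => mem_N_iff_cj.2 (n g), ?_, fun k => S.na (abel_of_comm k), c⟩
  have := (Subgroup.nontrivial_iff_ne_bot T).2 S.mt.ne_bot
  refine ⟨fun K n => (S.simple (map_subtype_le K) nml_map_subtype.norm).imp (fun e => ?_) fun e => ?_⟩
  · exact (map_eq_bot_iff_of_injective _ T.subtype_injective).1 e
  · exact map_injective T.subtype_injective (e.trans (by rw [← MonoidHom.range_eq_map, range_subtype]))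

theorem primes : ∃ x ∈ T, ∃ y ∈ T, ∃ z ∈ T, (orderOf x).Prime ∧ (orderOf y).Prime ∧ (orderOf z).Prime ∧
    orderOf x ≠ orderOf y ∧ orderOf x ≠ orderOf z ∧ orderOf y ≠ orderOf z := by
  have ex : ∀ p q, p.Prime → q.Prime → ∃ x ∈ T, (orderOf x).Prime ∧ p ≠ orderOf x ∧ q ≠ orderOf x :=
    fun p q hp hq => by
      by_contra! c
      refine S.ns (H21.solv_paqb hp hq fun r hr hd => or_iff_not_imp_left.2 fun n => ?_)
      obtain ⟨x, hx, rfl⟩ := cauchy hr hd
      exact (c x hx hr (Ne.symm n)).symm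
  obtain ⟨x, hx, h1, -⟩ := ex 2 2 Nat.prime_two Nat.prime_two
  obtain ⟨y, hy, h3, h4, -⟩ := ex _ _ h1 h1
  obtain ⟨z, hz, h5, h6, h7⟩ := ex _ _ h1 h3
  exact ⟨x, hx, y, hy, z, hz, h1, h3, h5, h4, h6, h7⟩

end Soc

variable {Ω : Type*} [MulAction G Ω] [FaithfulSMul G Ω]

theorem fa (h : ∀ ω : Ω, g • ω = ω) : g = 1 := eq_of_smul_eq_smul (α := Ω) (by simpa using h)

theorem tr (hp : IsPreprimitive G Ω) (n : M.Normal) (h : M ≠ ⊥) (x y : Ω) : ∃ m ∈ M, m • x = y := by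
  have := IsQuasiPreprimitive.isPretransitive_of_normal (G := G) (X := Ω) (N := M) fun e => h (eq_bot_iff.2
    fun m hm => fa fun ω : Ω => (e.ge (Set.mem_univ ω)) ⟨m, hm⟩)
  obtain ⟨m, e⟩ := exists_smul_eq M x y
  exact ⟨m, m.2, e⟩

theorem semi {a : Ω} (k : ∀ ω : Ω, ∃ c ∈ A, c • a = ω) (ht : t ∈ C(A)) (t1 : t ≠ 1) (ω : Ω) : t • ω ≠ ω :=
  fun e => t1 (fa fun ω' : Ω => by
    obtain ⟨c, hc, rfl⟩ := k ω
    obtain ⟨c', hc', rfl⟩ := k ω'
    rw [← mul_smul, ← ht c hc, mul_smul] at e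
    rw [← mul_smul, ← ht c' hc', mul_smul, smul_left_cancel c e])

theorem top_ne (hp : IsPreprimitive G Ω) {a b : Ω} (ab : a ≠ b) : (⊤ : Subgroup G) ≠ ⊥ := fun e => by
  obtain ⟨g, k⟩ := exists_smul_eq G a b
  rw [mem_bot.1 (e.le (mem_top g)), one_smul] at k
  exact ab k

theorem reg (hp : IsPreprimitive G Ω) (n : M.Normal) (h : M ≠ ⊥) (ab : Abel M) (ω : Ω) : stabilizer M ω = ⊥ :=
  eq_bot_iff.2 fun m hm => by_contra fun k => semi (tr hp n h ω) (ab m.2) (fun e => k (Subtype.ext e)) ω hm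

/-- many derangements outside the affine and the almost simple case -/
theorem tri [Fintype Ω] (hp : IsPreprimitive G Ω) {a b : Ω} (ab : a ≠ b) : (∃ M : Subgroup G, MinNorm M ⊤ ∧ Abel M) ∨ AS G ∨
    ∃ (f : Fin 3 → G) (o : Fin 3 → ℕ), Function.Injective o ∧ (∀ i, (o i).Prime ∧ o i ∣ orderOf (f i) ∧ ∀ ω : Ω, f i • ω ≠ ω) ∧
      ∀ i j g, g * f i * g⁻¹ = f j → i = j := by
  obtain ⟨M, -, hM⟩ := exists_minNorm (top_ne hp ab) (le_top.trans N_top.ge)
  refine or_iff_not_imp_left.2 fun n => or_iff_not_imp_left.2 fun nas => ?_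
  obtain ⟨T, S⟩ := exists_soc hM fun e => n ⟨M, hM, e⟩
  obtain ⟨s, hs, ps, inj⟩ : ∃ s : Fin 3 → G, (∀ i, s i ∈ T) ∧ (∀ i, (orderOf (s i)).Prime) ∧
      Function.Injective fun i => orderOf (s i) := by
    obtain ⟨x, hx, y, hy, z, hz, h1, h2, h3, h4, h5, h6⟩ := S.primes
    refine ⟨![x, y, z], fun i => ?_, fun i => ?_, fun i j => ?_⟩
    · fin_cases i <;> assumption
    · fin_cases i <;> assumption
    · fin_cases i <;> fin_cases j <;> simp [*, h4.symm, h5.symm, h6.symm]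
  by_cases tC : ∀ ω : Ω, ∃ c ∈ C(T), c • a = ω
  · exact ⟨s, _, inj, fun i => ⟨ps i, dvd_rfl, semi tC (cent_comm.1 le_rfl (hs i)) fun e => (ps i).ne_one (by simp [e])⟩,
      fun i j g e => inj (by simp only [← e, orderOf_conj])⟩
  obtain ⟨g, hg⟩ : ∃ g, cj g T ≤ C(T) := by
    by_contra! k
    have k := fun g => (S.di g).resolve_right (k g)
    exact nas (S.as k (by_contra fun c => tC (tr hp (norm_top_iff.1 (norm_C fun g _ => mem_N_iff_cj.2 (k g))) c a)))
  push Not at tC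
  obtain ⟨ω, hω⟩ := tC
  obtain ⟨t, ht, k⟩ := exists_der (T := T) (C := C(T)) le_rfl (a := a) (fun ω => by
    obtain ⟨m, hm, e⟩ := tr hp S.normal hM.ne_bot a ω
    obtain ⟨s, hs, c, hc, rfl⟩ := S.dec hm
    exact ⟨s, hs, c, hc.2, e⟩) hω
  have t1 : ¬ t ∈ C(T) := fun e => k 1 (one_mem _) a (by simp [S.one ht e])
  have m := fun i => conj_mem_cj (g := g) (hs i)
  refine ⟨fun i => t * (g * s i * g⁻¹), _, inj, fun i => ⟨ps i, ?_, k _ (hg (m i))⟩, fun i j h e => inj ?_⟩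
  · have c : Commute t (g * s i * g⁻¹) := hg (m i) t ht
    have e := pow_orderOf_eq_one (t * (g * s i * g⁻¹))
    rw [c.mul_pow, ← eq_inv_iff_mul_eq_one] at e
    rw [← orderOf_conj (g := g), orderOf_dvd_iff_pow_eq_one, ← inv_eq_one, ← e]
    exact S.one (pow_mem ht _) (e ▸ inv_mem (pow_mem (hg (m i)) _))
  have o : ∀ i, orderOf (s i) = orderOf (g * s i * g⁻¹) := fun i => orderOf_conj.symm
  simp only [o] at e ⊢
  have mi := m i
  have mj := hg (m j)
  generalize g * s i * g⁻¹ = u at *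
  generalize g * s j * g⁻¹ = v at *
  have e : h * t * h⁻¹ * (h * u * h⁻¹) = t * v := by rw [← e]; group
  have m1 := conj_mem_cj (g := h) ht
  have m2 := conj_mem_cj (g := h) mi
  have un : ∀ a ∈ T, ∀ b ∈ C(T), a * b = t * v → a = t ∧ b = v := fun a ha b hb e => by
    have l : t⁻¹ * a = v * b⁻¹ := by rw [inv_mul_eq_iff_eq_mul, ← mul_assoc, ← e]; group
    have k := S.one (mul_mem (inv_mem ht) ha) (l ▸ mul_mem mj (inv_mem hb))
    exact ⟨(inv_mul_eq_one.1 k).symm, (mul_inv_eq_one.1 (l ▸ k)).symm⟩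
  obtain l | l := S.di h
  · rw [← (un _ (l.le m1) _ (by rw [← l, ← cj_C]; exact conj_mem_cj (hg mi)) e).2, orderOf_conj]
  rw [cj_cj] at m2
  obtain l' | l' := S.di (h * g)
  · obtain ⟨e1, e2⟩ := un _ (l'.le m2) _ (l m1) ((l m1 _ (l'.le m2)).trans e)
    rw [← e2, orderOf_conj, ← e1, orderOf_conj]
  · exact (t1 ((Subgroup.mul_mem_cancel_right _ mj).1 (e ▸ mul_mem (l m1) (l' m2)))).elim

end H5.PA
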