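import Cfsg.Agent.H5.PA1

/-! Extremely primitive groups in terms of the point stabilizer (`EP H`): with a nonabelian minimal normal subgroup
such a group is almost simple (`EP.as`). -/

set_option autoImplicit false
set_option linter.unusedSectionVars false
set_option linter.unusedVariables false

open Subgroup Cfsg H18 MulAction

namespace H5.PA

variable {G : Type*} [Group G] [Finite G] {A B H K L M T : Subgroup G} {a b g h s t x y : G}

/-- `H` is a core-free maximal subgroup, primitive on each of its orbits on the cosets of `H` -/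
structure EP (H : Subgroup G) : Prop where
  co : IsCoatom H
  cf : ∀ K ≤ H, K.Normal → K = ⊥
  mx : ∀ g B, H ⊓ cj g H ≤ B → B ≤ H → B = H ⊓ cj g H ∨ B = H

theorem cj_stab {Ω : Type*} [MulAction G Ω] (a : Ω) (g : G) : stabilizer G (g • a) = cj g (stabilizer G a) :=
  stabilizer_smul_eq_stabilizer_map_conj g a

theorem ep {Ω : Type*} [MulAction G Ω] [FaithfulSMul G Ω] [Nontrivial Ω] (hp : IsPreprimitive G Ω) (a : Ω)
    (hep : ∀ ω : Ω, IsPreprimitive (stabilizer G a) (orbit (stabilizer G a) ω)) : EP (stabilizer G a) := by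
  refine ⟨IsPreprimitive.isCoatom_stabilizer_of_isPreprimitive G a, fun K k n => by_contra fun e => ?_,
    fun g B h1 h2 => ?_⟩
  · obtain ⟨b, hb⟩ := exists_ne a
    obtain ⟨m, hm, e⟩ := tr hp n e a b
    exact hb (e.symm.trans (k hm))
  rw [← cj_stab] at h1 ⊢
  have := hep (g • a)
  obtain l | l := subsingleton_or_nontrivial (orbit (stabilizer G a) (g • a))
  · exact .inr (le_antisymm h2 fun x hx => h1 ⟨hx, congrArg Subtype.val
      (l.elim ⟨_, mem_orbit _ (⟨x, hx⟩ : stabilizer G a)⟩ ⟨_, mem_orbit_self _⟩)⟩)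
  have c := IsPreprimitive.isCoatom_stabilizer_of_isPreprimitive (stabilizer G a)
    (⟨_, mem_orbit_self (g • a)⟩ : orbit (stabilizer G a) (g • a))
  refine (c.le_iff.1 (show _ ≤ B.subgroupOf _ from fun x hx => h1 ⟨x.2, congrArg Subtype.val hx⟩)).symm.imp
    (fun e => le_antisymm (fun x hx => ⟨h2 hx, congrArg Subtype.val (e.le (show ⟨x, h2 hx⟩ ∈ _ from hx))⟩) h1)
    fun e => le_antisymm h2 (subgroupOf_eq_top.1 e)

/-- commuting conjugates generate an abelian invariant subgroup -/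
theorem abc (c : ∀ g ∈ K, Commute s (g * s * g⁻¹)) (n : K ≤ N(L)) (m : s ∈ L) :
    ∃ A, s ∈ A ∧ Abel A ∧ K ≤ N(A) ∧ A ≤ L := by
  have k : ∀ g : K, ∀ h : K, zpowers (g * s * (g : G)⁻¹) ≤ C(zpowers (h * s * (h : G)⁻¹)) := fun g h => by
    rw [C_zpowers, zpowers_le, mem_C1]
    simpa [mul_assoc] using ((c _ (mul_mem (inv_mem g.2) h.2)).conj g).eq
  refine ⟨⨆ g : K, zpowers (g * s * (g : G)⁻¹), le_iSup (fun g : K => zpowers (g * s * (g : G)⁻¹)) 1 (by simp),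
    iSup_le fun g => cent_iSup (k g), fun g hg => mem_N_of_cj_le ?_, iSup_le fun g => zpowers_le.2 (conj_mem n g.2 m)⟩
  rw [cj_iSup]
  exact iSup_le fun h => le_iSup_of_le (⟨g, hg⟩ * h) (by rw [cj_zpowers]; simp [mul_assoc])

theorem Soc.inv (S : Soc M T) : ∃ t ∈ T, ∃ s ∈ T, s * t * s⁻¹ = t⁻¹ ∧ t * t ≠ 1 := by
  obtain ⟨s, hs, o⟩ := cauchy Nat.prime_two (H1.two_dvd_of_not_solv S.ns)
  have s2 : s * s = 1 := by rw [← sq, ← o, pow_orderOf_eq_one]
  have s3 : s⁻¹ = s := inv_eq_of_mul_eq_one_right s2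
  by_contra! k
  obtain ⟨A, h1, h2, h3, h4⟩ := abc (K := T) (fun g hg => by
    have e : (g * s * g⁻¹)⁻¹ = g * s * g⁻¹ := by rw [conj_inv, s3]
    have := k _ (mul_mem hs (conj_mem le_N hg hs)) s hs (by rw [mul_inv_rev, e, ← mul_assoc, s2, one_mul])
    rw [commute_iff_eq, ← inv_eq_of_mul_eq_one_right this, mul_inv_rev, e, s3]) le_N hs
  obtain rfl | rfl := S.simple h4 h3
  · rw [mem_bot.1 h1] at o; simp at o
  · exact S.na h2

namespace EP
variable (E : EP H)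
include E

theorem bot (h1 : K ≤ H) (h2 : H ≤ N(K)) (h3 : g ∈ N(K)) (h4 : g ∉ H) : K = ⊥ :=
  E.cf K h1 (norm_top_iff.1 (E.co.2 _ (lt_of_le_of_ne h2 fun e => h4 (e.ge h3))).ge)

theorem dec (n : L.Normal) (h : L ≠ ⊥) (g : G) : ∃ l ∈ L, ∃ h ∈ H, g = l * h :=
  (mem_sup_of_norm' norm_of_normal).1 ((E.co.2 _ (lt_of_le_of_ne le_sup_right fun e =>
    h (E.cf L (le_sup_left.trans e.ge) n))).ge (mem_top g))

theorem trn (n : L.Normal) (h0 : L ⊓ H ≠ ⊥) (hg : g ∉ H) (m : h ∈ H) : ∃ k ∈ L ⊓ H, g⁻¹ * (k⁻¹ * h) * g ∈ H := by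
  have n1 : H ≤ N(L ⊓ H) := norm_inf norm_of_normal le_N
  obtain e | e := E.mx g (L ⊓ H ⊔ H ⊓ cj g H) le_sup_right (sup_le inf_le_right inf_le_left)
  · refine (h0 (E.bot inf_le_right n1 (mem_N_iff_cj.2 (eq_of_le_of_card_ge ?_ card_cj.le).symm) hg)).elim
    rw [cj_inf, cj_eq_self (norm_of_normal (mem_top g))]
    exact le_inf inf_le_left ((le_sup_left.trans e.le).trans inf_le_right)
  obtain ⟨k, hk, x, hx, rfl⟩ := (mem_sup_of_norm' (inf_le_left.trans n1)).1 (e.ge m)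
  exact ⟨k, hk, by simpa using mem_cj.1 hx.2⟩

theorem not_le (S : Soc M T) : ¬ T ≤ H := fun l => S.mt.ne_bot (eq_bot_iff.2 ((E.cf _ (normalCore_le H)
  inferInstance) ▸ fun t ht g => by
    obtain ⟨m, hm, h, hh, e⟩ := E.dec S.normal S.mn.ne_bot g⁻¹
    rw [inv_eq_iff_eq_inv.1 e, inv_inv, mul_inv_rev, mul_assoc, mul_assoc, ← mul_assoc t, ← mul_assoc m⁻¹,
      ← mul_assoc m⁻¹]
    exact mul_mem (inv_mem hh) (mul_mem (l (conj_mem' S.mt.norm hm ht)) hh)))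

theorem diag (S : Soc M T) (P : ∀ t ∈ T, ∃ y ∈ C(T), t * y ∈ H) : False := by
  have cn : ∀ s ∈ T, ∀ y ∈ C(T), ∀ t ∈ T, s * y * t * (s * y)⁻¹ = s * t * s⁻¹ := fun s _ y hy t ht => by
    rw [mul_assoc s, ← hy t ht]; group
  have R : ∀ t ∈ T, t ∈ H → t = 1 := fun t ht m => by
    refine mem_bot.1 (((S.simple (K := T ⊓ H) inf_le_left (norm_iff.2 fun s hs r hr => ?_)).resolve_right
      fun e => E.not_le S (e.ge.trans inf_le_right)).le ⟨ht, m⟩)
    obtain ⟨y, hy, k⟩ := P s hs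
    exact ⟨conj_mem le_N hs hr.1, cn s hs y hy r hr.1 ▸ conj_mem le_N k hr.2⟩
  have J : ∀ t ∈ T, H ⊓ cj t H ≤ H ⊓ cj t⁻¹ H := fun t ht h ⟨h1, h2⟩ => by
    have k : t⁻¹ * (h * t * h⁻¹) ∈ H := by simpa [mul_assoc] using mul_mem (mem_cj.1 h2) (inv_mem h1)
    have c : Commute t (h * t * h⁻¹) := (S.di h).elim (fun e => by
      rw [← inv_mul_eq_one.1 (R _ (mul_mem (inv_mem ht) (e.le (conj_mem_cj ht))) k)]) fun e => e (conj_mem_cj ht) t ht
    refine ⟨h1, mem_cj.2 ?_⟩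
    have := mul_mem (inv_mem k) h1
    rw [mul_inv_rev, inv_inv, ← c.inv_right.eq] at this
    simpa [mul_assoc] using this
  obtain ⟨t, ht, s, hs, e, n⟩ := S.inv
  have J' : H ⊓ cj t⁻¹ H = H ⊓ cj t H := le_antisymm (by simpa using J _ (inv_mem ht)) (J t ht)
  obtain ⟨y, hy, d⟩ := P s hs
  have e' := (cn s hs y hy t ht).trans e
  have dn : s * y ∈ N(H ⊓ cj t H) := by
    rw [mem_N_iff_cj, cj_inf, cj_eq_self_of_mem d, cj_cj, mul_inv_eq_iff_eq_mul.1 e', cj_mul, cj_eq_self_of_mem d, J']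
  have t1 : t ≠ 1 := by rintro rfl; simp at n
  obtain l | l := E.mx t (H ⊓ N(H ⊓ cj t H)) (le_inf inf_le_left le_N) inf_le_left
  · have := mul_mem (mem_cj.1 (l.le ⟨d, dn⟩).2) (inv_mem d)
    rw [mul_assoc, mul_assoc, ← mul_assoc (s * y), e', ← mul_inv_rev] at this
    exact n (inv_eq_one.1 (R _ (inv_mem (mul_mem ht ht)) this))
  have := E.bot inf_le_left (l.ge.trans inf_le_right) (g := t⁻¹) (by
    rw [mem_N_iff_cj, cj_inf, cj_inv_cj, inf_comm, J']) fun m => t1 (R t ht (inv_mem_iff.1 m))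
  obtain ⟨z, hz, k⟩ := P t ht
  have := mem_bot.1 (this.le ⟨k, mem_cj.2 (by rwa [inv_mul_cancel_left, ← hz t ht])⟩)
  exact t1 (S.one ht (by rw [eq_inv_of_mul_eq_one_left this]; exact inv_mem hz))

theorem as (S : Soc M T) : AS G := by
  by_cases k : ∀ g, cj g T = T
  · refine S.as k (by_contra fun c => E.diag S fun t ht => ?_)
    obtain ⟨y, hy, h, hh, e⟩ := E.dec (norm_top_iff.1 (norm_C fun g _ => mem_N_iff_cj.2 (k g))) c t
    exact ⟨y⁻¹, inv_mem hy, by rw [inv_mem hy t ht, e, inv_mul_cancel_left]; exact hh⟩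
  exfalso
  obtain ⟨g, hg⟩ := not_forall.1 k
  obtain ⟨m, hm, h, hh, rfl⟩ := E.dec S.normal S.mn.ne_bot g
  rw [cj_mul, cj_eq_self (S.nj h hm)] at hg
  have := S.normal
  by_cases D : M ⊓ H = ⊥
  · obtain ⟨t, ht, t1⟩ := (T.bot_or_exists_ne_one).resolve_left S.mt.ne_bot
    have c : H ⊓ cj t H ≤ C1(t) := fun x ⟨h1, h2⟩ => by
      have := mem_bot.1 (D.le ⟨M.mul_mem (M.inv_mem (S.le ht)) (this.conj_mem _ (S.le ht) x),
        (by simpa [mul_assoc] using mul_mem (mem_cj.1 h2) (inv_mem h1) : t⁻¹ * (x * t * x⁻¹) ∈ H)⟩)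
      exact mem_C1.2 (mul_inv_eq_iff_eq_mul.1 (inv_mul_eq_one.1 this).symm)
    have l := (E.mx t (H ⊓ N(T)) (fun x hx => ⟨hx.1, mem_N_iff_cj.2 ((S.di x).resolve_right fun e => t1 (S.one ht
      (e (conj_eq_self_of_C1 (c hx) ▸ conj_mem_cj ht))))⟩) inf_le_left).resolve_right
        fun e => hg (cj_eq_self (e.ge hh).2)
    obtain ⟨A, h1, h2, h3, h4⟩ := abc (K := H) (fun g m => (S.di g).elim (fun e => by
      rw [conj_eq_self_of_C1 (c (l.le ⟨m, mem_N_iff_cj.2 e⟩))]) fun e => e (conj_mem_cj ht) t ht)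
      norm_of_normal (S.le ht)
    have := E.co.2 N(A) (lt_of_le_of_ne h3 fun e => t1 (mem_bot.1 (D.le ⟨S.le ht, e.ge (le_N h1)⟩)))
    exact S.na (h2.mono (S.le.trans (S.mn.min A h4 (fun e => t1 (mem_bot.1 (e.le h1))) this.ge).ge))
  refine E.diag S fun t ht => ?_
  by_cases tH : t ∈ H
  · exact ⟨1, one_mem _, by rwa [mul_one]⟩
  obtain ⟨k, hk, e⟩ := E.trn this D (g := t⁻¹) (by simpa using tH) hh
  refine ⟨_, (S.di h).resolve_left hg (conj_mem' (S.nj h) hk.1 (conj_mem_cj (inv_mem ht))), ?_⟩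
  simpa [mul_assoc] using mul_mem (mul_mem e (inv_mem hh)) hk.2

end EP

end H5.PA
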