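import Cfsg.Agent.H5.PA2
import Cfsg.Agent.H18.Bender

/-! A maximal invariant subgroup of odd index in a simple group has a self-paired suborbit that is not regular
(`bend`); point stabilizers of product type (`Soc.prod`). -/

set_option autoImplicit false
set_option linter.unusedSectionVars false
set_option linter.unusedVariables false

open Subgroup Cfsg H18 MulAction

namespace H5.PA

variable {G : Type*} [Group G] [Finite G] {A B H K L M P Q R T X Y : Subgroup G} {a b c g h s t x y : G}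

theorem gen_cj (sm : ∀ K ≤ T, T ≤ N(K) → K = ⊥ ∨ K = T) (h1 : Q ≤ T) (h0 : Q ≠ ⊥) (h : ∀ g ∈ T, cj g Q ≤ R) :
    T ≤ R := by
  obtain e | e := sm (⨆ g : T, cj (g : G) Q) (iSup_le fun g => cj_le_of_mem h1 g.2) fun g hg => mem_N_of_cj_le (by
    rw [cj_iSup]; exact iSup_le fun h => le_iSup_of_le (⟨g, hg⟩ * h) (by rw [cj_cj]; exact le_rfl))
  · exact (h0 (eq_bot_iff.2 ((le_iSup_of_le (1 : T) cj_one.ge).trans e.le))).elim
  · exact e.ge.trans (iSup_le fun g => h g g.2)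

theorem bend (sm : ∀ K ≤ T, T ≤ N(K) → K = ⊥ ∨ K = T) (ns : ¬ Solv T) (hR : R < T) (hP : Hall {2} P T) (PR : P ≤ R)
    (st : ∀ a ∈ T, a ∉ R → a * a ∈ R → R ⊓ cj a R = ⊥) (n1 : A ≤ N(T)) (n2 : A ≤ N(R))
    (mx : ∀ Y, R ≤ Y → Y < T → A ≤ N(Y) → Y ≤ R) : False := by
  have P0 := hP.ne_bot_p Nat.prime_two (H1.two_dvd_of_not_solv ns)
  have s2 : ∀ K ≤ R, K ≠ ⊥ → ∀ k : ℕ, ∀ x ∈ T, x ∈ N(K) → x ^ 2 ^ k = 1 → x ∈ R := fun K k1 k0 k => by
    induction k with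
    | zero => intro x _ _ e; rw [pow_zero, pow_one] at e; exact e ▸ one_mem _
    | succ k ih => exact fun x m n e => by_contra fun l => k0 (eq_bot_iff.2 (st x m l (ih _ (mul_mem m m) (mul_mem n n)
        (by rw [← sq, ← pow_mul, ← pow_succ', e])) ▸ le_inf k1 (cj_eq_self n ▸ cj_mono k1)))
  have c1 : ∀ K L : Subgroup G, K ≠ ⊥ → K ≤ L → L ≤ T → PiGrp {2} L → K ≤ R → L ≤ R := fun K L k0 k1 l p k2 =>
    by_contra fun n => (p.nil.lt_norm (inf_lt_left.2 n)).not_ge fun x hx => by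
      obtain ⟨k, e⟩ := p.isPGroup ⟨x, hx.1⟩
      exact ⟨hx.1, s2 _ inf_le_right (fun e => k0 (eq_bot_iff.2 (e ▸ le_inf k1 k2))) k x (l hx.1) hx.2
        (congrArg Subtype.val e)⟩
  let κ : Subgroup G → Subgroup G := fun K => sInf {X | ∃ g ∈ T, X = cj g R ∧ K ≤ X}
  have k1 : ∀ K, K ≤ κ K := fun K => le_sInf fun X ⟨_, _, _, l⟩ => l
  have k2 : ∀ n ∈ T, ∀ K, cj n (κ K) ≤ κ (cj n K) := fun n hn K => le_sInf (by
    rintro _ ⟨g, hg, rfl, l⟩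
    rw [cj_le_iff, cj_cj] at l ⊢
    exact sInf_le ⟨_, mul_mem (inv_mem hn) hg, rfl, l⟩)
  have k3 : ∀ n ∈ T, ∀ K, cj n (κ K) = κ (cj n K) := fun n hn K =>
    le_antisymm (k2 n hn K) (le_cj_iff.2 (by simpa using k2 _ (inv_mem hn) (cj n K)))
  have k4 : ∀ K L : Subgroup G, K ≠ ⊥ → K ≤ L → L ≤ T → PiGrp {2} L → κ K = κ L := fun K L k0 k1 l p => by
    refine congrArg sInf (Set.ext fun X => ⟨?_, fun ⟨g, hg, e, l⟩ => ⟨g, hg, e, k1.trans l⟩⟩)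
    rintro ⟨g, hg, rfl, m⟩
    exact ⟨g, hg, rfl, le_cj_iff.2 (c1 _ _ (by simpa using k0) (cj_mono k1) (cj_le_of_mem l (inv_mem hg)) (p.cj _)
      (le_cj_iff.1 m))⟩
  have k5 : κ P ≤ R := sInf_le ⟨1, one_mem _, cj_one.symm, PR⟩
  have PY : P ≤ T ⊓ N(κ P) := le_inf hP.le ((k1 P).trans le_N)
  have se : SEin (T ⊓ N(κ P)) T := by
    refine sein_of_norm (inf_lt_left.2 fun n => ?_) (even_iff_two_dvd.2 ((hP.pi.dvd_card P0).trans (card_dvd_of_le PY)))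
      fun K l p k0 n ⟨m1, m2⟩ => ⟨m1, ?_⟩
    · exact (sm _ (k5.trans hR.le) n).elim (fun e => P0 (eq_bot_iff.2 (e ▸ k1 P))) fun e => hR.not_ge (e.ge.trans k5)
    obtain ⟨y, hy, l⟩ := sylow_le_cj' Nat.prime_two (hP.of_le PY inf_le_left) p l
    have : κ K = κ P := by rw [k4 K _ k0 l (cj_le_of_mem hP.le hy.1) (hP.pi.cj y), ← k3 y hy.1, cj_eq_self hy.2]
    exact this ▸ mem_N_iff_cj.2 (by rw [k3 n m1, cj_eq_self m2])
  generalize T ⊓ N(κ P) = Y at *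
  have O0 : O[{2}ᶜ](T) = ⊥ := (sm _ pcore_nml.le pcore_nml.norm).resolve_right fun e => ns (e ▸ H1.solv_of_two' pcore_pi)
  have rk : 1 < prank 2 T := not_le.1 fun l => se.lt.ne (by simpa [O0] using se.sup_eq l)
  obtain ⟨Q, t, a1⟩ := bender_in se rk O0
  obtain rfl : Q = P := hP.eq_of_le (a1.two_le_Q PY hP.pi) (a1.sd.le_left.trans a1.leH) (A1.hallQ a1 rk).pi
  have nQ : Y ≤ N(Q) := a1.sd.nml.norm
  have RY : R ≤ Y := fun r hr => by_contra fun n => hR.not_ge (gen_cj sm hP.le P0 fun g hg => by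
    have br : ∀ g ∈ T, g ∉ Y → ∃ y ∈ Q, cj g Q = cj y (cj t Q) := fun g hg n => by
      obtain ⟨x, hx, y, hy, e⟩ := a1.bruhat g⁻¹ (inv_mem hg) (by simpa using n)
      exact ⟨y⁻¹, inv_mem hy, by rw [inv_eq_iff_eq_inv.1 e, mul_inv_rev, mul_inv_rev, inv_eq_of_mul_eq_one_right a1.tt,
        cj_mul, cj_mul, cj_eq_self (nQ (inv_mem hx))]⟩
    by_cases m : g ∈ Y
    · rwa [cj_eq_self (nQ m)]
    obtain ⟨y, hy, e⟩ := br g hg m
    obtain ⟨z, hz, e'⟩ := br r (hR.le hr) n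
    rw [e]
    exact cj_le_of_mem (cj_eq_iff.1 e'.symm ▸ cj_le_of_mem (cj_le_of_mem PR hr) (inv_mem (PR hz))) (PR hy))
  have hQ := hP.of_le PR hR.le
  have := le_antisymm (mx Y RY se.lt (a1.norm_Q ▸ norm_inf n1 (norm_N fun a ha => mem_N_iff_cj.2
    (hQ.eq_of_nml (RY.trans nQ) (hQ.cj_N (n2 ha)))))) RY
  subst this
  obtain ⟨k, hk, -, k1⟩ := a1.exists_K_ne rk
  exact k1 (mem_bot.1 ((st t a1.tL a1.tH (a1.tt ▸ one_mem _)).le hk))

theorem dec (co : IsCoatom X) (n : L.Normal) (h : ¬ L ≤ X) (g : G) : ∃ l ∈ L, ∃ h ∈ X, g = l * h :=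
  (mem_sup_of_norm' norm_of_normal).1 ((co.2 _ (lt_of_le_of_ne le_sup_right fun e =>
    h (le_sup_left.trans e.ge))).ge (mem_top g))

namespace Soc
variable (S : Soc M T) (co : IsCoatom X) (hX : ¬ M ≤ X)
include S co hX

theorem not_le : ¬ T ≤ X := fun l => hX ((S.mn.min (M ⊓ X.normalCore) inf_le_left (fun e => S.mt.ne_bot
  (eq_bot_iff.2 (e ▸ le_inf S.le fun t ht g => by
    obtain ⟨m, hm, h, hh, e⟩ := PA.dec co S.normal hX g⁻¹
    rw [inv_eq_iff_eq_inv.1 e, inv_inv, mul_inv_rev, mul_assoc, mul_assoc, ← mul_assoc t, ← mul_assoc m⁻¹,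
      ← mul_assoc m⁻¹]
    exact mul_mem (inv_mem hh) (mul_mem (l (conj_mem' S.mt.norm hm ht)) hh)))) (norm_inf S.mn.norm norm_of_normal)).ge.trans
      (inf_le_right.trans (normalCore_le X)))

theorem pmax (h1 : Y < T) (pr : ∀ t ∈ T, ∀ c ∈ M ⊓ C(T), t * c ∈ X → t ∈ Y) (n : X ⊓ N(T) ≤ N(Y)) : Y ≤ X := by
  have := S.normal
  have nW : ∀ g ∈ X, Y ≤ cj g (Y ⊔ M ⊓ C(T)) := fun g hg => (S.di g⁻¹).elim (fun e => by
    have e := inv_mem_iff.1 (mem_N_iff_cj.2 e)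
    rw [cj_sup, cj_eq_self (n ⟨hg, e⟩)]
    exact le_sup_left) fun e => le_cj_iff.2 ((le_inf ((cj_mono h1.le).trans (S.cj_le _))
      ((cj_mono h1.le).trans e)).trans le_sup_right)
  have cW : Y ≤ C(M ⊓ C(T)) := h1.le.trans (cent_comm.1 inf_le_right)
  have WM : Y ⊔ M ⊓ C(T) ≤ M := sup_le (h1.le.trans S.le) inf_le_left
  obtain ⟨Q, nQ, l1, l2⟩ : ∃ Q : Subgroup G, X ≤ N(Q) ∧ Q ≤ Y ⊔ M ⊓ C(T) ∧ Y ≤ Q := by
    generalize Y ⊔ M ⊓ C(T) = W at nW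
    exact ⟨⨅ g : X, cj (g : G) W, fun x hx => mem_N_of_cj_le (le_iInf fun g => by
      rw [cj_le_iff, cj_cj]; exact iInf_le (fun g : X => cj (g : G) W) ⟨_, mul_mem (inv_mem hx) g.2⟩),
      (iInf_le (fun g : X => cj (g : G) W) ⟨1, one_mem _⟩).trans cj_one.le, le_iInf fun g => nW g g.2⟩
  obtain e | e := co.le_iff.1 (le_sup_right (a := Q))
  swap
  · exact (l2.trans le_sup_left).trans e.le
  refine (h1.not_ge fun t ht => ?_).elim
  obtain ⟨q, hq, x, hx, e⟩ := (mem_sup_of_norm' nQ).1 (e.ge (mem_top t))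
  obtain ⟨y, hy, c, hc, rfl⟩ := (mem_sup_of_cent cW).1 (l1 hq)
  have m := mul_mem (inv_mem (h1.le hy)) ht
  exact (mul_mem_cancel_left (inv_mem hy)).1 (pr _ m _ (inv_mem hc) (by
    rw [(inv_mem hc).2 _ m, e]; simpa [mul_assoc] using hx))

theorem prod (h0 : T ⊓ X ≠ ⊥) (ht : t ∈ T) (hc : c ∈ M ⊓ C(T)) (m : t * c ∈ X) : t ∈ X := by
  have := S.normal
  have pr : ∀ t ∈ T, ∀ c ∈ M ⊓ C(T), t * c ∈ X → t ∈ T ⊓ (M ⊓ X ⊔ M ⊓ C(T)) := fun t ht c hc m =>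
    ⟨ht, by simpa using mul_mem_sup' (A := M ⊓ X) ⟨mul_mem (S.le ht) hc.1, m⟩ (inv_mem hc)⟩
  refine S.pmax co hX (inf_lt_left.2 fun l => ?_) pr (norm_inf inf_le_right (norm_sup
    (norm_inf norm_of_normal (inf_le_left.trans le_N)) (norm_inf norm_of_normal (norm_C inf_le_right)))) (pr t ht c hc m)
  refine (S.simple inf_le_left (norm_iff.2 fun s hs r hr => ⟨conj_mem le_N hs hr.1, ?_⟩)).elim h0
    fun e => S.not_le co hX (e.ge.trans inf_le_right)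
  obtain ⟨x, hx, c, hc, rfl⟩ := (mem_sup_of_norm (inf_le_left.trans (norm_inf le_N (norm_C S.mt.norm)))).1 (l hs)
  rw [mul_assoc x, ← hc.2 r hr.1]
  simpa [mul_assoc] using conj_mem le_N hx.2 hr.2

end Soc

end H5.PA
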