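import Cfsg.Agent.H5.Tw1

/-! Fixed point free coprime action of a nonabelian group of order `pq`: Fitting height at most two (`lns_two_of_pq`);
for `Sym(3)` the derived subgroup is nilpotent (`der_le_fit_of_six`). Tools: `tw_ind`, `ext_trick`, `mem_of_orbit`. -/

set_option autoImplicit false
open Cfsg H18 H19 Subgroup
open H1 (Cop cop_of_pi cop_of_pi')
open scoped commutatorElement ComplexConjugate

namespace H5
end H5
open H5
namespace H5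
variable {G : Type*} [Group G] {A B D H K L M P Q R U V X Y Z : Subgroup G} {x y c g a d : G} {p q r : ℕ}
  {θ χ ψ φ ξ : G → ℂ} [Finite G]

/-- reduction to class two modulo `C(V)` -/
theorem tw_ind (h : ∀ Q, Tw r q A P Q V → ⁅Q, P⁆ = Q → ⁅⁅Q, Q⁆, Q⁆ ≤ C(V) → Q ≤ C(V)) (Q : Subgroup G) :
    Tw r q A P Q V → ⁅Q, P⁆ ≤ C(V) := by
  refine H18.card_induction (P := fun Q => Tw r q A P Q V → ⁅Q, P⁆ ≤ C(V)) (fun Q ih t => ?_) Q
  rcases (comm_le_left t.nQ).lt_or_eq with h1 | h1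
  · rw [← t.cPQ.comm_comm]; exact ih _ (card_lt h1) t.comm
  by_cases hK : Q = ⊥
  · rw [h1, hK]; exact bot_le
  have n1 := norm_C t.nV'
  rw [h1]
  exact h Q t h1 (comm_le_of_comm_eq n1 (norm_C t.nV) (der_le.trans n1) h1 (comm_mono der_le le_rfl)
    (ih _ (card_lt (t.piQ.solv.der_lt hK)) t.der))

theorem Ty.der_le (y : Ty A Q K B ψ) (hK : MK Q V K) (hn : Q ≤ N(V)) (h : ⁅⁅Q, Q⁆, Q⁆ ≤ C(V)) :
    ⁅Q, Q⁆ ≤ zth Q (res Q ψ) :=
  le_zth y.rirr H18.der_le (y.ker ▸ (le_inf (comm_le_of_le H18.der_le le_rfl) h).trans (hK.cent_le hn))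

/-- extension of `ψ` from `Q B` to `Q R B` -/
theorem ext_trick (hψ : ψ ∈ irr (Q ⊔ B)) (hφ : res Q ψ ∈ irr Q) (hR : R ≤ inertia Q (res Q ψ)) (h1 : B ≤ N(Q))
    (h2 : B ≤ N(R)) (hd : (Q ⊔ R) ⊓ B = ⊥) (hc : (Nat.card Q).Coprime (Nat.card R * Nat.card B)) :
    ∃ η ∈ chars (Q ⊔ R ⊔ B), ∀ x ∈ Q ⊔ B, η x = ψ x := by
  have := Fintype.ofFinite G
  have hI : Q ⊔ R ⊔ B ≤ inertia Q (res Q ψ) := sup_le (sup_le (le_inertia (cf_of_irr hφ)) hR)
    (le_sup_right.trans (le_inertia_res (cf_of_irr hψ) (sup_le le_N h1)))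
  have hl : Q ⊔ B ≤ Q ⊔ R ⊔ B := sup_le_sup_right le_sup_left _
  obtain ⟨η, hη, e⟩ := H6.P.exists_ext_coprime ⟨le_sup_left.trans hl, hI.trans inertia_le_N⟩ hφ hI (by
    rw [sup_assoc, Nrm2.relIndex_sup' (Or.inr (sup_le (hR.trans inertia_le_N) h1))]
    exact hc.coprime_dvd_right (relIndex_dvd.trans (Nrm2.card_sup_dvd (Or.inr h2))))
  have e' : res Q (res (Q ⊔ B) η) = res Q ψ := by rw [res_res le_sup_left, e]
  obtain ⟨β, hβ, e1, e2⟩ := H8.exists_mul_of_ext le_sup_left (sup_le le_N h1) (res_mem_chars hl (chars_of_irr hη))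
    (e' ▸ hφ) hψ (by rw [e', ip_irr_self hφ]; exact one_ne_zero)
  refine ⟨_, chars_mul (infl_mem_chars (norm_sup h1 h2) hd (res_mem_chars le_sup_right (chars_of_irr hβ)))
    (chars_of_irr hη), fun x hx => ?_⟩
  rw [e2, Pi.mul_apply, Pi.mul_apply, res_of_mem _ hx]
  obtain ⟨u, hu, b, hb, rfl⟩ := (mem_sup_of_norm' h1).1 hx
  rw [infl_mul hd (res_supp _ _) (mem_sup_left hu) hb, res_of_mem _ hb, e1 u hu]

theorem mem_of_orbit (hU : (Nat.card U).Prime) (hc : Cop U Q) (hd : d ∈ Q) (h : ∀ a ∈ U, a ≠ 1 → a * d * a⁻¹ ∈ M) :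
    ∃ c ∈ Q, ∃ e ∈ Q ⊓ C(U), ∃ m ∈ M, d * m = c⁻¹ * e * c := by
  obtain ⟨u, hu1, rfl⟩ := exists_gen_of_prime hU
  have hu := mem_zpowers u
  have a1 : ∀ k, k < orderOf u → ∃ m ∈ Q ⊓ M, (d * u) ^ (k + 1) = d * m * u ^ (k + 1) := by
    intro k
    induction k with
    | zero => exact fun _ => ⟨1, one_mem _, by simp⟩
    | succ k ih =>
      intro hk
      obtain ⟨m, hm, e⟩ := ih (by omega)
      refine ⟨m * (u ^ (k + 1) * d * (u ^ (k + 1))⁻¹), mul_mem hm ⟨conj_mem hc.norm (pow_mem hu _) hd,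
        h _ (pow_mem hu _) (pow_ne_one_of_lt_orderOf (by omega) hk)⟩, ?_⟩
      rw [pow_succ, e]; group
  have h0 := orderOf_pos u
  obtain ⟨m, hm, e⟩ := a1 (orderOf u - 1) (by omega)
  rw [Nat.sub_add_cancel h0, pow_orderOf_eq_one, mul_one] at e
  have hUp := piGrp_of_prime hU rfl
  have hQ : PiGrp {Nat.card (zpowers u)}ᶜ Q := (piNat_compl_iff_coprime hU).2 hc.cop.symm
  have hdu : d * u ∈ Q ⊔ zpowers u := mul_mem_sup' hd hu
  have a2 : piPart {Nat.card (zpowers u)} (d * u) ≠ 1 := fun e => hu1 (eq_one_of_eq_bot hc.inf_eq_bot ⟨hu,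
    (Q.mul_mem_cancel_left hd).1 ((hall_of_sup hQ hUp.compl_compl (Or.inr hc.norm)).mem_of_nml (sup_le le_N hc.norm) hdu
      (piPart_eq_one_iff.1 e))⟩)
  obtain ⟨g, hg, a3⟩ := sylow_le_cj hU (hall_of_sup' hUp hQ (Or.inl hc.norm)) (piElt_piPart (x := d * u)).zpowers
    (zpowers_le_of_mem (piPart_mem hdu))
  rw [cj_zpowers, zpowers_le] at a3
  have a4 : g * (d * m) * g⁻¹ ∈ C(zpowers u) := by
    rw [← C1_eq_of_prime hU a3 (by rwa [Ne, conj_eq_one_iff']), ← cj_C1, conj_mem_cj_iff, ← e]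
    exact C1_le_piPart (pow_mem C1_self _)
  obtain ⟨t, ht, c, hc', rfl⟩ := (mem_sup_of_norm hc.norm).1 (sup_comm Q _ ▸ hg)
  refine ⟨c, hc', c * (d * m) * c⁻¹, ⟨conj_mem le_N hc' (mul_mem hd hm.1), ?_⟩, m, hm.2, by group⟩
  have := conj_mem' (norm_C le_N) ht a4
  rwa [show t⁻¹ * (t * c * (d * m) * (t * c)⁻¹) * t = c * (d * m) * c⁻¹ by group] at this

/-- `A` is nonabelian of order `pq` with normal subgroup `U` of prime order -/
structure PQ (p q : ℕ) (A U : Subgroup G) : Prop where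
  hp : p.Prime
  hq : q.Prime
  card : Nat.card A = p * q
  cU : Nat.card U = q
  nml : U ⊴ A
  na : ¬ Abel A

theorem exists_PQ (hp : p.Prime) (hq : q.Prime) (h : p < q) (hA : Nat.card A = p * q) (na : ¬ Abel A) : ∃ U, PQ p q A U := by
  obtain ⟨S, hS, e⟩ := cauchy_sub hp (hA ▸ Dvd.intro _ rfl : p ∣ Nat.card A)
  have h1 : Hall {p} S A := hall_of_card_mul hS (piGrp_of_prime hp e) ((piNat_self hq).p'_of_ne h.ne') (by rw [hA, e])
  have h2 := cyclic_pdiv_normal_complement hp h1 (cyc_of_prime (e ▸ hp)) fun r hr hd => by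
    rcases (Nat.Prime.dvd_mul hr).1 (hA ▸ hd) with b | b
    · exact ((Nat.prime_dvd_prime_iff_eq hr hp).1 b).ge
    · exact h.le.trans ((Nat.prime_dvd_prime_iff_eq hr hq).1 b).ge
  have h3 := h1.card_mul_compl h2
  rw [hA, e] at h3
  exact ⟨_, hp, hq, hA, Nat.eq_of_mul_eq_mul_left hp.pos h3, pcore_nml, na⟩

namespace PQ
theorem prU (h : PQ p q A U) : (Nat.card U).Prime := h.cU ▸ h.hq
theorem lt (h : PQ p q A U) : U < A := lt_of_le_of_ne h.nml.le fun e => h.na (e ▸ abel_of_prime h.prU)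
theorem solv (h : PQ p q A U) : Solv A := solv_of_quo h.nml.norm (Cyc.solv (cyc_of_prime (by
  have := card_quo_mul h.nml
  rw [h.card, h.cU, mul_comm p] at this
  rw [Nat.eq_of_mul_eq_mul_left h.hq.pos this]; exact h.hp))) (abel_of_prime h.prU).solv
theorem pr (h : PQ p q A U) (h1 : B < A) (h0 : B ≠ ⊥) : (Nat.card B).Prime := sub_pq h.hp h.hq h.card h1 h0
theorem sup (h : PQ p q A U) (h1 : B < A) (h0 : B ≠ ⊥) (hne : B ≠ U) : U ⊔ B = A :=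
  sup_pq h.hp h.hq h.card _ h.lt _ h1 (ne_bot_of_prime h.prU) h0 hne.symm
theorem inf (h : PQ p q A U) (h1 : B < A) (h0 : B ≠ ⊥) (hne : B ≠ U) : U ⊓ B = ⊥ :=
  prime_TI h.prU fun e => hne (eq_of_prime (h.pr h1 h0) e (ne_bot_of_prime h.prU)).symm
theorem cardB (h : PQ p q A U) (h1 : B < A) (h0 : B ≠ ⊥) (hne : B ≠ U) : Nat.card B = p := by
  have := Nrm2.card_sup_of_disj (Or.inr (h1.le.trans h.nml.norm)) (h.inf h1 h0 hne)
  rw [h.sup h1 h0 hne, h.card, h.cU, mul_comm p] at this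
  exact (Nat.eq_of_mul_eq_mul_left h.hq.pos this).symm
theorem ncent (h : PQ p q A U) (h1 : B < A) (h0 : B ≠ ⊥) (hne : B ≠ U) : ¬ U ≤ C(B) := fun e =>
  h.na (h.sup h1 h0 hne ▸ (abel_of_prime h.prU).sup (abel_of_prime (h.pr h1 h0)) e)
theorem exists_T (h : PQ p q A U) : ∃ T < A, T ≠ ⊥ ∧ T ≠ U := by
  obtain ⟨a, ha, ha'⟩ := SetLike.exists_of_lt h.lt
  exact ⟨zpowers a, lt_of_le_of_ne (zpowers_le_of_mem ha) fun e => h.na (e ▸ abel_zpowers),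
    fun e => ha' (eq_one_of_eq_bot e (mem_zpowers a) ▸ U.one_mem), fun e => ha' (e ▸ mem_zpowers a)⟩
theorem dvd (h : PQ p q A U) : p ∣ q - 1 := by
  obtain ⟨T, h1, h0, hne⟩ := h.exists_T
  rw [← h.cardB h1 h0 hne, ← h.cU]
  exact (semireg_prime (h.pr h1 h0) (prime_TI h.prU (h.ncent h1 h0 hne))).dvd_pred (h1.le.trans h.nml.norm)
theorem sup_cj (h : PQ p q A U) (h1 : B < A) (h0 : B ≠ ⊥) (hne : B ≠ U) (ha : a ∈ U) (ha1 : a ≠ 1) : B ⊔ cj a B = A := by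
  refine sup_pq h.hp h.hq h.card _ h1 _ (cj_eq_self_of_mem (h.nml.le ha) ▸ cj_lt_cj.2 h1) h0 (by simpa using h0) fun e =>
    h.ncent h1 h0 hne (cent_of_inf_eq_bot ?_ (h1.le.trans h.nml.norm) (h.inf h1 h0 hne))
  rw [← zpowers_eq_of_prime h.prU ha ha1]
  exact zpowers_le_of_mem (mem_N_iff_cj.2 e.symm)
theorem le_comm_sup (h : PQ p q A U) (h1 : B < A) (h0 : B ≠ ⊥) (hne : B ≠ U) (ha : a ∈ U) (ha1 : a ≠ 1) (hc : Cop A P)
    (hf : P ⊓ C(A) = ⊥) : P ≤ ⁅P, B⁆ ⊔ cj a ⁅P, B⁆ := by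
  have e : cj a ⁅P, B⁆ = ⁅P, cj a B⁆ := by rw [cj_comm, cj_eq_self (hc.norm (h.nml.le ha))]
  have b : ⁅P, B⁆ ⊔ ⁅P, cj a B⁆ ≤ P := sup_le (comm_le_left (h1.le.trans hc.norm))
    (comm_le_left ((cj_le_of_mem h1.le (h.nml.le ha)).trans hc.norm))
  refine (hc.comm_eq_of_cent hf).ge.trans ?_
  rw [← h.sup_cj h1 h0 hne ha ha1, e]
  exact comm_sup_le' le_sup_left le_sup_right (norm_of_comm_le_of_le le_sup_left b) (norm_of_comm_le_of_le le_sup_right b)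
theorem cent_le (h : PQ p q A U) (h1 : B < A) (h0 : B ≠ ⊥) (hne : B ≠ U) (hc : Cop A Q) (hf : Q ⊓ C(A) = ⊥) (hX : X ≤ Q)
    (hn : B ≤ N(X)) : X ⊓ C(U) ≤ ⁅X, B⁆ := by
  rw [← (hc.mono h1.le (inf_le_left.trans hX) (norm_inf hn (norm_C (h1.le.trans h.nml.norm)))).comm_eq_of_cent (by
    rw [inf_assoc, ← C_sup, h.sup h1 h0 hne, eq_bot_iff, ← hf]; exact inf_le_inf_right _ hX)]
  exact comm_mono inf_le_left le_rfl

theorem endgame (h : PQ p q A U) {s : ℕ} (t : Tw r s A P Q V) (h1 : B < A) (h0 : B ≠ ⊥) (hne : B ≠ U) (hK : K ⊴ Q)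
    (hB : B ≤ TK Q K) (e : ⁅Q, P⁆ = Q) (hN : ⁅Q, ⁅P, B⁆⁆ ≤ K) : Q ≤ K := by
  classical
  set R := ⁅P, B⁆ with hR
  set M := ⁅Q, R⁆ with hM
  have hRP : R ≤ P := comm_le_left (h1.le.trans t.cP.norm)
  have hMQ : M ≤ Q := comm_le_left (hRP.trans t.nQ)
  have nM : P ≤ N(M) := norm_comm t.nQ norm_comm_left
  have key : ∀ s : Finset G, (∀ a ∈ s, a ∈ U ∧ a ≠ 1) → ∃ X ≤ Q, P ≤ N(X) ∧ (∀ a ∈ s, X ≤ cj a M) ∧ Q ≤ X ⊔ M := by
    intro s
    induction s using Finset.induction_on with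
    | empty => exact fun _ => ⟨Q, le_rfl, t.nQ, by simp, le_sup_left⟩
    | insert a s _ ih =>
      intro hs
      obtain ⟨X, b1, b2, b3, b4⟩ := ih fun b hb => hs b (Finset.mem_insert_of_mem hb)
      obtain ⟨ha, ha1⟩ := hs a (Finset.mem_insert_self _ _)
      have haP := t.cP.norm (h.nml.le ha)
      have c1 : cj a R ≤ P := cj_le_of_mem_N hRP haP
      have c2 : P ≤ N(cj a R) := cj_eq_self haP ▸ cj_norm_iff.2 norm_comm_left
      have c3 : ⁅X, cj a R⁆ ≤ X := comm_le_left (c1.trans b2)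
      have c4 : P ≤ N(⁅X, cj a R⁆ ⊔ M) := norm_sup (norm_comm b2 c2) nM
      refine ⟨⁅X, cj a R⁆, c3.trans b1, norm_comm b2 c2, fun b hb => ?_, ?_⟩
      · rcases Finset.mem_insert.1 hb with rfl | hb
        · rw [hM, cj_comm (A := Q), cj_eq_self (t.cQ.norm (h.nml.le ha))]; exact comm_mono b1 le_rfl
        · exact c3.trans (b3 b hb)
      refine e.ge.trans ((comm_mono le_rfl (h.le_comm_sup h1 h0 hne ha ha1 t.cP t.fP)).trans
        (comm_sup_le' le_sup_right ((comm_mono b4 le_rfl).trans (comm_sup_le le_sup_left ?_ ?_ (le_norm le_sup_right)))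
          (hRP.trans c4) (c1.trans c4)))
      · exact (comm_le_left (c1.trans nM)).trans le_sup_right
      · exact norm_sup norm_comm_left (b1.trans norm_comm_left)
  obtain ⟨X, b1, -, b3, b4⟩ := key ((els U).erase 1) fun a ha =>
    ⟨mem_els.1 (Finset.mem_of_mem_erase ha), Finset.ne_of_mem_erase ha⟩
  refine le_of_cm_le t.piQ.nil hK fun z hz => ?_
  have hKZ : K ≤ cm Q Q K := (le_inf hK.le le_rfl).trans (inf_le_cm hK.norm hK.norm)
  have nZ : Q ≤ N(cm Q Q K) := norm_cm le_N le_N hK.norm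
  obtain ⟨d, hd, n, hn, rfl⟩ := (mem_sup_of_norm (b1.trans norm_comm_left)).1 (b4 hz.1)
  refine mul_mem ?_ (hN hn)
  have hdZ := (Subgroup.mul_mem_cancel_right _ (hKZ (hN hn))).1 hz
  obtain ⟨c, hc, x, hx, m, hm, e1⟩ := mem_of_orbit (M := M) h.prU (t.cQ.left h.nml.le) (b1 hd) fun a ha ha1 => by
    simpa using mem_cj.1 (b3 a⁻¹ (Finset.mem_erase.2 ⟨inv_ne_one.2 ha1, mem_els.2 (inv_mem ha)⟩) hd)
  have b5 : x ∈ cm Q Q K := by
    have := conj_mem nZ hc (e1 ▸ mul_mem hdZ (hKZ (hN hm)))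
    rwa [show c * (c⁻¹ * x * c) * c⁻¹ = x by group] at this
  have b6 : x ∈ K := (comm_mono le_rfl hB).trans (comm_TK hK) (h.cent_le h1 h0 hne t.cQ t.fQ cm_le
    (norm_cm (h1.le.trans t.cQ.norm) (h1.le.trans t.cQ.norm) (hB.trans TK_le)) ⟨b5, hx.2⟩)
  exact (Subgroup.mul_mem_cancel_right _ (hN hm)).1 (e1 ▸ conj_mem' hK.norm hc b6)

theorem core (h : PQ p q A U) {s : ℕ} (t : Tw r s A P Q V) (e : ⁅Q, P⁆ = Q) (h2 : ⁅⁅Q, Q⁆, Q⁆ ≤ C(V)) : Q ≤ C(V) := by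
  by_contra hne
  obtain ⟨K, hK⟩ := exists_MK hne
  obtain ⟨B, hB⟩ := t.exists_ty_cj hK (abel_pq h.hp h.hq h.card) (sup_pq h.hp h.hq h.card)
  obtain ⟨ψ, y⟩ := hB 1 P.one_mem
  rw [cj_one] at y
  have hBp := h.pr y.lt y.ne
  have hQ0 : Q ≠ ⊥ := fun e => hne (e ▸ bot_le)
  have hs := t.piQ.prime hQ0
  have cp : (∀ e, 0 < e → s ^ e + 1 ≠ Nat.card B) → ∀ g ∈ P, ⁅Q, B⁆ ≤ cj g K := fun hx g hg => by
    obtain ⟨ψ, y⟩ := hB g hg
    exact y.le_ker (comm_le_left (y.lt.le.trans t.cQ.norm)) (corePrime hBp (chars_of_irr y.irr) le_sup_right y.sum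
      le_sup_left t.piQ (t.cQ.left y.lt.le) hx)
  by_cases hU : B = U
  · subst hU
    obtain ⟨T, a1, a2, a3⟩ := h.exists_T
    refine hK.not_le (e ▸ t.G2 hK.nml h.nml (h.pr a1 a2) (h.sup a1 a2 a3) (cp fun f _ e1 => ?_))
    have a4 := h.dvd
    rw [← h.cU, ← e1, Nat.add_sub_cancel] at a4
    have a5 := (Nat.prime_dvd_prime_iff_eq h.hp hs).1 (h.hp.dvd_of_dvd_pow a4)
    exact h.hp.one_lt.ne' (Nat.eq_one_of_dvd_coprimes t.cQ.cop (h.card ▸ Dvd.intro _ rfl) (a5 ▸ t.piQ.dvd_card hQ0))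
  refine hK.not_le (h.endgame t y.lt y.ne hU hK.nml (y.le_TK t.cQ.norm) e ?_)
  by_cases hx : ∀ e, 0 < e → s ^ e + 1 ≠ Nat.card B
  · exact t.G1 hK.nml (cp hx)
  push Not at hx
  obtain ⟨f, hf, e1⟩ := hx
  have par : ∀ {m n : ℕ}, m.Prime → m ≠ 2 → 0 < n → m ^ n + 1 ≠ Nat.card B := fun {m n} hm h2 hn e => by
    have a1 : Even (Nat.card B) := e ▸ (hm.odd_of_ne_two h2).pow.add_one
    have a2 := Nat.one_lt_pow hn.ne' hm.one_lt
    rw [hBp.even_iff.1 a1] at e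
    omega
  have hs2 : s = 2 := by by_contra e; exact par hs e hf e1
  have hRP : ⁅P, B⁆ ≤ P := comm_le_left (y.lt.le.trans t.cP.norm)
  by_cases hP : P = ⊥
  · rw [hP]; simp
  have hR : ⁅P, B⁆ ≤ TK Q K := commutator_le.2 fun g hg b hb => by
    obtain ⟨ψ', y'⟩ := hB g⁻¹ (inv_mem hg)
    have := y'.le_TK t.cQ.norm hb
    rw [← cj_TK hK.nml (t.nQ (inv_mem hg)), mem_cj, inv_inv] at this
    exact mul_mem this (inv_mem (y.le_TK t.cQ.norm hb))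
  have cB := t.cP.left y.lt.le
  obtain ⟨η, hη, e2⟩ := ext_trick (R := ⁅P, B⁆) y.irr y.rirr ((le_inf (hRP.trans t.nQ) (y.ker ▸ hR)).trans
    (TK_le_inertia y.rirr (y.der_le hK t.nV' h2))) (y.lt.le.trans t.cQ.norm) norm_comm_right
    (inf_eq_bot_of_coprime' (((coprime_mono t.cQ.cop y.lt.le le_rfl).mul_right cB.comm.cop).symm.coprime_dvd_left
      (Nrm2.card_sup_dvd (Or.inr (hRP.trans t.nQ)))))
    ((coprime_mono t.cPQ.cop hRP le_rfl).symm.mul_right (coprime_mono t.cQ.cop y.lt.le le_rfl).symm)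
  have a1 := corePrime hBp hη le_sup_right (by
    rw [Finset.sum_congr rfl fun x hx => e2 x (mem_sup_right (mem_els.1 hx)), y.sum]) (le_sup_right.trans le_sup_left)
    (t.piP.of_le hRP) cB.comm fun n hn => par (t.piP.prime hP) (hs2 ▸ t.ne) hn
  rw [cB.comm_comm] at a1
  have a2 : ⁅Q, ⁅P, B⁆⁆ ≤ Q := comm_le_left (hRP.trans t.nQ)
  have a3 : ⁅Q, ⁅P, B⁆⁆ ≤ charKer η := (comm_mono le_rfl a1).trans (comm_le_right
    ((le_sup_left.trans le_sup_left).trans (H1.norm_charKer (cf_of_chars hη))))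
  refine y.le_ker a2 fun x hx => ?_
  have b := mem_sup_left (T := B) (a2 hx)
  rw [H1.mem_charKer_iff (chars_of_irr y.irr) b, ← e2 x b, ← e2 1 (one_mem _)]
  exact apply_eq_of_mem_charKer (a3 hx)

theorem der_le_comm (h : PQ 2 3 A U) (h1 : B < A) (h0 : B ≠ ⊥) (hc : Cop A Q) (hf : Q ⊓ C(A) = ⊥) : ⁅Q, Q⁆ ≤ ⁅Q, B⁆ := by
  by_cases hne : B = U
  · subst hne
    obtain ⟨T, a1, a2, a3⟩ := h.exists_T
    obtain ⟨t, -, rfl⟩ := exists_gen_of_prime (h.pr a1 a2)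
    have a4 : Abel (Q ⊓ C(B)) := H23.abel_of_reg_invol (t := t)
      (norm_inf (a1.le.trans hc.norm) (norm_C (a1.le.trans h.nml.norm)) (mem_zpowers t))
      (by rw [← C_zpowers, inf_assoc, ← C_sup, h.sup a1 a2 a3, hf])
      (by rw [← pow_two]; exact pow_eq_one_of_card (h.cardB a1 a2 a3) (mem_zpowers t))
    have a5 := der_sup_le (A := ⁅Q, B⁆) (B := Q ⊓ C(B)) (inf_le_left.trans norm_comm_left)
    rwa [(hc.left h1.le).comm_sup, a4.der, sup_bot_eq] at a5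
  obtain ⟨u, hu1, hu⟩ := exists_gen_of_prime h.prU
  have huU : u ∈ U := hu ▸ mem_zpowers u
  set M := ⁅Q, B⁆ with hM
  have hn : M ⊴ Q := ⟨comm_le_left (h1.le.trans hc.norm), norm_comm_left⟩
  have hn' : ∀ a ∈ U, cj a M ⊴ Q := fun a ha => cj_eq_self (hc.norm (h.nml.le ha)) ▸ hn.cj a
  have a1 : cj u M ⊓ cj u⁻¹ M ≤ M := fun d hd => by
    obtain ⟨c, hc', x, hx, m, hm, e1⟩ := mem_of_orbit (M := M) h.prU (hc.left h.nml.le) ((hn' u huU).le hd.1) fun a ha ha1 => by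
      have b1 := pow_eq_one_of_card h.cU huU
      have b2 : orderOf u = 3 := by rw [← card_zpowers', hu, h.cU]
      classical
      obtain ⟨k, hk, rfl⟩ := Finset.mem_image.1 (mem_zpowers_iff_mem_range_orderOf.1 (hu ▸ ha))
      rw [b2, Finset.mem_range] at hk
      interval_cases k
      · simp at ha1
      · simpa using mem_cj.1 hd.2
      · rw [show u ^ 2 = u⁻¹ from eq_inv_of_mul_eq_one_left (by rw [← pow_succ, b1])]; simpa using mem_cj.1 hd.1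
    exact (Subgroup.mul_mem_cancel_right _ hm).1 (e1 ▸ conj_mem' hn.norm hc'
      (h.cent_le h1 h0 hne hc hf le_rfl (h1.le.trans hc.norm) hx))
  have a2 := hn' u huU
  have a3 := hn' _ (inv_mem huU)
  refine (comm_mono (h.le_comm_sup h1 h0 hne huU hu1 hc hf) (h.le_comm_sup h1 h0 hne (inv_mem huU) (inv_ne_one.2 hu1) hc hf)).trans
    (comm_sup_le (comm_le_left ((sup_le hn.le a3.le).trans hn.norm)) (comm_sup_le' (comm_le_right (a2.le.trans hn.norm))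
      ((a2.comm_le_inf a3).trans a1) le_N (a3.le.trans hn.norm)) le_N (a2.le.trans hn.norm))

theorem der_cent (h : PQ 2 3 A U) (t : Tw r q A ⊥ Q V) : ⁅Q, Q⁆ ≤ C(V) := by
  have := Fintype.ofFinite G
  have hl : ⁅Q, Q⁆ ≤ Q ⊔ A := der_le.trans le_sup_left
  refine H1.cent_of_forall_lift (L := Q ⊔ A) t.sV (sup_le t.nV' t.cV.norm) t.cVL hl fun ℓ _ ξ hξ e =>
    red hξ le_rfl le_sup_right hl (by rw [e A le_sup_right, t.fV]; simp) fun χ hχ _ hs => ?_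
  obtain ⟨θ, hθ, h1⟩ := exists_irr_under le_sup_left (chars_of_irr hχ) (irr_ne_zero hχ)
  refine fun x hx => ((sub_cfker_constt le_sup_left (sup_le (norm_der le_N) (norm_der t.cQ.norm)) der_le hθ hχ h1).2 ?_ hx).2
  rcases (inf_le_left : A ⊓ inertia Q θ ≤ A).lt_or_eq with hB | hB
  swap
  · exact der_le.trans (le_of_le_TK t.piQ.nil (cfker_nml (cf_of_irr hθ)) t.cQ t.fQ
      ((hB.ge.trans inf_le_right).trans (inertia_le_TK hθ)))
  obtain ⟨b1, ψ, hψ, rfl, b2⟩ := cliff' (sd_sup t.cQ.norm t.cQ.inf_eq_bot') t.cQ.cop.symm hχ hθ h1 rfl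
    (abel_pq h.hp h.hq h.card _ hB) hs
  by_cases hQ : Q = ⊥
  · exact der_le.trans (hQ.le.trans bot_le)
  refine (h.der_le_comm hB b1 t.cQ t.fQ).trans (Ty.le_ker ⟨hB, b1, hψ, hθ, rfl, b2⟩ (comm_le_left (hB.le.trans t.cQ.norm))
    (corePrime (h.pr hB b1) (chars_of_irr hψ) le_sup_right b2 le_sup_left t.piQ (t.cQ.left hB.le) fun f hf e1 => ?_))
  have a1 := t.piQ.prime hQ
  have a2 : q ≠ 2 := fun e => Nat.prime_two.one_lt.ne' (Nat.eq_one_of_dvd_coprimes t.cQ.cop (h.card ▸ Dvd.intro _ rfl) (e ▸ t.piQ.dvd_card hQ))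
  have a3 := Nat.le_self_pow hf.ne' q
  have a4 := a1.two_le
  have a5 := Nat.le_of_dvd (by norm_num) (h.card ▸ card_dvd hB.le)
  have a6 := h.pr hB b1
  have a7 : Even (q ^ f + 1) := (a1.odd_of_ne_two a2).pow.add_one
  rw [e1, a6.even_iff] at a7
  omega
end PQ

theorem lns_two_of_PQ (h : PQ p q A U) (hc : Cop A K) (hs : Solv K) (h0 : K ⊓ C(A) = ⊥) : lns 2 K = ⊥ :=
  lns_two_of_tw hc hs h.solv h0 fun _ _ _ Q _ t e => e ▸ tw_ind (fun _ t e h2 => h.core t e h2) Q t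

theorem lns_two_of_pq (hp : p.Prime) (hq : q.Prime) (hne : p ≠ q) (hA : Nat.card A = p * q) (na : ¬ Abel A)
    (hn : A ≤ N(K)) (hc : (Nat.card A).Coprime (Nat.card K)) (hs : Solv K) (h0 : K ⊓ C(A) = ⊥) : lns 2 K = ⊥ := by
  rcases hne.lt_or_gt with h | h
  · obtain ⟨U, hU⟩ := exists_PQ hp hq h hA na
    exact lns_two_of_PQ hU ⟨hn, hc, Or.inr hs⟩ hs h0
  · obtain ⟨U, hU⟩ := exists_PQ hq hp h (hA.trans (mul_comm _ _)) na
    exact lns_two_of_PQ hU ⟨hn, hc, Or.inr hs⟩ hs h0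

theorem der_le_fit_of_six (hA : Nat.card A = 6) (na : ¬ Abel A) (hc : Cop A K) (hs : Solv K) (h0 : K ⊓ C(A) = ⊥) :
    ⁅K, K⁆ ≤ F(K) := by
  obtain ⟨U, h⟩ := exists_PQ Nat.prime_two Nat.prime_three (by norm_num) hA na
  have hF : F(K) ⊴ K := fit_nml
  have a1 : Nil (K ⫽ F(K)) := lns_one_eq_bot_iff.1 (lns_succ_eq_bot_iff'.1 (lns_two_of_PQ h hc hs h0))
  rw [← abel_quo_iff hF.norm]
  refine a1.le_of_pcores fun q hq _ => ?_
  obtain ⟨Q, hQ, hn⟩ := hc.exists_sylow hq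
  have hV : O[{q}ᶜ](F(K)) ⊴ K := hF.pcore
  have b : ∀ X ≤ K, X ⊓ C(A) = ⊥ := fun X hX => eq_bot_iff.2 ((inf_le_inf_right _ hX).trans h0.le)
  have a2 := h.der_cent (r := q + 1) ⟨by omega, PiGrp.bot, hQ.pi, pcore_pi, h.solv, hs.of_le hV.le, hc.sub bot_le (by simp),
    hc.sub hQ.le hn, hc.sub hV.le (norm_pcore (norm_fit hc.norm)), bot_le, bot_le, hQ.le.trans hV.norm,
    b _ (sup_le hQ.le bot_le), b _ hV.le⟩
  have a3 := (abel_quo_iff (hQ.le.trans hF.norm)).2 (le_fit_of_cent (der_le.trans hQ.le) (hQ.pi.of_le der_le)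
    ((mim_mono (der_le.trans hQ.le)).trans a1.fit_eq.ge) a2)
  rw [a1.hall_eq (hQ.mim hF.norm)] at a3
  exact (cent_sup a3 pcore_cent_compl).trans (C_anti a1.pcore_sup.ge)

end H5
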