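import Cfsg.Agent.H18.BG1
import Cfsg.Agent.H9.IsoP
import Cfsg.Prelude.Def_IsolatedElements
/-! Minimal counterexamples to the `Z*_p` statement: translation of `InZStar` for subgroups and quotients into
subgroup language, triviality of `O_{p'}(G)`, and conjugacy of isolated elements inside subgroups. -/
namespace H5.ZsP
open H18 Subgroup _root_.Cfsg
open H1 (Cop cop_of_pi cop_of_pi')
open scoped commutatorElement
variable {G : Type*} [Group G] [Finite G] {p : ℕ} {x : G}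

omit [Finite G] in
theorem comm_zpowers_le {H K : Subgroup G} (hx : x ∈ N(K)) (h : ∀ g ∈ H, g * x * g⁻¹ * x⁻¹ ∈ K) :
    ⁅H, zpowers x⁆ ≤ K := by
  rw [commutator_le]
  intro g hg y hy
  let W : Subgroup G :=
    { carrier := {y | y ∈ N(K) ∧ g * y * g⁻¹ * y⁻¹ ∈ K}
      one_mem' := ⟨one_mem _, by simp⟩
      mul_mem' := fun {a b} ha hb => ⟨mul_mem ha.1 hb.1, by
        have := K.mul_mem ha.2 (conj_mem_N ha.1 hb.2)
        convert this using 1; group⟩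
      inv_mem' := fun {a} ha => ⟨inv_mem ha.1, by
        have := conj_mem_N' ha.1 (K.inv_mem ha.2)
        convert this using 1; group⟩ }
  have : zpowers x ≤ W := (zpowers_le).2 ⟨hx, h g hg⟩
  exact (this hy).2

theorem sub_comm (hp : p.Prime) {H : Subgroup G} (hx : x ∈ H) (h : InZStar p (⟨x, hx⟩ : H)) :
    ⁅H, zpowers x⁆ ≤ O[{p}ᶜ](H) := by
  refine comm_zpowers_le (pcore_nml.norm hx) fun g hg => ?_
  rw [← pPrimeCore_map hp]
  exact ⟨_, h ⟨g, hg⟩, rfl⟩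

theorem quo_comm (hp : p.Prime) (N : Subgroup G) [N.Normal] (h : InZStar p (QuotientGroup.mk x : G ⧸ N)) :
    ∃ M, M ⊴ ⊤ ∧ N ≤ M ∧ PiNat {p}ᶜ (N.relIndex M) ∧ ⁅(⊤ : Subgroup G), zpowers x⁆ ≤ M := by
  have hM : qpre N O[{p}ᶜ](⊤ ⫽ N) ⊴ ⊤ := qpre_pcore_nml nml_top
  refine ⟨_, hM, le_qpre, qpre_pcore_idx, comm_zpowers_le (hM.norm trivial) fun g _ => ?_⟩
  rw [← comap_pcore, ← pPrimeCore_eq hp]
  exact h (g : G ⧸ N)

theorem not_comm_le (hp : p.Prime) (h : ¬ InZStar p x) :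
    ¬ ⁅(⊤ : Subgroup G), zpowers x⁆ ≤ O[{p}ᶜ]((⊤ : Subgroup G)) := fun e => h fun g => by
  rw [pPrimeCore_eq hp]
  exact e (commutator_mem_commutator (mem_top g) (mem_zpowers x))

theorem core_eq_bot (hp : p.Prime) (hnz : ¬ InZStar p x)
    (hquot : ∀ (N : Subgroup G) [N.Normal], N ≠ ⊥ → InZStar p (QuotientGroup.mk x : G ⧸ N)) :
    O[{p}ᶜ]((⊤ : Subgroup G)) = ⊥ := by
  by_contra h
  haveI := (pcore_nml (π := {p}ᶜ) (H := (⊤ : Subgroup G))).normal
  obtain ⟨M, h1, h2, h3, h4⟩ := quo_comm hp _ (hquot _ h)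
  exact not_comm_le hp hnz (h4.trans (le_pcore h1 (piGrp_of_relIndex h2 pcore_pi h3)))

/-- conjugates of an isolated `p`-element inside a subgroup are conjugate in the subgroup -/
theorem conj_in (hp : p.Prime) (hx : PiElt {p} x) (hiso : IsIsolated x) {H : Subgroup G} (hxH : x ∈ H) {g : G}
    (hg : g * x * g⁻¹ ∈ H) : ∃ h ∈ H, h * (g * x * g⁻¹) * h⁻¹ = x := by
  haveI := Fact.mk hp
  obtain ⟨P, hP, hxP⟩ := exists_sylow_le hp hx.zpowers (zpowers_le.2 hxH)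
  obtain ⟨h, hh, e⟩ := sylow_le_cj hp hP (hx.conj g).zpowers (zpowers_le.2 hg)
  refine ⟨h, hh, H9.iso_eq_of_mem hiso hP.pi.isPGroup (hxP (mem_zpowers x)) ?_ (e (conj_mem_cj (mem_zpowers _)))⟩
  exact isConj_iff.2 ⟨h * g, by group⟩

end H5.ZsP
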